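import Cfsg.Agent.Lib.H3.Omega2
import Cfsg.Agent.Lib.H3.AlpFus
import Cfsg.Agent.Lib.Trans.Basic
import Cfsg.Agent.Lib.SS.Gaschutz
import Cfsg.Agent.Lib.Fusion.Hyper
import Cfsg.Agent.Lib.FGS.Syl

/-! `H`-subgroups (`E^g ∩ N(E) ≤ E`): Tate's theorem and a normal complement criterion. -/

set_option autoImplicit false
set_option linter.unusedSectionVars false
set_option linter.style.haveILetI false

namespace CfsgLib.Local.HSub

open Cfsg Subgroup CfsgLib.Solv
open scoped Pointwise commutatorElement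

universe u

section quot

variable {p : ℕ} [Fact p.Prime]

/-- An automorphism of order prime to `p - 1` acts trivially on a quotient of order `p`. -/
theorem aut_trivial_quot {R : Type*} [Group R] [Finite R] (R₀ : Subgroup R) [R₀.Normal] (hidx : R₀.index = p)
    (φ : MulAut R) (hφ : R₀.map φ.toMonoidHom = R₀) (n : ℕ) (hn : φ ^ n = 1) (hcop : n.Coprime (p - 1)) :
    ∀ x : R, φ x * x⁻¹ ∈ R₀ := by
  have hp : p.Prime := Fact.out
  have hcard : Nat.card (R ⧸ R₀) = p := hidx
  haveI : IsCyclic (R ⧸ R₀) := isCyclic_of_prime_card hcard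
  let ψ : MulAut (R ⧸ R₀) := QuotientGroup.congr R₀ R₀ φ hφ
  have hψ1 : ∀ x : R, ψ (x : R ⧸ R₀) = ((φ x : R) : R ⧸ R₀) := fun x => rfl
  have hψ : ∀ (j : ℕ) (x : R), (ψ ^ j) (x : R ⧸ R₀) = (((φ ^ j) x : R) : R ⧸ R₀) := by
    intro j
    induction j with
    | zero => intro x; rfl
    | succ j ih =>
      intro x
      rw [pow_succ, pow_succ, MulAut.mul_apply, MulAut.mul_apply, hψ1, ih]
  have h1 : ψ ^ n = 1 := by
    ext a
    induction a using QuotientGroup.induction_on with
    | H x =>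
      rw [hψ, hn]
      rfl
  have h2 : ψ ^ (p - 1) = 1 := by
    have h3 : ψ ^ Nat.card (MulAut (R ⧸ R₀)) = 1 := pow_card_eq_one'
    rwa [IsCyclic.card_mulAut, hcard, Nat.totient_prime hp] at h3
  have h3 : ψ = 1 := by
    have h4 := pow_gcd_eq_one.mpr ⟨h1, h2⟩
    rwa [hcop.gcd_eq_one, pow_one] at h4
  intro x
  have h4 : ψ (x : R ⧸ R₀) = (x : R ⧸ R₀) := by rw [h3]; rfl
  rw [hψ1] at h4
  have h5 := (QuotientGroup.eq (s := R₀)).mp h4
  have h6 : φ x * x⁻¹ = x * ((φ x)⁻¹ * x)⁻¹ * x⁻¹ := by group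
  rw [h6]
  exact (inferInstance : R₀.Normal).conj_mem _ (R₀.inv_mem h5) x

end quot

section coprime

variable {G : Type*} [Group G] [Finite G] {p : ℕ} [Fact p.Prime]

/-- Orders of elements are prime to `p - 1` if `p` is the smallest prime divisor. -/
theorem coprime_pred (hmin : ∀ q : ℕ, q.Prime → q ∣ Nat.card G → p ≤ q) (m : G) :
    (orderOf m).Coprime (p - 1) := by
  have hp : p.Prime := Fact.out
  apply Nat.Coprime.symm
  apply Nat.coprime_of_dvd
  intro q hq h1 h2
  have h3 := hmin q hq ((orderOf_dvd_natCard m) |> h2.trans)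
  have h4 : q ≤ p - 1 := Nat.le_of_dvd (by have := hp.two_le; omega) h1
  have := hp.two_le
  omega

/-- Conjugation acts trivially on a normalized section of order `p`. -/
theorem conj_mod (hmin : ∀ q : ℕ, q.Prime → q ∣ Nat.card G → p ≤ q) {R R₀ : Subgroup G} (hle : R₀ ≤ R)
    (hn : R ≤ normalizer (R₀ : Set G)) (hidx : R₀.relIndex R = p) {m : G} (hm : m ∈ normalizer (R : Set G))
    (hm₀ : m ∈ normalizer (R₀ : Set G)) : ∀ x ∈ R, m * x * m⁻¹ * x⁻¹ ∈ R₀ := by
  intro x hx
  haveI hN : (R₀.subgroupOf R).Normal := (Subgroup.normal_subgroupOf_iff_le_normalizer hle).mpr hn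
  let φ : MulAut R := R.normalizerMonoidHom ⟨m, hm⟩
  have hφa : ∀ r : R, ((φ r : R) : G) = m * r * m⁻¹ := fun r => rfl
  have h1 : φ ^ orderOf m = 1 := by
    rw [← map_pow]
    have : (⟨m, hm⟩ : normalizer (R : Set G)) ^ orderOf m = 1 := by
      apply Subtype.ext
      simp [pow_orderOf_eq_one]
    rw [this, map_one]
  have hφ : (R₀.subgroupOf R).map φ.toMonoidHom = R₀.subgroupOf R := by
    have hle' : (R₀.subgroupOf R).map φ.toMonoidHom ≤ R₀.subgroupOf R := by
      rintro _ ⟨r, hr, rfl⟩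
      have hr' : (r : G) ∈ R₀ := hr
      exact Subgroup.mem_subgroupOf.mpr ((Subgroup.mem_normalizer_iff.mp hm₀ _).mp hr')
    refine Subgroup.eq_of_le_of_card_ge hle' ?_
    have hinj : Function.Injective (φ.toMonoidHom) := φ.injective
    exact (Subgroup.card_map_of_injective hinj).ge
  have h2 := aut_trivial_quot (R₀.subgroupOf R) hidx φ hφ _ h1 (coprime_pred hmin m) ⟨x, hx⟩
  rw [Subgroup.mem_subgroupOf] at h2
  simpa [hφa] using h2

/-- A coprime normalizing element centralizes a cyclic `p`-subgroup. -/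
theorem cyclic_centralize (hmin : ∀ q : ℕ, q.Prime → q ∣ Nat.card G → p ≤ q) {E : Subgroup G} (hE : IsPGroup p E)
    (hc : IsCyclic E) {y : G} (hy : y ∈ normalizer (E : Set G)) (hcop : (orderOf y).Coprime p) :
    y ∈ centralizer (E : Set G) := by
  have hp : p.Prime := Fact.out
  let φ : MulAut E := E.normalizerMonoidHom ⟨y, hy⟩
  have hφa : ∀ r : E, ((φ r : E) : G) = y * r * y⁻¹ := fun r => rfl
  have h1 : φ ^ orderOf y = 1 := by
    rw [← map_pow]
    have : (⟨y, hy⟩ : normalizer (E : Set G)) ^ orderOf y = 1 := by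
      apply Subtype.ext
      simp [pow_orderOf_eq_one]
    rw [this, map_one]
  have h2 : φ ^ Nat.card (MulAut E) = 1 := pow_card_eq_one'
  have h3 : φ = 1 := by
    have h4 := pow_gcd_eq_one.mpr ⟨h1, h2⟩
    have h5 : (orderOf y).Coprime (Nat.card (MulAut E)) := by
      rw [IsCyclic.card_mulAut]
      obtain ⟨k, hk⟩ := IsPGroup.iff_card.1 hE
      rw [hk]
      rcases eq_or_ne k 0 with rfl | hk0
      · simp
      · rw [Nat.totient_prime_pow hp (Nat.pos_of_ne_zero hk0)]
        exact Nat.Coprime.mul_right (Nat.Coprime.pow_right _ hcop) (coprime_pred hmin y)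
    rwa [h5.gcd_eq_one, pow_one] at h4
  rw [Subgroup.mem_centralizer_iff]
  intro a ha
  have h4 := hφa ⟨a, ha⟩
  rw [h3] at h4
  have h5 : a = y * a * y⁻¹ := h4
  calc a * y = (y * a * y⁻¹) * y := by rw [← h5]
    _ = y * a := by group

end coprime

section tate

variable {G : Type u} [Group G] [Finite G] {p : ℕ} [Fact p.Prime]

/-- **Tate's theorem** for `O^p(G)`: if `O^p(G) ∩ P ≤ Φ(P)`, then `O^p(G) ∩ P = 1`. -/
theorem tate_residual (P : Sylow p G)
    (h : ((pResidual p G).subgroupOf (P : Subgroup G)) ≤ frattini (P : Subgroup G)) :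
    pResidual p G ⊓ (P : Subgroup G) = ⊥ := by
  classical
  haveI hNn : (pResidual p G).Normal := CfsgLib.Tr.pResidual_normal p G
  set N := pResidual p G with hN
  have hQp : IsPGroup p (P : Subgroup G) := P.2
  haveI hQnil : Group.IsNilpotent (P : Subgroup G) := hQp.isNilpotent
  set Q₁ : Subgroup (P : Subgroup G) := N.subgroupOf (P : Subgroup G) with hQ₁
  haveI hQ₁n : Q₁.Normal := inferInstance
  let ρ : G →* G ⧸ N := QuotientGroup.mk' N
  let ι : (P : Subgroup G) →* G ⧸ N := ρ.comp (P : Subgroup G).subtype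
  have hιker : ι.ker = Q₁ := by
    ext u
    rw [MonoidHom.mem_ker, Subgroup.mem_subgroupOf]
    exact QuotientGroup.eq_one_iff _
  set M₀ : Subgroup (P : Subgroup G) := ⁅Q₁, (⊤ : Subgroup (P : Subgroup G))⁆ with hM₀
  haveI hM₀n : M₀.Normal := Subgroup.commutator_normal _ _
  have hM₀Q : M₀ ≤ Q₁ := Subgroup.commutator_le_left _ _
  have hM₀ker : M₀ ≤ ι.ker := by rw [hιker]; exact hM₀Q
  let C := (P : Subgroup G) ⧸ M₀
  have hCp : IsPGroup p C := hQp.to_quotient M₀
  let ψ : C →* G ⧸ N := QuotientGroup.lift M₀ ι hM₀ker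
  have hψmk : ∀ u : (P : Subgroup G), ψ (u : C) = ρ u := fun u => rfl
  have hψs : Function.Surjective ψ := by
    intro y
    obtain ⟨g, rfl⟩ := QuotientGroup.mk'_surjective N y
    obtain ⟨β, hβ, τ, hτ, rfl⟩ := CfsgLib.Fusion.exists_residual_mul_sylow P g
    refine ⟨((⟨τ, hτ⟩ : (P : Subgroup G)) : C), ?_⟩
    rw [hψmk]
    have h1 : ρ β = 1 := (QuotientGroup.eq_one_iff _).2 hβ
    show ρ τ = ρ (β * τ)
    rw [map_mul, h1, one_mul]
  -- the fibre product
  let X : Subgroup (G × C) := MonoidHom.eqLocus (ρ.comp (MonoidHom.fst G C)) (ψ.comp (MonoidHom.snd G C))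
  have hXmem : ∀ (g : G) (c : C), (g, c) ∈ X ↔ ρ g = ψ c := fun g c => Iff.rfl
  let pr : X →* G := (MonoidHom.fst G C).comp X.subtype
  have hprs : Function.Surjective pr := by
    intro g
    obtain ⟨c, hc⟩ := hψs (ρ g)
    exact ⟨⟨(g, c), hc.symm⟩, rfl⟩
  let K : Subgroup X := pr.ker
  haveI hKn : K.Normal := MonoidHom.normal_ker pr
  have hKc : ∀ a ∈ K, ∀ b : X, a * b = b * a := by
    rintro ⟨⟨g, c⟩, hc⟩ ha ⟨⟨g', c'⟩, hc'⟩
    have hg : g = 1 := ha
    subst hg
    obtain ⟨u, rfl⟩ := QuotientGroup.mk'_surjective M₀ c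
    obtain ⟨v, rfl⟩ := QuotientGroup.mk'_surjective M₀ c'
    have hu : u ∈ Q₁ := by
      rw [← hιker, MonoidHom.mem_ker]
      have h1 : ρ 1 = ψ (u : C) := hc
      rw [map_one] at h1
      exact h1.symm
    apply Subtype.ext
    apply Prod.ext
    · show (1 : G) * g' = g' * 1
      simp
    · show (u : C) * (v : C) = (v : C) * (u : C)
      have h2 : ⁅u⁻¹, v⁻¹⁆ ∈ M₀ := Subgroup.commutator_mem_commutator (Q₁.inv_mem hu) (mem_top _)
      have h3 : (v * u)⁻¹ * (u * v) ∈ M₀ := by
        have e : (v * u)⁻¹ * (u * v) = ⁅u⁻¹, v⁻¹⁆ := by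
          rw [commutatorElement_def]; group
        rw [e]; exact h2
      exact ((QuotientGroup.eq (s := M₀)).mpr h3).symm
  haveI hKab : IsMulCommutative K := ⟨⟨fun a b => Subtype.ext (hKc a a.2 b)⟩⟩
  let U : Subgroup X := (P : Subgroup G).comap pr
  have hKU : K ≤ U := by
    intro a ha
    show pr a ∈ (P : Subgroup G)
    rw [MonoidHom.mem_ker.mp ha]
    exact one_mem _
  have hUidx : U.index = (P : Subgroup G).index := Subgroup.index_comap_of_surjective _ hprs
  have hKp : IsPGroup p K := by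
    rintro ⟨⟨⟨g, c⟩, hc⟩, ha⟩
    obtain ⟨n, hn⟩ := hCp c
    have hg : g = 1 := ha
    subst hg
    refine ⟨n, ?_⟩
    apply Subtype.ext
    apply Subtype.ext
    apply Prod.ext
    · show (1 : G) ^ p ^ n = 1
      simp
    · exact hn
  have hcop : (Nat.card K).Coprime U.index := by
    obtain ⟨n, hn⟩ := IsPGroup.iff_card.1 hKp
    rw [hn, hUidx]
    exact Nat.Coprime.pow_left _ ((Nat.Prime.coprime_iff_not_dvd Fact.out).2 P.not_dvd_index)
  let j : (P : Subgroup G) →* X :=
    ((P : Subgroup G).subtype.prod (QuotientGroup.mk' M₀)).codRestrict X (fun u => rfl)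
  have hjpr : ∀ u : (P : Subgroup G), pr (j u) = u := fun u => rfl
  let A : Subgroup X := j.range
  have hAU : A ≤ U := by
    rintro _ ⟨u, rfl⟩
    exact u.2
  have hAK : A ⊓ K = ⊥ := by
    rw [eq_bot_iff]
    rintro _ ⟨⟨u, rfl⟩, h2⟩
    have h3 : pr (j u) = 1 := MonoidHom.mem_ker.mp h2
    rw [hjpr] at h3
    have h4 : u = 1 := Subtype.ext h3
    rw [h4, map_one]
    exact one_mem _
  have hKA : K ⊔ A = U := by
    apply le_antisymm (sup_le hKU hAU)
    intro x hx
    have hx' : pr x ∈ (P : Subgroup G) := hx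
    have h1 : x * (j ⟨pr x, hx'⟩)⁻¹ ∈ K := by
      apply MonoidHom.mem_ker.mpr
      rw [map_mul, map_inv, hjpr]
      simp
    have h2 : x = (x * (j ⟨pr x, hx'⟩)⁻¹) * (j ⟨pr x, hx'⟩) := by group
    rw [h2]
    exact mul_mem (Subgroup.mem_sup_left h1) (Subgroup.mem_sup_right ⟨_, rfl⟩)
  obtain ⟨H, hH⟩ := CfsgLib.SS.gaschutz_exists K U hKU hcop A hAU hAK hKA
  let θ : H →* G := pr.comp H.subtype
  have hθi : Function.Injective θ := by
    rw [injective_iff_map_eq_one]
    intro h hh
    have h1 : (h : X) ∈ K := MonoidHom.mem_ker.mpr hh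
    have h2 : (h : X) ∈ K ⊓ H := ⟨h1, h.2⟩
    rw [disjoint_iff.mp hH.disjoint] at h2
    exact Subtype.ext h2
  have hθs : Function.Surjective θ := by
    intro g
    obtain ⟨x, rfl⟩ := hprs g
    obtain ⟨⟨k, h'⟩, he⟩ := hH.2 x
    refine ⟨h', ?_⟩
    have h1 : pr (k : X) = 1 := MonoidHom.mem_ker.mp k.2
    have he' : (k : X) * (h' : X) = x := he
    rw [← he', map_mul, h1, one_mul]
    rfl
  let e : H ≃* G := MulEquiv.ofBijective θ ⟨hθi, hθs⟩
  let f : G →* C := (((MonoidHom.snd G C).comp X.subtype).comp H.subtype).comp e.symm.toMonoidHom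
  have hf : ∀ g : G, ρ g = ψ (f g) := by
    intro g
    have h1 : θ (e.symm g) = g := e.apply_symm_apply g
    have h2 := ((e.symm g : H) : X).2
    have h3 : ρ (((e.symm g : H) : X) : G × C).1 = ψ (((e.symm g : H) : X) : G × C).2 := h2
    have h4 : (((e.symm g : H) : X) : G × C).1 = g := h1
    rw [h4] at h3
    exact h3
  have hfN : N ≤ f.ker := by
    rw [hN]
    unfold pResidual
    rw [Subgroup.closure_le]
    intro g hg
    obtain ⟨n, hn⟩ := hCp (f g)
    have h1 : (f g) ^ orderOf g = 1 := by rw [← map_pow, pow_orderOf_eq_one, map_one]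
    exact MonoidHom.mem_ker.mpr (CfsgLib.Tr.eq_one_of_pow_eq_one_of_coprime h1 hn (Nat.Coprime.pow_right n hg))
  let T : Subgroup (P : Subgroup G) := f.range.comap (QuotientGroup.mk' M₀)
  have hT : T = ⊤ := by
    by_contra hne
    obtain ⟨W, hW, hTW⟩ := (eq_top_or_exists_le_coatom T).resolve_left hne
    apply hW.1
    rw [eq_top_iff]
    intro u _
    obtain ⟨v, hv⟩ := QuotientGroup.mk'_surjective M₀ (f u)
    have hvT : v ∈ T := by
      show QuotientGroup.mk' M₀ v ∈ f.range
      rw [hv]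
      exact ⟨_, rfl⟩
    have h1 : ρ (u : G) = ρ (v : G) := by
      rw [hf u, ← hv]
      rfl
    have h2 : v⁻¹ * u ∈ Q₁ := by
      rw [← hιker, MonoidHom.mem_ker, map_mul, map_inv]
      show (ρ v)⁻¹ * ρ u = 1
      rw [h1, inv_mul_cancel]
    have h3 : v⁻¹ * u ∈ W := frattini_le_coatom hW (h h2)
    have h4 := W.mul_mem (hTW hvT) h3
    simpa using h4
  have hQM : Q₁ ≤ M₀ := by
    intro u hu
    have h1 : u ∈ T := by rw [hT]; trivial
    obtain ⟨g, hg⟩ : QuotientGroup.mk' M₀ u ∈ f.range := h1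
    have h2 : ρ g = 1 := by
      rw [hf g, hg]
      have h3 : u ∈ ι.ker := by rw [hιker]; exact hu
      exact MonoidHom.mem_ker.mp h3
    have h3 : g ∈ N := (QuotientGroup.eq_one_iff _).1 h2
    have h4 : f g = 1 := MonoidHom.mem_ker.mp (hfN h3)
    rw [h4] at hg
    exact (QuotientGroup.eq_one_iff _).1 hg.symm
  have hbot : Q₁ = ⊥ := by
    obtain ⟨n, hn⟩ := _root_.nilpotent_iff_lowerCentralSeries.mp hQnil
    have h1 : ∀ i, Q₁ ≤ (⊤ : Subgroup (P : Subgroup G)).lowerCentralSeries i := by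
      intro i
      induction i with
      | zero => exact le_top
      | succ i ih =>
        refine hQM.trans ?_
        exact Subgroup.commutator_mono ih le_rfl
    have h2 := h1 n
    rwa [hn, le_bot_iff] at h2
  rw [eq_bot_iff]
  rintro x ⟨hx1, hx2⟩
  have h1 : (⟨x, hx2⟩ : (P : Subgroup G)) ∈ Q₁ := Subgroup.mem_subgroupOf.mpr hx1
  rw [hbot, Subgroup.mem_bot] at h1
  exact congrArg Subtype.val h1

end tate

section sc

variable {G : Type u} [Group G] [Finite G] {p : ℕ} [Fact p.Prime]

/-- The strong closure hypothesis on the subgroups of `P` of order `k` (and `4`, if `k = 2`). -/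
def SC (P : Subgroup G) (k : ℕ) : Prop :=
  ∀ E : Subgroup G, E ≤ P → (Nat.card E = k ∨ (k = 2 ∧ Nat.card E = 4)) → ∀ x ∈ E, ∀ g : G,
    g * x * g⁻¹ ∈ P → g * x * g⁻¹ ∈ E

theorem sc_of_h {P : Subgroup G} (hP : IsPGroup p P) {k : ℕ}
    (h : ∀ E : Subgroup G, E ≤ P → (Nat.card E = k ∨ (k = 2 ∧ Nat.card E = 4)) → ∀ g : G,
      E.map (MulAut.conj g).toMonoidHom ⊓ normalizer (E : Set G) ≤ E) : SC P k := by
  intro E hEP hE x hx g hg
  have hEn : P ≤ normalizer (E : Set G) := by
    by_contra hne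
    set T := P ⊓ normalizer (E : Set G) with hT
    have hTP : T < P := lt_of_le_of_ne inf_le_left (fun he => hne (inf_eq_left.mp he))
    obtain ⟨u, huP, huT, hun⟩ := CfsgLib.FGS.exists_mem_normalizer_of_lt hP hTP
    apply huT
    refine ⟨huP, ?_⟩
    have hEu : ∀ e ∈ E, u * e * u⁻¹ ∈ E := by
      intro e he
      have h1 : e ∈ T := ⟨hEP he, le_normalizer he⟩
      have h2 : u * e * u⁻¹ ∈ T := (mem_normalizer_iff.mp hun e).mp h1
      exact h E hEP hE u ⟨⟨e, he, rfl⟩, h2.2⟩
    exact CfsgLib.Fusion.mem_normalizer_of_conj_mem hEu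
  exact h E hEP hE g ⟨⟨x, hx, rfl⟩, hEn hg⟩

theorem exists_between {L T : Subgroup G} (hL : IsPGroup p L) (hTL : T ≤ L) {a : ℕ} (h1 : Nat.card T ≤ p ^ a)
    (h2 : p ^ a ≤ Nat.card L) : ∃ E : Subgroup G, T ≤ E ∧ E ≤ L ∧ Nat.card E = p ^ a := by
  have hp : p.Prime := Fact.out
  obtain ⟨n, hn⟩ := IsPGroup.iff_card.1 hL
  obtain ⟨b, hb⟩ := IsPGroup.iff_card.1 (hL.to_le hTL)
  have han : a ≤ n := by
    rw [hn] at h2
    exact (Nat.pow_le_pow_iff_right hp.one_lt).mp h2
  have hba : b ≤ a := by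
    rw [hb] at h1
    exact (Nat.pow_le_pow_iff_right hp.one_lt).mp h1
  have hT' : Nat.card (T.subgroupOf L) = p ^ b := by
    rw [← hb]
    exact Nat.card_congr (Subgroup.subgroupOfEquivOfLe hTL).toEquiv
  obtain ⟨K, hK, hTK⟩ := Sylow.exists_subgroup_card_pow_prime_le p (G := L)
    (by rw [hn]; exact pow_dvd_pow p han) (T.subgroupOf L) hT' hba
  refine ⟨K.map L.subtype, ?_, Subgroup.map_subtype_le _, ?_⟩
  · intro t ht
    exact ⟨⟨t, hTL ht⟩, hTK (Subgroup.mem_subgroupOf.mpr ht), rfl⟩
  · rw [Subgroup.card_map_of_injective L.subtype_injective, hK]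

theorem centralize_of_normal {P : Subgroup G} (hP : IsPGroup p P)
    (hmin : ∀ q : ℕ, q.Prime → q ∣ Nat.card G → p ≤ q) {a : ℕ} (ha : 1 ≤ a) (hSC : SC P (p ^ a))
    {U : Subgroup G} (hUP : U ≤ P) (hUn : U.Normal) (hk : p ^ a < Nat.card U) {y : G}
    (hy : (orderOf y).Coprime p) : y ∈ centralizer (U : Set G) := by
  classical
  have hp : p.Prime := Fact.out
  have hUp : IsPGroup p U := hP.to_le hUP
  have hnorm : ∀ F : Subgroup G, F ≤ U → (Nat.card F = p ^ a ∨ (p ^ a = 2 ∧ Nat.card F = 4)) → F.Normal :=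
    fun F hFU hF => ⟨fun x hx g =>
      hSC F (hFU.trans hUP) hF x hx g (hUP (hUn.conj_mem x (hFU hx) g))⟩
  have hcent : ∀ F : Subgroup G, F.Normal → IsCyclic F → F ≤ U → ∀ x ∈ F, y * x * y⁻¹ = x := by
    intro F hFn hFc hFU x hx
    have h1 : y ∈ normalizer (F : Set G) := by
      rw [Subgroup.normalizer_eq_top_iff.mpr hFn]; trivial
    have h2 := cyclic_centralize hmin (hUp.to_le hFU) hFc h1 hy
    have h3 := Subgroup.mem_centralizer_iff.mp h2 x hx
    rw [← h3, mul_inv_cancel_right]
  have key : ∀ x ∈ U, (x ^ p = 1 ∨ (p = 2 ∧ x ^ 4 = 1)) → y * x * y⁻¹ = x := by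
    intro x hxU hx
    by_cases hx1 : x = 1
    · subst hx1; simp
    by_cases hk2 : p ^ a = 2
    · -- `p = 2`, `k = 2`
      have hp2 : p = 2 := by
        have h1 : p ∣ 2 := by rw [← hk2]; exact dvd_pow_self p (by omega)
        exact (Nat.prime_dvd_prime_iff_eq hp Nat.prime_two).mp h1
      have hx4 : x ^ 4 = 1 := by
        rcases hx with h | h
        · rw [hp2] at h
          calc x ^ 4 = (x ^ 2) ^ 2 := by rw [← pow_mul]
            _ = 1 := by rw [h, one_pow]
        · exact h.2
      have hord : orderOf x ∣ 2 ^ 2 := orderOf_dvd_of_pow_eq_one (by simpa using hx4)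
      obtain ⟨j, hj, hje⟩ := (Nat.dvd_prime_pow Nat.prime_two).1 hord
      have hcard : Nat.card (zpowers x) = orderOf x := Nat.card_zpowers x
      have hFn : (zpowers x).Normal := by
        refine hnorm _ (zpowers_le.mpr hxU) ?_
        rw [hcard, hje, hk2]
        interval_cases j
        · exact absurd (orderOf_eq_one_iff.mp (by simpa using hje)) hx1
        · left; norm_num
        · right; exact ⟨rfl, by norm_num⟩
      exact hcent _ hFn inferInstance (zpowers_le.mpr hxU) x (mem_zpowers x)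
    · -- `k ≠ 2`
      have hb : ∃ b ≤ a, x ^ p ^ b = 1 := by
        rcases hx with h | ⟨h2, h⟩
        · exact ⟨1, ha, by simpa using h⟩
        · refine ⟨2, ?_, ?_⟩
          · by_contra hlt
            have ha1 : a = 1 := by omega
            apply hk2
            rw [ha1, h2]; norm_num
          · rw [h2]; simpa using h
      obtain ⟨b, hba, hxb⟩ := hb
      obtain ⟨j, hj, hje⟩ := (Nat.dvd_prime_pow hp).1 (orderOf_dvd_of_pow_eq_one hxb)
      have hcard : Nat.card (zpowers x) ≤ p ^ a := by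
        rw [Nat.card_zpowers, hje]
        exact Nat.pow_le_pow_right hp.pos (hj.trans hba)
      obtain ⟨E, hxE, hEU, hEc⟩ := exists_between hUp (zpowers_le.mpr hxU) hcard hk.le
      have hEn := hnorm E hEU (Or.inl hEc)
      have hxE' : x ∈ E := hxE (mem_zpowers x)
      by_cases hEcy : IsCyclic E
      · exact hcent E hEn hEcy hEU x hxE'
      obtain ⟨n, hn⟩ := IsPGroup.iff_card.1 hUp
      have han : a < n := by
        rw [hn] at hk
        exact (Nat.pow_lt_pow_iff_right hp.one_lt).mp hk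
      obtain ⟨J, hEJ, hJU, hJc⟩ := exists_between (a := a + 1) hUp hEU
        (by rw [hEc]; exact Nat.pow_le_pow_right hp.pos (by omega))
        (by rw [hn]; exact Nat.pow_le_pow_right hp.pos (by omega))
      have hJp : IsPGroup p J := hUp.to_le hJU
      have hJcy : ¬ IsCyclic J := by
        intro hc
        apply hEcy
        exact isCyclic_of_injective (Subgroup.inclusion hEJ) (Subgroup.inclusion_injective hEJ)
      -- maximal subgroups of `J` are normal in `G`
      have hcoat : ∀ F' : Subgroup J, IsCoatom F' →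
          (F'.map J.subtype).Normal ∧ (F'.map J.subtype).relIndex J = p := by
        intro F' hF'
        obtain ⟨-, hi⟩ := coatom_of_pgroup hJp hF'
        have h1 : Nat.card F' * F'.index = Nat.card J := Subgroup.card_mul_index F'
        rw [hi, hJc, pow_succ] at h1
        have h2 : Nat.card F' = p ^ a := Nat.eq_of_mul_eq_mul_right hp.pos h1
        constructor
        · refine hnorm _ ((Subgroup.map_subtype_le _).trans hJU) (Or.inl ?_)
          rw [Subgroup.card_map_of_injective J.subtype_injective, h2]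
        · rw [Subgroup.relIndex, Subgroup.subgroupOf, Subgroup.comap_map_eq_self_of_injective J.subtype_injective, hi]
      have hJn : J.Normal := by
        constructor
        intro j hj g
        have h1 : zpowers (⟨j, hj⟩ : J) ≠ ⊤ := by
          intro he
          apply hJcy
          exact ⟨⟨⟨j, hj⟩, fun u => by
            have : u ∈ zpowers (⟨j, hj⟩ : J) := by rw [he]; trivial
            exact this⟩⟩
        obtain ⟨F', hF', hle⟩ := (eq_top_or_exists_le_coatom _).resolve_left h1
        have h2 := (hcoat F' hF').1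
        have h3 : j ∈ F'.map J.subtype := ⟨⟨j, hj⟩, hle (mem_zpowers _), rfl⟩
        exact (Subgroup.map_subtype_le _) (h2.conj_mem j h3 g)
      have htriv : ∀ b ∈ zpowers y, ∀ j ∈ J, b * j * b⁻¹ * j⁻¹ ∈ (frattini J).map J.subtype := by
        intro b _ j hj
        have hmemJ : b * j * b⁻¹ * j⁻¹ ∈ J := mul_mem (hJn.conj_mem j hj b) (inv_mem hj)
        refine ⟨⟨_, hmemJ⟩, mem_frattini_iff.mpr fun F' hF' => ?_, rfl⟩
        obtain ⟨h1, h2⟩ := hcoat F' hF'
        have h3 : J ≤ normalizer ((F'.map J.subtype : Subgroup G) : Set G) := by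
          rw [Subgroup.normalizer_eq_top_iff.mpr h1]; exact le_top
        have h4 : b ∈ normalizer ((J : Subgroup G) : Set G) := by
          rw [Subgroup.normalizer_eq_top_iff.mpr hJn]; trivial
        have h5 : b ∈ normalizer ((F'.map J.subtype : Subgroup G) : Set G) := by
          rw [Subgroup.normalizer_eq_top_iff.mpr h1]; trivial
        obtain ⟨w, hw, hwe⟩ := conj_mod hmin (Subgroup.map_subtype_le F') h3 h2 h4 h5 j hj
        have : (⟨_, hmemJ⟩ : J) = w := Subtype.ext hwe.symm
        rw [this]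
        exact hw
      have hAK : zpowers y ≤ normalizer ((J : Subgroup G) : Set G) := by
        rw [Subgroup.normalizer_eq_top_iff.mpr hJn]; exact le_top
      have hcop : (Nat.card (zpowers y)).Coprime (Nat.card (frattini J)) := by
        rw [Nat.card_zpowers]
        obtain ⟨m, hm⟩ := IsPGroup.iff_card.1 (hJp.to_subgroup (frattini J))
        rw [hm]
        exact Nat.Coprime.pow_right _ hy
      have h := frattini_coprime_trivial (zpowers y) J hAK hcop htriv
      have h2 := Subgroup.mem_centralizer_iff.mp (h (mem_zpowers y)) x (hEJ hxE')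
      rw [← h2, mul_inv_cancel_right]
  -- Conclusion via the uniform `Ω`-statement.
  haveI := hUn
  have h1 : (orderOf (MulAut.conjNormal y : MulAut U)).Coprime p :=
    Nat.Coprime.coprime_dvd_left (orderOf_map_dvd MulAut.conjNormal y) hy
  have h2 := CfsgLib.Omega2.aut_trivial_omega hUp (MulAut.conjNormal y : MulAut U) h1 (by
    intro x hx
    apply Subtype.ext
    rw [MulAut.conjNormal_apply]
    apply key x x.2
    rcases hx with h | ⟨h2, h⟩
    · exact Or.inl (by simpa using congrArg Subtype.val h)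
    · exact Or.inr ⟨h2, by simpa using congrArg Subtype.val h⟩)
  rw [Subgroup.mem_centralizer_iff]
  intro u hu
  have h3 : ((MulAut.conjNormal y : MulAut U) ⟨u, hu⟩ : G) = u := by rw [h2]; rfl
  rw [MulAut.conjNormal_apply] at h3
  calc u * y = (y * u * y⁻¹) * y := by rw [h3]
    _ = y * u := by group

end sc

section main

open CfsgLib.ConjFam

/-- The normal complement criterion: `O^p(G) ∩ P = 1`. -/
theorem main : ∀ (n : ℕ) (G : Type u) [Group G] [Finite G], Nat.card G = n →
    ∀ (p : ℕ) [Fact p.Prime] (P : Sylow p G) (a : ℕ),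
      (∀ q : ℕ, q.Prime → q ∣ Nat.card G → p ≤ q) → 1 ≤ a → p ^ a < Nat.card (P : Subgroup G) →
      SC (P : Subgroup G) (p ^ a) → pResidual p G ⊓ (P : Subgroup G) = ⊥ := by
  intro n
  induction n using Nat.strong_induction_on with
  | _ n IH =>
  intro G _ _ hGn p _ P a hmin ha hk hSC
  have hp : p.Prime := Fact.out
  have hPp : IsPGroup p (P : Subgroup G) := P.2
  apply tate_residual P
  intro u hu
  rw [mem_frattini_iff]
  intro W hW
  obtain ⟨hWn, hWi⟩ := coatom_of_pgroup hPp hW
  set L : Subgroup G := W.map (P : Subgroup G).subtype with hL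
  have hLP : L ≤ (P : Subgroup G) := Subgroup.map_subtype_le _
  have hWL : W = L.subgroupOf (P : Subgroup G) := by
    rw [hL, Subgroup.subgroupOf, Subgroup.comap_map_eq_self_of_injective (P : Subgroup G).subtype_injective]
  have hLi : L.relIndex (P : Subgroup G) = p := by
    rw [Subgroup.relIndex, ← hWL, hWi]
  have hLnorm : (P : Subgroup G) ≤ normalizer (L : Set G) := by
    rw [← Subgroup.normal_subgroupOf_iff_le_normalizer hLP, ← hWL]
    exact hWn
  have hLp : IsPGroup p L := hPp.to_le hLP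
  -- the order of `L`
  obtain ⟨m₀, hm₀⟩ := IsPGroup.iff_card.1 hPp
  have ham : a < m₀ := by
    rw [hm₀] at hk
    exact (Nat.pow_lt_pow_iff_right hp.one_lt).mp hk
  have hLcard : p ^ a ≤ Nat.card L := by
    have h1 : Nat.card W * W.index = Nat.card (P : Subgroup G) := Subgroup.card_mul_index W
    have h2 : Nat.card L = Nat.card W := Subgroup.card_map_of_injective (P : Subgroup G).subtype_injective
    obtain ⟨m₁, rfl⟩ : ∃ m₁, m₀ = m₁ + 1 := ⟨m₀ - 1, by omega⟩
    rw [hWi, hm₀, pow_succ] at h1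
    have h3 : Nat.card W = p ^ m₁ := Nat.eq_of_mul_eq_mul_right hp.pos h1
    rw [h2, h3]
    exact Nat.pow_le_pow_right hp.pos (by omega)
  -- commutators of `P` lie in `L`
  have hcomm : ∀ b ∈ (P : Subgroup G), ∀ c ∈ (P : Subgroup G), b * c * b⁻¹ * c⁻¹ ∈ L := by
    intro b hb c hc
    haveI := hWn
    have hcard : Nat.card ((P : Subgroup G) ⧸ W) = p := hWi
    haveI : IsCyclic ((P : Subgroup G) ⧸ W) := isCyclic_of_prime_card hcard
    haveI h1 := IsCyclic.commutative (α := (P : Subgroup G) ⧸ W)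
    have h2 : (((⟨b, hb⟩ : (P : Subgroup G)) * ⟨c, hc⟩ : (P : Subgroup G)) : (P : Subgroup G) ⧸ W) =
        ((⟨c, hc⟩ * ⟨b, hb⟩ : (P : Subgroup G)) : (P : Subgroup G) ⧸ W) := by
      rw [QuotientGroup.mk_mul, QuotientGroup.mk_mul]
      exact mul_comm' _ _
    have h3 := (QuotientGroup.eq (s := W)).mp h2.symm
    have h4 : (⟨c, hc⟩ * ⟨b, hb⟩ : (P : Subgroup G))⁻¹ * (⟨b, hb⟩ * ⟨c, hc⟩ : (P : Subgroup G)) ∈ W := by
      exact h3
    have h5 : (⟨b, hb⟩ * ⟨c, hc⟩ : (P : Subgroup G)) * (⟨b, hb⟩⁻¹ * ⟨c, hc⟩⁻¹) ∈ W := by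
      have h6 := hWn.conj_mem _ h4 (⟨c, hc⟩ * ⟨b, hb⟩ : (P : Subgroup G))
      convert h6 using 1
      group
    refine ⟨_, h5, ?_⟩
    simp [mul_assoc]
  -- The fusion step
  have hfoc : ∀ x ∈ (P : Subgroup G), ∀ g : G, g⁻¹ * x * g ∈ (P : Subgroup G) →
      x⁻¹ * (g⁻¹ * x * g) ∈ L := by
    intro x hx g hg
    have hzP : zpowers x ≤ (P : Subgroup G) := zpowers_le.mpr hx
    refine CfsgLib.AlpFus.abs_chain P (fun A g => ∀ x ∈ A, x⁻¹ * (g⁻¹ * x * g) ∈ L) ?_ ?_ ?_ ?_
      (zpowers x) hzP g ?_ x (mem_zpowers x)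
    · intro A B g h hBA x hx
      exact h x (hBA hx)
    · intro A g k h1 h2 x hx
      have h3 : g⁻¹ * x * g ∈ rc g A := ⟨x, hx, rfl⟩
      have h4 := L.mul_mem (h1 x hx) (h2 _ h3)
      convert h4 using 1
      group
    · rintro A g h _ ⟨x, hx, rfl⟩
      have h1 := L.inv_mem (h x hx)
      convert h1 using 1
      group
    · intro U hUP hUsyl _ m hm x hx
      have hmi : m⁻¹ ∈ normalizer (U : Set G) := inv_mem hm
      have hm' : m⁻¹ * x * m ∈ U := by
        have := (mem_normalizer_iff.mp hmi x).mp hx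
        simpa using this
      by_cases hUL : U ≤ L
      · exact mul_mem (inv_mem (hUL hx)) (hUL hm')
      have hxP : x ∈ (P : Subgroup G) := hUP hx
      by_cases hsmall : ∀ z ∈ U ⊓ L, ∃ E : Subgroup G, E ≤ L ∧
          (Nat.card E = p ^ a ∨ (p ^ a = 2 ∧ Nat.card E = 4)) ∧ z ∈ E
      · -- the section `U / U ∩ L` of order `p`
        set R₀ : Subgroup G := U ⊓ L with hR₀
        have hR₀N : U ≤ normalizer ((R₀ : Subgroup G) : Set G) := by
          intro v hv
          rw [Subgroup.mem_normalizer_iff]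
          intro z
          have h1 := Subgroup.mem_normalizer_iff.mp (Subgroup.le_normalizer hv) z
          have h2 := Subgroup.mem_normalizer_iff.mp (hLnorm (hUP hv)) z
          exact ⟨fun hz => ⟨h1.mp hz.1, h2.mp hz.2⟩, fun hz => ⟨h1.mpr hz.1, h2.mpr hz.2⟩⟩
        have hidx : R₀.relIndex U = p := by
          have hW' : (U.subgroupOf (P : Subgroup G)) ≠ ⊥ ∨ True := Or.inr trivial
          have hU' : ¬ U.subgroupOf (P : Subgroup G) ≤ W := by
            intro hle
            apply hUL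
            intro v hv
            have h1 := hle (Subgroup.mem_subgroupOf.mpr hv : (⟨v, hUP hv⟩ : (P : Subgroup G)) ∈ _)
            exact ⟨_, h1, rfl⟩
          have hsup : W ⊔ U.subgroupOf (P : Subgroup G) = ⊤ := by
            apply hW.2
            exact lt_of_le_of_ne le_sup_left (fun he => hU' (by rw [he]; exact le_sup_right))
          haveI := hWn
          have h1 : W.relIndex (W ⊔ U.subgroupOf (P : Subgroup G)) = W.relIndex (U.subgroupOf (P : Subgroup G)) :=
            Subgroup.relIndex_sup_left _ _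
          rw [hsup, Subgroup.relIndex_top_right, hWi] at h1
          rw [hR₀, inf_comm, Subgroup.inf_relIndex_right, h1, hWL, Subgroup.subgroupOf,
            Subgroup.relIndex_comap, Subgroup.map_subgroupOf_eq_of_le hUP]
        have hmN : m⁻¹ ∈ normalizer ((R₀ : Subgroup G) : Set G) := by
          refine CfsgLib.Fusion.mem_normalizer_of_conj_mem fun z hz => ?_
          have h1 : m⁻¹ * z * m⁻¹⁻¹ ∈ U := (mem_normalizer_iff.mp hmi z).mp hz.1
          obtain ⟨E, hEL, hE, hzE⟩ := hsmall z hz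
          exact ⟨h1, hEL (hSC E (hEL.trans hLP) hE z hzE m⁻¹ (hUP h1))⟩
        have h1 := conj_mod hmin (R := U) (R₀ := R₀) inf_le_left hR₀N hidx hmi hmN x hx
        have h2 := (mem_normalizer_iff.mp (hR₀N (inv_mem hx)) _).mp h1
        have e : x⁻¹ * (m⁻¹ * x * m) = x⁻¹ * (m⁻¹ * x * m⁻¹⁻¹ * x⁻¹) * x⁻¹⁻¹ := by group
        rw [e]
        exact h2.2
      · -- `U` is large
        push Not at hsmall
        obtain ⟨z, hz, hzE⟩ := hsmall
        have hkU : p ^ a < Nat.card U := by
          by_contra hle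
          push Not at hle
          have h1 : Nat.card (zpowers z) ≤ p ^ a :=
            (Subgroup.card_le_of_le (zpowers_le.mpr hz.1)).trans hle
          obtain ⟨E, hE1, hE2, hE3⟩ := exists_between hLp (zpowers_le.mpr hz.2) h1 hLcard
          exact hzE E hE2 (Or.inl hE3) (hE1 (mem_zpowers z))
        suffices hdec : ∃ β τ : G, m = β * τ ∧ τ ∈ (P : Subgroup G) ∧ β * x = x * β by
          obtain ⟨β, τ, rfl, hτ, hβ⟩ := hdec
          have h1 := hcomm x⁻¹ (inv_mem hxP) τ⁻¹ (inv_mem hτ)
          have e : (β * τ)⁻¹ * x * (β * τ) = τ⁻¹ * x * τ := by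
            have h2 : x * β = β * x := hβ.symm
            calc (β * τ)⁻¹ * x * (β * τ) = τ⁻¹ * β⁻¹ * (x * β) * τ := by group
              _ = τ⁻¹ * β⁻¹ * (β * x) * τ := by rw [h2]
              _ = τ⁻¹ * x * τ := by group
          rw [e]
          convert h1 using 1
          group
        by_cases hUn : U.Normal
        · have hRC : pResidual p G ≤ centralizer (U : Set G) := by
            unfold pResidual
            rw [Subgroup.closure_le]
            intro y hy
            exact centralize_of_normal hPp hmin ha hSC hUP hUn hkU hy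
          obtain ⟨β, hβ, τ, hτ, rfl⟩ := CfsgLib.Fusion.exists_residual_mul_sylow P m
          exact ⟨β, τ, rfl, hτ, (Subgroup.mem_centralizer_iff.mp (hRC hβ) x hx).symm⟩
        · -- induction on the normalizer
          set X : Subgroup G := normalizer (U : Set G) with hX
          have hXne : X ≠ ⊤ := fun he => hUn (Subgroup.normalizer_eq_top_iff.mp he)
          have hXlt : Nat.card X < n := by
            rw [← hGn]
            refine lt_of_le_of_ne (Subgroup.card_le_card_group X) ?_
            intro he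
            exact hXne (Subgroup.eq_top_of_card_eq X he)
          obtain ⟨Q, hQ⟩ := hUsyl.exists_sylow
          have hQmem : ∀ v : X, v ∈ (Q : Subgroup X) ↔ (v : G) ∈ (P : Subgroup G) := by
            intro v
            constructor
            · intro hv
              have h1 : (v : G) ∈ (Q : Subgroup X).map X.subtype := ⟨v, hv, rfl⟩
              rw [hQ] at h1
              exact h1.1
            · intro hv
              have h1 : (v : G) ∈ (P : Subgroup G) ⊓ X := ⟨hv, v.2⟩
              rw [← hQ] at h1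
              obtain ⟨w, hw, hwe⟩ := h1
              have : w = v := Subtype.ext hwe
              rwa [← this]
          have hminX : ∀ q : ℕ, q.Prime → q ∣ Nat.card X → p ≤ q := fun q hq hd =>
            hmin q hq (hd.trans (Subgroup.card_subgroup_dvd_card X))
          have hkQ : p ^ a < Nat.card (Q : Subgroup X) := by
            have h1 : Nat.card ((Q : Subgroup X).map X.subtype) = Nat.card (Q : Subgroup X) :=
              Subgroup.card_map_of_injective X.subtype_injective
            rw [← h1, hQ]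
            exact lt_of_lt_of_le hkU (Subgroup.card_le_of_le (le_inf hUP Subgroup.le_normalizer))
          have hSCX : SC (Q : Subgroup X) (p ^ a) := by
            intro E' hE'Q hE' v hv g' hg'
            have hE'c : Nat.card (E'.map X.subtype) = Nat.card E' :=
              Subgroup.card_map_of_injective X.subtype_injective
            have h1 : E'.map X.subtype ≤ (P : Subgroup G) := by
              rintro _ ⟨w, hw, rfl⟩
              exact (hQmem w).mp (hE'Q hw)
            have h2 := hSC (E'.map X.subtype) h1 (by rwa [hE'c]) (v : G) ⟨v, hv, rfl⟩ (g' : G)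
              ((hQmem _).mp hg')
            obtain ⟨w, hw, hwe⟩ := h2
            have : w = g' * v * g'⁻¹ := Subtype.ext hwe
            rwa [← this]
          have hIH := IH _ hXlt X rfl p Q a hminX ha hkQ hSCX
          obtain ⟨β, hβ, τ, hτ, hβτ⟩ := CfsgLib.Fusion.exists_residual_mul_sylow Q ⟨m, hm⟩
          refine ⟨β, τ, congrArg Subtype.val hβτ, (hQmem τ).mp hτ, ?_⟩
          -- commuting
          have hRn := CfsgLib.Tr.pResidual_normal p X
          have hUn' : (U.subgroupOf X).Normal :=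
            (Subgroup.normal_subgroupOf_iff_le_normalizer Subgroup.le_normalizer).mpr le_rfl
          set x' : X := ⟨x, Subgroup.le_normalizer hx⟩ with hx'
          have hx'U : x' ∈ U.subgroupOf X := Subgroup.mem_subgroupOf.mpr hx
          have hc1 : β * x' * β⁻¹ * x'⁻¹ ∈ pResidual p X := by
            have h1 := hRn.conj_mem _ (inv_mem hβ) x'
            have e : β * x' * β⁻¹ * x'⁻¹ = β * (x' * β⁻¹ * x'⁻¹) := by group
            rw [e]
            exact mul_mem hβ h1
          have hc2 : β * x' * β⁻¹ * x'⁻¹ ∈ U.subgroupOf X :=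
            mul_mem (hUn'.conj_mem _ hx'U β) (inv_mem hx'U)
          have hc3 : β * x' * β⁻¹ * x'⁻¹ ∈ (Q : Subgroup X) := by
            rw [hQmem]
            exact hUP (Subgroup.mem_subgroupOf.mp hc2)
          have hc4 : β * x' * β⁻¹ * x'⁻¹ ∈ pResidual p X ⊓ (Q : Subgroup X) := ⟨hc1, hc3⟩
          rw [hIH, Subgroup.mem_bot] at hc4
          have hc5 : β * x' = x' * β := by
            have h1 : β * x' * β⁻¹ = x' := by
              rw [mul_inv_eq_one] at hc4
              exact hc4
            rw [mul_inv_eq_iff_eq_mul] at h1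
            exact h1
          exact congrArg Subtype.val hc5
    · rintro _ ⟨y, hy, rfl⟩
      obtain ⟨i, rfl⟩ := mem_zpowers_iff.mp hy
      have e : g⁻¹ * x ^ i * g = (g⁻¹ * x * g) ^ i := by
        have := conj_zpow (a := g⁻¹) (b := x) (i := i)
        simpa using this.symm
      show g⁻¹ * x ^ i * g ∈ _
      rw [e]
      exact zpow_mem hg i
  obtain ⟨K, hKn, hKP, -, -, hKi⟩ := CfsgLib.Trans.exists_transfer_kernel (P : Subgroup G) L hLP hcomm
    (by
      intro x hx g hg
      have h1 := hfoc x hx g hg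
      have h2 := (mem_normalizer_iff.mp (hLnorm hx) _).mp h1
      convert h2 using 1
      group)
    (CfsgLib.Trans.sylow_coprime_index_relIndex P L)
  have hRK : pResidual p G ≤ K := by
    haveI := hKn
    refine CfsgLib.Trans.pResidual_le_of_index K (k := 1) ?_
    rw [hKi, hLi, pow_one]
  have h1 : (u : G) ∈ K ⊓ (P : Subgroup G) := ⟨hRK (Subgroup.mem_subgroupOf.mp hu), u.2⟩
  rw [hKP] at h1
  rw [hWL]
  exact Subgroup.mem_subgroupOf.mpr h1

/-- `O^p(G) ∩ P = 1` gives a normal `p`-complement. -/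
theorem hasNormalPComplement_of_residual {G : Type u} [Group G] [Finite G] {p : ℕ} [Fact p.Prime] (P : Sylow p G)
    (h : pResidual p G ⊓ (P : Subgroup G) = ⊥) : HasNormalPComplement p G := by
  refine ⟨P, pResidual p G, CfsgLib.Tr.pResidual_normal p G, ?_⟩
  refine Subgroup.isComplement'_of_disjoint_and_mul_eq_univ (disjoint_iff.mpr h) ?_
  ext g
  simp only [Set.mem_mul, Set.mem_univ, iff_true]
  obtain ⟨β, hβ, τ, hτ, rfl⟩ := CfsgLib.Fusion.exists_residual_mul_sylow P g
  exact ⟨β, hβ, τ, hτ, rfl⟩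

/-- `S3031`. -/
theorem normal_complement {G : Type u} [Group G] [Finite G] {p : ℕ} [Fact p.Prime] (hdiv : p ∣ Nat.card G)
    (hmin : ∀ q : ℕ, q.Prime → q ∣ Nat.card G → p ≤ q) (P : Sylow p G)
    (h : IsCyclic ↥(P : Subgroup G) ∨ ∃ D : Subgroup G, D ≤ (P : Subgroup G) ∧ 1 < Nat.card D ∧
      Nat.card D < Nat.card (P : Subgroup G) ∧
      ∀ E : Subgroup G, E ≤ (P : Subgroup G) → (Nat.card E = Nat.card D ∨ (Nat.card D = 2 ∧ Nat.card E = 4)) →
        ∀ g : G, E.map (MulAut.conj g).toMonoidHom ⊓ Subgroup.normalizer (E : Set G) ≤ E) :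
    HasNormalPComplement p G := by
  have hp : p.Prime := Fact.out
  rcases h with hc | ⟨D, hDP, hD1, hDlt, hE⟩
  · have hne : Nat.card G ≠ 1 := by
      intro h1
      rw [h1] at hdiv
      exact hp.one_lt.ne' (Nat.dvd_one.mp hdiv)
    have hm : (Nat.card G).minFac = p := by
      apply le_antisymm (Nat.minFac_le_of_dvd hp.two_le hdiv)
      exact hmin _ (Nat.minFac_prime hne) (Nat.minFac_dvd _)
    exact ⟨P, _, MonoidHom.normal_ker _, IsCyclic.isComplement' hm hc⟩
  · obtain ⟨a, ha⟩ := IsPGroup.iff_card.1 (P.2.to_le hDP)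
    have ha1 : 1 ≤ a := by
      rcases Nat.eq_zero_or_pos a with rfl | h0
      · rw [ha, pow_zero] at hD1
        exact absurd hD1 (lt_irrefl _)
      · exact h0
    rw [ha] at hDlt hE
    exact hasNormalPComplement_of_residual P
      (main _ G rfl p P a hmin ha1 hDlt (sc_of_h P.2 (fun E hEP hEc g => hE E hEP hEc g)))

end main

end CfsgLib.Local.HSub
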