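import Cfsg.Agent.Lib.Local.Irred2
import Cfsg.Agent.Lib.Local.Basic

/-! Subgroups containing a normal centric subgroup of a Sylow subgroup have characteristic `p`. -/

namespace CfsgLib.Local

open Subgroup Cfsg CfsgLib.PLocal
open scoped Pointwise commutatorElement

variable {G : Type*} [Group G] [Finite G] {p : ℕ} [Fact p.Prime]

/-- The subgroup of elements acting trivially on `V` modulo `W`. -/
def stabMod (V W : Subgroup G) (hV : V.Normal) : Subgroup G where
  carrier := {g | g ∈ normalizer (W : Set G) ∧ ∀ v ∈ V, g * v * g⁻¹ * v⁻¹ ∈ W}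
  one_mem' := ⟨one_mem _, fun v _ => by simp⟩
  mul_mem' := by
    rintro a b ⟨ha, ha'⟩ ⟨hb, hb'⟩
    refine ⟨mul_mem ha hb, fun v hv => ?_⟩
    have h1 : a * (b * v * b⁻¹ * v⁻¹) * a⁻¹ ∈ W := (mem_normalizer_iff.mp ha _).mp (hb' v hv)
    have h2 := ha' v hv
    have e : a * b * v * (a * b)⁻¹ * v⁻¹ = (a * (b * v * b⁻¹ * v⁻¹) * a⁻¹) * (a * v * a⁻¹ * v⁻¹) := by group
    rw [e]
    exact W.mul_mem h1 h2
  inv_mem' := by
    rintro a ⟨ha, ha'⟩
    refine ⟨inv_mem ha, fun v hv => ?_⟩
    have hv' : a⁻¹ * v * a ∈ V := by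
      have := hV.conj_mem v hv a⁻¹
      simpa using this
    have h := ha' _ hv'
    have e : a⁻¹ * v * a⁻¹⁻¹ * v⁻¹ = (a * (a⁻¹ * v * a) * a⁻¹ * (a⁻¹ * v * a)⁻¹)⁻¹ := by group
    rw [e]
    exact W.inv_mem h

theorem mem_stabMod {V W : Subgroup G} {hV : V.Normal} {g : G} :
    g ∈ stabMod V W hV ↔ g ∈ normalizer (W : Set G) ∧ ∀ v ∈ V, g * v * g⁻¹ * v⁻¹ ∈ W := Iff.rfl

/-- `S2961`. -/
theorem charP_of_contains (hG : centralizer (pCore p G : Set G) ≤ pCore p G) (T : Sylow p G)
    (Q : Subgroup G) (hQT : Q ≤ (T : Subgroup G)) (hQn : (T : Subgroup G) ≤ normalizer (Q : Set G))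
    (hC : (T : Subgroup G) ⊓ centralizer (Q : Set G) ≤ Q) (L : Subgroup G) (hQL : Q ≤ L) :
    centralizer (pCore p ↥L : Set ↥L) ≤ pCore p ↥L := by
  have hCQ := centralizer_le_of_sylow hG T Q hQT hQn hC
  set V := pCore p G with hV
  have hVn : V.Normal := pCore_normal'
  have hVp : IsPGroup p V := pCore_isPGroup
  have hVT : V ≤ T := pCore_le_sylow T
  have hQp : IsPGroup p Q := T.isPGroup'.to_le hQT
  set R := (pCore p ↥L).map L.subtype with hR
  have hRp : IsPGroup p R := IsPGroup.map pCore_isPGroup _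
  have hRL : R ≤ L := Subgroup.map_subtype_le _
  have hLR : L ≤ normalizer (R : Set G) := by
    intro t ht
    rw [mem_normalizer_iff]
    intro y
    refine ⟨fun hy => map_pCore_subgroup_normalized (Subgroup.le_normalizer ht) hy, fun hy => ?_⟩
    have := map_pCore_subgroup_normalized (p := p) (inv_mem (Subgroup.le_normalizer ht)) hy
    have e : t⁻¹ * (t * y * t⁻¹) * t⁻¹⁻¹ = y := by group
    rwa [e] at this
  set W := V ⊓ Q with hW
  have hWR : W ≤ R := by
    intro w hw
    have hwL : w ∈ L := hQL hw.2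
    have hn : (V.subgroupOf L).Normal := hVn.subgroupOf L
    have hpg : IsPGroup p (V.subgroupOf L) := by
      have := hVp.comap_of_injective L.subtype L.subtype_injective
      exact this
    have : (⟨w, hwL⟩ : L) ∈ pCore p ↥L := le_pCore_of_normal _ hn hpg (Subgroup.mem_subgroupOf.mpr hw.1)
    exact ⟨_, this, rfl⟩
  set C := L ⊓ centralizer (R : Set G) with hCdef
  have hCL : C ≤ L := inf_le_left
  have hLC : L ≤ normalizer (C : Set G) := by
    intro t ht
    rw [mem_normalizer_iff]
    intro y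
    have hkey : ∀ t ∈ L, ∀ y ∈ C, t * y * t⁻¹ ∈ C := by
      intro t ht y hy
      refine Subgroup.mem_inf.mpr ⟨L.mul_mem (L.mul_mem ht hy.1) (L.inv_mem ht), ?_⟩
      rw [mem_centralizer_iff]
      intro r hr
      have hr' : t⁻¹ * r * t ∈ R := by
        have := (mem_normalizer_iff.mp (hLR (L.inv_mem ht)) r).mp hr
        simpa using this
      have := mem_centralizer_iff.mp hy.2 _ hr'
      calc r * (t * y * t⁻¹) = t * ((t⁻¹ * r * t) * y) * t⁻¹ := by group
        _ = t * (y * (t⁻¹ * r * t)) * t⁻¹ := by rw [this]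
        _ = _ := by group
    refine ⟨hkey t ht y, fun h => ?_⟩
    have := hkey t⁻¹ (L.inv_mem ht) _ h
    simpa [mul_assoc] using this
  have hCR : C ≤ centralizer (R : Set G) := inf_le_right
  have hCW : ∀ c ∈ C, ∀ w ∈ W, c * w * c⁻¹ = w := by
    intro c hc w hw
    have : w * c = c * w := mem_centralizer_iff.mp (hCR hc) w (hWR hw)
    rw [← this, mul_inv_cancel_right]
  -- `[C, Q]`
  set X := ⁅C, Q⁆ with hX
  have hXC : X ≤ C := by
    apply commutator_le_of_normalizer
    exact hQL.trans hLC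
  have hCnW : C ≤ normalizer (W : Set G) := by
    intro c hc
    rw [mem_normalizer_iff]
    intro w
    constructor
    · intro hw
      rw [hCW c hc w hw]; exact hw
    · intro hw
      have := hCW c⁻¹ (C.inv_mem hc) _ hw
      have e : c⁻¹ * (c * w * c⁻¹) * c⁻¹⁻¹ = w := by group
      rw [e] at this
      rw [this]; exact hw
  have hQnW : Q ≤ normalizer (W : Set G) := by
    intro q hq
    rw [mem_normalizer_iff]
    intro w
    constructor
    · rintro ⟨h1, h2⟩
      exact ⟨hVn.conj_mem w h1 q, Q.mul_mem (Q.mul_mem hq h2) (Q.inv_mem hq)⟩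
    · rintro ⟨h1, h2⟩
      constructor
      · have := hVn.conj_mem _ h1 q⁻¹
        simpa [mul_assoc] using this
      · have := Q.mul_mem (Q.mul_mem (Q.inv_mem hq) h2) hq
        simpa [mul_assoc] using this
  have hXstab : X ≤ stabMod V W hVn := by
    rw [hX, Subgroup.commutator_le]
    intro c hc q hq
    have hqm : q ∈ stabMod V W hVn := by
      refine ⟨hQnW hq, fun v hv => ⟨?_, ?_⟩⟩
      · have h1 : q * v * q⁻¹ ∈ V := hVn.conj_mem v hv q
        exact V.mul_mem h1 (V.inv_mem hv)
      · have h1 : v * q⁻¹ * v⁻¹ ∈ Q := (mem_normalizer_iff.mp (hQn (hVT hv)) _).mp (Q.inv_mem hq)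
        have e : q * v * q⁻¹ * v⁻¹ = q * (v * q⁻¹ * v⁻¹) := by group
        rw [e]
        exact Q.mul_mem hq h1
    have hcq : c * q * c⁻¹ ∈ stabMod V W hVn := by
      refine ⟨mul_mem (mul_mem (hCnW hc) (hQnW hq)) (inv_mem (hCnW hc)), fun v hv => ?_⟩
      have hv' : c⁻¹ * v * c ∈ V := by
        have := hVn.conj_mem v hv c⁻¹
        simpa using this
      have h1 := hqm.2 _ hv'
      have h2 := hCW c hc _ h1
      have e : c * q * c⁻¹ * v * (c * q * c⁻¹)⁻¹ * v⁻¹ =
          c * (q * (c⁻¹ * v * c) * q⁻¹ * (c⁻¹ * v * c)⁻¹) * c⁻¹ := by group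
      rw [e, h2]
      exact h1
    rw [commutatorElement_def]
    exact mul_mem hcq (inv_mem hqm)
  have hVX : ⁅V, X⁆ ≤ W := by
    rw [Subgroup.commutator_le]
    intro v hv x hx
    have := (hXstab hx).2 v hv
    have e : ⁅v, x⁆ = (x * v * x⁻¹ * v⁻¹)⁻¹ := by
      rw [commutatorElement_def]; group
    rw [e]
    exact W.inv_mem this
  have hXp : IsPGroup p X := by
    apply isPGroup_of_nilpotent_action V hVp hG X (le_trans le_top (le_of_eq (normalizer_eq_top_iff.mpr hVn).symm))
    refine ⟨2, ?_⟩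
    show ⁅⁅V, X⁆, X⁆ = ⊥
    rw [eq_bot_iff, Subgroup.commutator_le]
    intro a ha x hx
    have hw := hVX ha
    have := hCW x (hXC hx) a hw
    rw [commutatorElement_def, Subgroup.mem_bot]
    have e : a * x * a⁻¹ * x⁻¹ = a * (x * a⁻¹ * x⁻¹) := by group
    have h2 : x * a⁻¹ * x⁻¹ = a⁻¹ := by
      have := hCW x (hXC hx) _ (W.inv_mem hw)
      exact this
    rw [e, h2, mul_inv_cancel]
  have hQnX : Q ≤ normalizer (X : Set G) := by
    rw [hX, Subgroup.commutator_comm]
    exact left_le_normalizer_commutator Q C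
  have hCnX : C ≤ normalizer (X : Set G) := left_le_normalizer_commutator C Q
  set Y := Q ⊔ X with hY
  have hYp : IsPGroup p Y := IsPGroup.to_sup_of_normal_right' hQp hXp hQnX
  have hCY : C ≤ normalizer (Y : Set G) := by
    intro c hc
    rw [mem_normalizer_iff_cj]
    have h1 : cj c Y ≤ Y := by
      rw [show cj c Y = Y.map (MulAut.conj c).toMonoidHom from rfl, Subgroup.map_le_iff_le_comap]
      refine sup_le ?_ ?_
      · intro q hq
        show c * q * c⁻¹ ∈ Y
        have e : c * q * c⁻¹ = ⁅c, q⁆ * q := by rw [commutatorElement_def]; group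
        rw [e]
        exact mul_mem (Subgroup.mem_sup_right (Subgroup.commutator_mem_commutator hc hq)) (Subgroup.mem_sup_left hq)
      · intro x hx
        show c * x * c⁻¹ ∈ Y
        exact Subgroup.mem_sup_right ((mem_normalizer_iff.mp (hCnX hc) x).mp hx)
    exact cj_eq_of_le h1 le_rfl
  have hCYn : C ≤ normalizer ((C ⊓ Y : Subgroup G) : Set G) := by
    intro c hc
    rw [mem_normalizer_iff]
    intro y
    constructor
    · rintro ⟨h1, h2⟩
      exact ⟨C.mul_mem (C.mul_mem hc h1) (C.inv_mem hc), (mem_normalizer_iff.mp (hCY hc) y).mp h2⟩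
    · rintro ⟨h1, h2⟩
      refine ⟨?_, (mem_normalizer_iff.mp (hCY hc) y).mpr h2⟩
      have := C.mul_mem (C.mul_mem (C.inv_mem hc) h1) hc
      simpa [mul_assoc] using this
  have hXR : X ≤ R := by
    have hCs : (C.subgroupOf L).IsSubnormal := by
      apply Subgroup.Normal.isSubnormal
      rw [Subgroup.normal_subgroupOf_iff_le_normalizer hCL]
      exact hLC
    have hle : ((C ⊓ Y : Subgroup G).subgroupOf L) ≤ pCore p ↥L := by
      apply le_pCore_of_subnormal hCs
      · have h0 : IsPGroup p ↥(C ⊓ Y : Subgroup G) := hYp.to_le inf_le_right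
        exact h0.comap_of_injective L.subtype L.subtype_injective
      · intro x hx
        exact Subgroup.mem_subgroupOf.mpr (Subgroup.mem_subgroupOf.mp hx).1
      · intro c hc
        rw [mem_normalizer_iff]
        intro y
        have hc' : (c : G) ∈ C := Subgroup.mem_subgroupOf.mp hc
        simp only [SetLike.mem_coe, Subgroup.mem_subgroupOf, Subgroup.coe_mul, InvMemClass.coe_inv]
        exact mem_normalizer_iff.mp (hCYn hc') (y : G)
    intro x hx
    have hxC := hXC hx
    have hxY : x ∈ Y := Subgroup.mem_sup_right hx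
    have hm : (⟨x, hCL hxC⟩ : L) ∈ pCore p ↥L :=
      hle (Subgroup.mem_subgroupOf.mpr ⟨hxC, hxY⟩)
    exact ⟨_, hm, rfl⟩
  -- `C` is a `p`-group
  have hCp : IsPGroup p C := by
    apply isPGroup_of_forall_prime (Fact.out : p.Prime)
    rintro q hq ⟨y, hy⟩ hoy
    by_contra hne
    have hoy' : orderOf y = q := by
      rw [← hoy]; exact (Subgroup.orderOf_mk y hy).symm
    have hyq : y ^ q = 1 := by rw [← hoy', pow_orderOf_eq_one]
    have hcent : y ∈ centralizer (Q : Set G) := by
      rw [mem_centralizer_iff]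
      intro t ht
      -- `z = t y t⁻¹ y⁻¹ = ⁅y, t⁆⁻¹`
      set z := t * y * t⁻¹ * y⁻¹ with hz
      have hzX : z ∈ X := by
        have := X.inv_mem (Subgroup.commutator_mem_commutator hy ht)
        have e : z = (⁅y, t⁆)⁻¹ := by rw [commutatorElement_def, hz]; group
        rw [e]; exact this
      have hzR : z ∈ R := hXR hzX
      have hyz : Commute z y := mem_centralizer_iff.mp (hCR hy) z hzR
      have hty : t * y * t⁻¹ = z * y := by rw [hz]; group
      have hpow : z ^ q = 1 := by
        have h1 : (t * y * t⁻¹) ^ q = 1 := by rw [conj_pow, hyq]; group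
        rw [hty, hyz.mul_pow, hyq, mul_one] at h1
        exact h1
      obtain ⟨k, hk⟩ := (IsPGroup.iff_orderOf.mp hRp) ⟨z, hzR⟩
      have hk' : orderOf z = p ^ k := by rw [← hk]; exact (Subgroup.orderOf_mk z hzR).symm
      have h1 : orderOf z ∣ q := orderOf_dvd_of_pow_eq_one hpow
      have hz1 : z = 1 := by
        rw [← orderOf_eq_one_iff]
        rcases (Nat.dvd_prime hq).mp h1 with h | h
        · exact h
        · exfalso
          rw [hk'] at h
          have hpq : p ∣ q := by
            have hk0 : k ≠ 0 := by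
              rintro rfl
              simp at h
              exact hq.one_lt.ne h
            rw [← h]
            exact dvd_pow_self p hk0
          exact hne ((Nat.prime_dvd_prime_iff_eq (Fact.out : p.Prime) hq).mp hpq).symm
      have : t * y * t⁻¹ = y := by rw [hty, hz1, one_mul]
      calc t * y = (t * y * t⁻¹) * t := by group
        _ = y * t := by rw [this]
    have hyQ : y ∈ Q := hCQ hcent
    obtain ⟨k, hk⟩ := (IsPGroup.iff_orderOf.mp hQp) ⟨y, hyQ⟩
    have hk' : orderOf y = p ^ k := by rw [← hk]; exact (Subgroup.orderOf_mk y hyQ).symm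
    rw [hoy'] at hk'
    have hpq : p ∣ q := by
      have hk0 : k ≠ 0 := by
        rintro rfl
        simp at hk'
        exact hq.one_lt.ne' hk'
      rw [hk']
      exact dvd_pow_self p hk0
    exact hne ((Nat.prime_dvd_prime_iff_eq (Fact.out : p.Prime) hq).mp hpq).symm
  intro x hx
  have hxC : (x : G) ∈ C := by
    refine Subgroup.mem_inf.mpr ⟨x.2, ?_⟩
    rw [mem_centralizer_iff]
    rintro _ ⟨r, hr, rfl⟩
    have := mem_centralizer_iff.mp hx r hr
    exact congrArg Subtype.val this
  have hn : (C.subgroupOf L).Normal := by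
    rw [Subgroup.normal_subgroupOf_iff_le_normalizer hCL]
    exact hLC
  have hpg : IsPGroup p (C.subgroupOf L) := hCp.comap_of_injective L.subtype L.subtype_injective
  exact le_pCore_of_normal _ hn hpg (Subgroup.mem_subgroupOf.mpr hxC)

end CfsgLib.Local
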