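import Cfsg.Agent.Lib.Local.Irred2
import Cfsg.Prelude.Def_DStar

/-! Glauberman's subgroup `D*(S)`. -/

namespace CfsgLib.Local

open Subgroup Cfsg
open scoped Pointwise commutatorElement

variable {S : Type*} [Group S] [Finite S]

/-- The lower central series of a subgroup, in the ambient group. -/
def lcsOf (X : Subgroup S) : ℕ → Subgroup S
  | 0 => X
  | k + 1 => ⁅lcsOf X k, X⁆

theorem lcsOf_succ (X : Subgroup S) (k : ℕ) : lcsOf X (k + 1) = ⁅lcsOf X k, X⁆ := rfl

theorem lcsOf_mono {X Y : Subgroup S} (h : X ≤ Y) : ∀ k, lcsOf X k ≤ lcsOf Y k := by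
  intro k
  induction k with
  | zero => exact h
  | succ k ih => exact Subgroup.commutator_mono ih h

theorem lcsOf_le_lower (X : Subgroup S) : ∀ k, lcsOf X k ≤ (⊤ : Subgroup S).lowerCentralSeries k := by
  intro k
  induction k with
  | zero => exact le_top
  | succ k ih =>
    rw [Subgroup.lowerCentralSeries_succ]
    exact Subgroup.commutator_mono ih le_top

theorem le_normalizer_lcsOf (X : Subgroup S) : ∀ k, X ≤ normalizer (lcsOf X k : Set S) := by
  intro k
  induction k with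
  | zero => exact Subgroup.le_normalizer
  | succ k ih =>
    intro s hs
    rw [mem_normalizer_iff_cj]
    refine cj_eq_of_le ?_ le_rfl
    rw [lcsOf_succ, cj_commutator, mem_normalizer_iff_cj.mp (ih hs),
      mem_normalizer_iff_cj.mp (Subgroup.le_normalizer hs)]

theorem commutator_sup_right_le {K U A M X : Subgroup S} (hX : X ≤ normalizer (K : Set S)) (hA : A ≤ X)
    (hM : M ≤ X) (h1 : ⁅U, A⁆ ≤ K) (h2 : ⁅U, M⁆ ≤ K) : ⁅U, A ⊔ M⁆ ≤ K := by
  let W : Subgroup S :=
    { carrier := {y | y ∈ X ∧ ∀ u ∈ U, ⁅u, y⁆ ∈ K}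
      one_mem' := ⟨X.one_mem, fun u _ => by simp⟩
      mul_mem' := by
        rintro a b ⟨ha, ha'⟩ ⟨hb, hb'⟩
        refine ⟨X.mul_mem ha hb, fun u hu => ?_⟩
        have e : ⁅u, a * b⁆ = ⁅u, a⁆ * (a * ⁅u, b⁆ * a⁻¹) := by
          simp only [commutatorElement_def]; group
        rw [e]
        exact K.mul_mem (ha' u hu) ((Subgroup.mem_normalizer_iff.mp (hX ha) _).mp (hb' u hu))
      inv_mem' := by
        rintro a ⟨ha, ha'⟩
        refine ⟨X.inv_mem ha, fun u hu => ?_⟩
        have e : ⁅u, a⁻¹⁆ = a⁻¹ * (⁅u, a⁆)⁻¹ * a := by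
          simp only [commutatorElement_def]; group
        rw [e]
        have := (Subgroup.mem_normalizer_iff.mp (Subgroup.inv_mem _ (hX ha)) _).mp (K.inv_mem (ha' u hu))
        simpa using this }
  have hAW : A ≤ W := fun a ha => ⟨hA ha, fun u hu => h1 (Subgroup.commutator_mem_commutator hu ha)⟩
  have hMW : M ≤ W := fun a ha => ⟨hM ha, fun u hu => h2 (Subgroup.commutator_mem_commutator hu ha)⟩
  rw [Subgroup.commutator_le]
  intro u hu y hy
  exact ((sup_le hAW hMW) hy).2 u hu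

theorem commutator_sup_le {K A M X : Subgroup S} (hX : X ≤ normalizer (K : Set S)) (hA : A ≤ X)
    (hM : M ≤ X) (h1 : ⁅A, A⁆ ≤ K) (h2 : ⁅A, M⁆ ≤ K) (h3 : ⁅M, A⁆ ≤ K) (h4 : ⁅M, M⁆ ≤ K) :
    ⁅A ⊔ M, A ⊔ M⁆ ≤ K := by
  refine commutator_sup_right_le hX hA hM ?_ ?_
  · rw [Subgroup.commutator_comm]
    exact commutator_sup_right_le hX hA hM h1 h2
  · rw [Subgroup.commutator_comm]
    exact commutator_sup_right_le hX hA hM h3 h4

/-- Two subgroups commute elementwise. -/
def CommSub (A B : Subgroup S) : Prop := ∀ a ∈ A, ∀ b ∈ B, a * b = b * a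

theorem commSub_iff {A B : Subgroup S} : CommSub A B ↔ ⁅A, B⁆ = ⊥ := by
  rw [eq_bot_iff, Subgroup.commutator_le]
  constructor
  · intro h a ha b hb
    rw [Subgroup.mem_bot, commutatorElement_eq_one_iff_mul_comm]
    exact h a ha b hb
  · intro h a ha b hb
    have := h a ha b hb
    rwa [Subgroup.mem_bot, commutatorElement_eq_one_iff_mul_comm] at this

theorem commSub_iff_le {A B : Subgroup S} : CommSub A B ↔ A ≤ centralizer (B : Set S) := by
  constructor
  · intro h a ha
    rw [Subgroup.mem_centralizer_iff]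
    intro b hb
    exact (h a ha b hb).symm
  · intro h a ha b hb
    exact ((Subgroup.mem_centralizer_iff.mp (h ha)) b hb).symm

theorem commSub_symm {A B : Subgroup S} (h : CommSub A B) : CommSub B A :=
  fun b hb a ha => (h a ha b hb).symm

theorem commSub_iSup_left {ι : Type*} {F : ι → Subgroup S} {W : Subgroup S} (h : ∀ i, CommSub (F i) W) :
    CommSub (⨆ i, F i) W := by
  rw [commSub_iff_le]
  exact iSup_le fun i => commSub_iff_le.mp (h i)

theorem commSub_cj (y : S) {A B : Subgroup S} (h : CommSub A B) : CommSub (cj y A) (cj y B) := by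
  rintro _ ⟨a, ha, rfl⟩ _ ⟨b, hb, rfl⟩
  show y * a * y⁻¹ * (y * b * y⁻¹) = y * b * y⁻¹ * (y * a * y⁻¹)
  have e : y * a * y⁻¹ * (y * b * y⁻¹) = y * (a * b) * y⁻¹ := by group
  rw [e, h a ha b hb]; group

theorem dStarFamily_cj {A : Subgroup S} (hA : A ∈ dStarFamily S) (y : S) : cj y A ∈ dStarFamily S := by
  obtain ⟨h1, h2⟩ := hA
  constructor
  · refine ⟨⟨?_⟩⟩
    have hc : CommSub A A := fun a ha b hb => by
      have := h1.is_comm.comm ⟨a, ha⟩ ⟨b, hb⟩
      exact congrArg Subtype.val this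
    intro a b
    exact Subtype.ext (commSub_cj y hc a a.2 b b.2)
  · intro x hx a ha
    set x' := y⁻¹ * x * y with hx'
    have hcjE : cj y (A ⊔ zpowers x') = cj y A ⊔ zpowers x := by
      rw [show cj y (A ⊔ zpowers x') = cj y A ⊔ cj y (zpowers x') from Subgroup.map_sup _ _ _]
      congr 1
      rw [show cj y (zpowers x') = (zpowers x').map (MulAut.conj y).toMonoidHom from rfl, MonoidHom.map_zpowers]
      congr 1
      show y * x' * y⁻¹ = x
      rw [hx']; group
    have hE : ⁅⁅A ⊔ zpowers x', A ⊔ zpowers x'⁆, A ⊔ zpowers x'⁆ = ⊥ := by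
      have h3 : cj y ⁅⁅A ⊔ zpowers x', A ⊔ zpowers x'⁆, A ⊔ zpowers x'⁆ = ⊥ := by
        rw [cj_commutator, cj_commutator, hcjE]
        exact hx
      exact (Subgroup.map_eq_bot_iff_of_injective _ (MulAut.conj y).injective).mp h3
    obtain ⟨a₀, ha₀, rfl⟩ := ha
    have h4 := h2 x' hE a₀ ha₀
    show y * a₀ * y⁻¹ * x = x * (y * a₀ * y⁻¹)
    have e1 : x = y * x' * y⁻¹ := by rw [hx']; group
    rw [e1]
    have e2 : y * a₀ * y⁻¹ * (y * x' * y⁻¹) = y * (a₀ * x') * y⁻¹ := by group
    rw [e2, h4]; group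

theorem commutator_conj_le (X A : Subgroup S) (hAX : A ≤ X) (hA : CommSub A A) {y : S} (hy : y ∈ X) :
    ⁅A ⊔ cj y A, A ⊔ cj y A⁆ ≤ lcsOf X 2 := by
  set M := ⁅X, X⁆ with hM
  have hMX : M ≤ X := by
    rw [Subgroup.commutator_le]
    intro a ha b hb
    rw [commutatorElement_def]
    exact X.mul_mem (X.mul_mem (X.mul_mem ha hb) (X.inv_mem ha)) (X.inv_mem hb)
  have hK : lcsOf X 2 = ⁅M, X⁆ := rfl
  have hle : A ⊔ cj y A ≤ A ⊔ M := by
    refine sup_le le_sup_left ?_
    rintro _ ⟨a, ha, rfl⟩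
    show y * a * y⁻¹ ∈ A ⊔ M
    have e : y * a * y⁻¹ = ⁅y, a⁆ * a := by rw [commutatorElement_def]; group
    rw [e]
    exact Subgroup.mul_mem _ (Subgroup.mem_sup_right (Subgroup.commutator_mem_commutator hy (hAX ha)))
      (Subgroup.mem_sup_left ha)
  refine (Subgroup.commutator_mono hle hle).trans ?_
  refine commutator_sup_le (le_normalizer_lcsOf X 2) hAX hMX ?_ ?_ ?_ ?_
  · rw [commSub_iff.mp hA]; exact bot_le
  · rw [hK, Subgroup.commutator_comm]
    exact Subgroup.commutator_mono le_rfl hAX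
  · rw [hK]
    exact Subgroup.commutator_mono le_rfl hAX
  · rw [hK]
    exact Subgroup.commutator_mono le_rfl hMX

theorem lcsOf_conj_le (X A : Subgroup S) (hAX : A ≤ X) (hA : CommSub A A) {y : S} (hy : y ∈ X) (k : ℕ) :
    lcsOf (A ⊔ cj y A) (k + 1) ≤ lcsOf X (k + 2) := by
  have hNX : A ⊔ cj y A ≤ X := by
    refine sup_le hAX ?_
    rintro _ ⟨a, ha, rfl⟩
    exact X.mul_mem (X.mul_mem hy (hAX ha)) (X.inv_mem hy)
  induction k with
  | zero => exact commutator_conj_le X A hAX hA hy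
  | succ k ih => exact Subgroup.commutator_mono ih hNX

theorem normalClosure_props (X A : Subgroup S) (hAX : A ≤ X)
    (hconj : ∀ y ∈ X, CommSub A (cj y A)) :
    ∃ N : Subgroup S, A ≤ N ∧ N ≤ X ∧ X ≤ normalizer (N : Set S) ∧ CommSub N N := by
  refine ⟨⨆ y : X, cj (y : S) A, ?_, ?_, ?_, ?_⟩
  · refine le_trans ?_ (le_iSup (fun y : X => cj (y : S) A) 1)
    intro a ha
    rw [mem_cj]
    simpa using ha
  · refine iSup_le fun y => ?_
    rintro _ ⟨a, ha, rfl⟩
    exact X.mul_mem (X.mul_mem y.2 (hAX ha)) (X.inv_mem y.2)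
  · intro x hx
    rw [mem_normalizer_iff_cj]
    refine cj_eq_of_le ?_ le_rfl
    rw [show cj x (⨆ y : X, cj (y : S) A) = ⨆ y : X, cj x (cj (y : S) A) from Subgroup.map_iSup _ _]
    refine iSup_le fun y => ?_
    refine le_trans ?_ (le_iSup (fun y : X => cj (y : S) A) (⟨x, hx⟩ * y))
    rintro _ ⟨_, ⟨a, ha, rfl⟩, rfl⟩
    refine ⟨a, ha, ?_⟩
    show ((⟨x, hx⟩ * y : X) : S) * a * ((⟨x, hx⟩ * y : X) : S)⁻¹ = x * ((y : S) * a * (y : S)⁻¹) * x⁻¹
    simp only [MulMemClass.coe_mul]; group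
  · refine commSub_iSup_left fun i => ?_
    refine commSub_symm (commSub_iSup_left fun j => ?_)
    -- `cj j A` and `cj i A`
    have h1 := hconj ((j : S)⁻¹ * (i : S)) (X.mul_mem (X.inv_mem j.2) i.2)
    have h2 := commSub_cj (j : S) h1
    have h3 : cj (j : S) (cj ((j : S)⁻¹ * (i : S)) A) = cj (i : S) A := by
      rw [← cj_mul]
      congr 1
      group
    rwa [h3] at h2

variable {p : ℕ} [Fact p.Prime]

theorem family_commute_aux (c : ℕ) :
    ∀ A ∈ dStarFamily S, ∀ B ∈ dStarFamily S, lcsOf (A ⊔ B) (c + 1) = ⊥ → CommSub A B := by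
  induction c with
  | zero =>
    intro A _ B _ h a ha b hb
    have h1 := Subgroup.commutator_mem_commutator (Subgroup.mem_sup_left ha : a ∈ A ⊔ B)
      (Subgroup.mem_sup_right hb : b ∈ A ⊔ B)
    have h2 : ⁅A ⊔ B, A ⊔ B⁆ = ⊥ := h
    rw [h2, Subgroup.mem_bot, commutatorElement_eq_one_iff_mul_comm] at h1
    exact h1
  | succ c ih =>
    intro A hA B hB h
    set X := A ⊔ B with hX
    have hAA : CommSub A A := fun a ha b hb => by
      have := hA.1.is_comm.comm ⟨a, ha⟩ ⟨b, hb⟩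
      exact congrArg Subtype.val this
    have hBB : CommSub B B := fun a ha b hb => by
      have := hB.1.is_comm.comm ⟨a, ha⟩ ⟨b, hb⟩
      exact congrArg Subtype.val this
    have hAc : ∀ y ∈ X, CommSub A (cj y A) := fun y hy =>
      ih A hA _ (dStarFamily_cj hA y) (le_bot_iff.mp ((lcsOf_conj_le X A le_sup_left hAA hy c).trans h.le))
    have hBc : ∀ y ∈ X, CommSub B (cj y B) := fun y hy =>
      ih B hB _ (dStarFamily_cj hB y) (le_bot_iff.mp ((lcsOf_conj_le X B le_sup_right hBB hy c).trans h.le))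
    obtain ⟨NA, hA1, hA2, hA3, hA4⟩ := normalClosure_props X A le_sup_left hAc
    obtain ⟨NB, hB1, hB2, hB3, hB4⟩ := normalClosure_props X B le_sup_right hBc
    have hXeq : NA ⊔ NB = X := le_antisymm (sup_le hA2 hB2) (sup_le (hA1.trans le_sup_left) (hB1.trans le_sup_right))
    set D := NA ⊓ NB with hD
    have hDn : X ≤ normalizer (D : Set S) := by
      intro x hx
      rw [mem_normalizer_iff_cj]
      refine cj_eq_of_le ?_ le_rfl
      rintro _ ⟨d, hd, rfl⟩
      obtain ⟨hd1, hd2⟩ := Subgroup.mem_inf.mp hd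
      exact Subgroup.mem_inf.mpr ⟨(Subgroup.mem_normalizer_iff.mp (hA3 hx) d).mp hd1,
        (Subgroup.mem_normalizer_iff.mp (hB3 hx) d).mp hd2⟩
    have hcross : ⁅NA, NB⁆ ≤ D := by
      rw [Subgroup.commutator_le]
      intro a ha b hb
      rw [commutatorElement_def]
      refine Subgroup.mem_inf.mpr ⟨?_, ?_⟩
      · have e : a * b * a⁻¹ * b⁻¹ = a * (b * a⁻¹ * b⁻¹) := by group
        rw [e]
        exact NA.mul_mem ha ((Subgroup.mem_normalizer_iff.mp (hA3 (hB2 hb)) _).mp (NA.inv_mem ha))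
      · exact NB.mul_mem ((Subgroup.mem_normalizer_iff.mp (hB3 (hA2 ha)) b).mp hb) (NB.inv_mem hb)
    have hcomm : ⁅X, X⁆ ≤ D := by
      rw [← hXeq]
      refine commutator_sup_le (hXeq ▸ hDn) le_sup_left le_sup_right ?_ hcross ?_ ?_
      · rw [commSub_iff.mp hA4]; exact bot_le
      · rw [Subgroup.commutator_comm]; exact hcross
      · rw [commSub_iff.mp hB4]; exact bot_le
    have hDcentral : CommSub D X := by
      rw [commSub_iff_le]
      have h1 : D ≤ centralizer ((NA ⊔ NB : Subgroup S) : Set S) := by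
        intro d hd
        obtain ⟨hd1, hd2⟩ := Subgroup.mem_inf.mp hd
        rw [Subgroup.mem_centralizer_iff]
        have h2 : NA ⊔ NB ≤ centralizer ({d} : Set S) := by
          refine sup_le ?_ ?_
          · intro a ha
            exact Subgroup.mem_centralizer_singleton_iff.mpr (hA4 a ha d hd1)
          · intro a ha
            exact Subgroup.mem_centralizer_singleton_iff.mpr (hB4 a ha d hd2)
        intro h hh
        exact Subgroup.mem_centralizer_singleton_iff.mp (h2 hh)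
      rwa [hXeq] at h1
    have hclass : ⁅⁅X, X⁆, X⁆ = ⊥ := by
      rw [eq_bot_iff]
      refine (Subgroup.commutator_mono hcomm le_rfl).trans ?_
      rw [commSub_iff.mp hDcentral]
    intro a ha b hb
    refine hA.2 b ?_ a ha
    have hE : A ⊔ zpowers b ≤ X := sup_le le_sup_left ((Subgroup.zpowers_le).mpr (Subgroup.mem_sup_right hb))
    exact le_bot_iff.mp ((Subgroup.commutator_mono (Subgroup.commutator_mono hE hE) hE).trans hclass.le)

/-- `S3061`. -/
theorem dStar_mem (hS : IsPGroup p S) : dStar S ∈ dStarFamily S := by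
  haveI hnil : Group.IsNilpotent S := hS.isNilpotent
  obtain ⟨n, hn⟩ := Subgroup.nilpotent_iff_lowerCentralSeries.mp hnil
  have hcomm : ∀ A ∈ dStarFamily S, ∀ B ∈ dStarFamily S, CommSub A B := by
    intro A hA B hB
    refine family_commute_aux n A hA B hB ?_
    have h1 := lcsOf_le_lower (A ⊔ B) n
    rw [hn] at h1
    rw [lcsOf_succ, le_bot_iff.mp h1]
    exact Subgroup.commutator_bot_left _
  have hall : CommSub (dStar S) (dStar S) := by
    have h1 : ∀ A ∈ dStarFamily S, A ≤ centralizer ((dStar S : Subgroup S) : Set S) := by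
      intro A hA
      apply commSub_iff_le.mp
      apply commSub_symm
      rw [commSub_iff_le]
      exact sSup_le fun B hB => commSub_iff_le.mp (hcomm B hB A hA)
    rw [commSub_iff_le]
    exact sSup_le h1
  constructor
  · refine ⟨⟨fun a b => Subtype.ext (hall a a.2 b b.2)⟩⟩
  · intro x hx a ha
    have h1 : dStar S ≤ centralizer ({x} : Set S) := by
      refine sSup_le fun A hA => ?_
      intro b hb
      have hE : A ⊔ zpowers x ≤ dStar S ⊔ zpowers x := sup_le_sup_right (le_sSup hA) _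
      have h2 := hA.2 x (le_bot_iff.mp ((Subgroup.commutator_mono (Subgroup.commutator_mono hE hE) hE).trans hx.le))
      exact Subgroup.mem_centralizer_singleton_iff.mpr (h2 b hb)
    exact Subgroup.mem_centralizer_singleton_iff.mp (h1 ha)

end CfsgLib.Local
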