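import Cfsg.Agent.Lib.H3.Signal
import Cfsg.Agent.Lib.FGS.ABLemma
import Cfsg.Agent.Lib.Local.DStar
import Cfsg.Agent.Lib.SS.Misc
import Cfsg.Agent.Lib.Local.Reduced
import Cfsg.Agent.Lib.Local.CharQ

/-! Coprime actions: commutators inside a Frattini subgroup and uniform actions of noncyclic elementary abelian groups. -/

set_option autoImplicit false
set_option linter.style.haveILetI false
set_option linter.unusedSectionVars false

namespace CfsgLib.Local
open Cfsg Subgroup CfsgLib.Solv
open scoped commutatorElement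

variable {G : Type*} [Group G] [Finite G] {p : ℕ} [Fact p.Prime]

theorem le_normalizer_sup_of {A B N : Subgroup G} (hA : N ≤ normalizer (A : Set G))
    (hB : N ≤ normalizer (B : Set G)) : N ≤ normalizer ((A ⊔ B : Subgroup G) : Set G) := by
  intro g hg
  rw [mem_normalizer_iff_cj]
  have h1 := mem_normalizer_iff_cj.mp (hA hg)
  have h2 := mem_normalizer_iff_cj.mp (hB hg)
  show (A ⊔ B).map _ = _
  rw [Subgroup.map_sup]
  show cj g A ⊔ cj g B = _
  rw [h1, h2]

/-- `S2908`. -/
theorem centralizes_of_commutator_le (P A B : Subgroup G) (hP : IsPGroup p P) (hA : IsPGroup p A)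
    (hB : ¬ p ∣ Nat.card B) (hnA : A ≤ normalizer (P : Set G)) (hnB : B ≤ normalizer (P : Set G))
    (hAB : ⁅A, B⁆ = ⊥) (hcomm : ⁅P, B⁆ ≤ ⁅P, A⁆) : ⁅P, B⁆ = ⊥ := by
  set K : Subgroup G := P ⊔ A with hK
  have hKp : IsPGroup p K := hP.to_sup_of_normal_left' hA hnA
  have hBC : B ≤ centralizer (A : Set G) := by
    rw [← Subgroup.commutator_eq_bot_iff_le_centralizer, Subgroup.commutator_comm]
    exact hAB
  have hBK : B ≤ normalizer (K : Set G) :=
    le_normalizer_sup_of hnB (hBC.trans (Subgroup.centralizer_le_normalizer _))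
  set F : Subgroup G := (frattini K).map K.subtype with hF
  have hKF : K ≤ normalizer (F : Set G) := by
    rw [Subgroup.le_normalizer_iff]
    rintro k hk y ⟨z, hz, rfl⟩
    have h2 : (⟨k, hk⟩ : K) * z * (⟨k, hk⟩ : K)⁻¹ ∈ frattini K :=
      Subgroup.Normal.conj_mem inferInstance z hz _
    exact ⟨_, h2, rfl⟩
  have hcK : ⁅K, K⁆ ≤ F := by
    haveI : Group.IsNilpotent K := hKp.isNilpotent
    rw [← Subgroup.map_subtype_commutator]
    exact Subgroup.map_mono CfsgLib.SS.commutator_le_frattini_of_nilpotent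
  have htriv : ⁅B, K⁆ ≤ F := by
    refine commutator_sup_right_le hKF le_sup_left le_sup_right ?_ ?_
    · rw [Subgroup.commutator_comm]
      exact hcomm.trans ((Subgroup.commutator_mono le_sup_left le_sup_right).trans hcK)
    · rw [Subgroup.commutator_comm, hAB]
      exact bot_le
  have hcop : (Nat.card B).Coprime (Nat.card (frattini K)) := by
    obtain ⟨n, hn⟩ := IsPGroup.iff_card.mp (IsPGroup.to_subgroup hKp (frattini K))
    rw [hn]
    exact Nat.Coprime.pow_right _ ((Nat.Prime.coprime_iff_not_dvd Fact.out).mpr hB).symm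
  have h1 := frattini_coprime_trivial B K hBK hcop
    (fun a ha k hk => htriv (Subgroup.commutator_mem_commutator ha hk))
  rw [Subgroup.commutator_comm, Subgroup.commutator_eq_bot_iff_le_centralizer]
  exact h1.trans (Subgroup.centralizer_le (by
    intro x hx
    exact (le_sup_left : P ≤ K) hx))

/-- Generation by centralizers of nontrivial elements of a noncyclic elementary abelian group. -/
theorem gen_centralizers (U R T : Subgroup G) (hU : IsElementaryAbelian p U) (hnc : ¬ IsCyclic ↥U)
    (hR : ¬ p ∣ Nat.card R) (hRU : U ≤ normalizer (R : Set G))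
    (h : ∀ u ∈ U, u ≠ 1 → R ⊓ centralizer ({u} : Set G) ≤ T) : R ≤ T := by
  have hcomm : ∀ a ∈ U, ∀ b ∈ U, a * b = b * a := by
    intro a ha b hb
    haveI := hU.1
    have := mul_comm' (⟨a, ha⟩ : U) ⟨b, hb⟩
    exact congrArg Subtype.val this
  rw [CfsgLib.Signal.gen_coprime (p := p) U R hcomm hU.2 hR hRU]
  refine iSup_le fun B => ?_
  obtain ⟨B, hBU, hBi⟩ := B
  have hB : B ≠ ⊥ := by
    rintro rfl
    rw [Subgroup.relIndex_bot_left] at hBi
    apply hnc
    obtain ⟨k, hk⟩ := IsPGroup.iff_card.mp (isPGroup_of_elementary hU)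
    have hp : p.Prime := Fact.out
    rw [hk] at hBi
    have hk1 : k ≤ 1 := by
      by_contra hk2
      have : p ^ 2 ≤ p ^ k := Nat.pow_le_pow_right hp.pos (by omega)
      have h3 : p < p ^ 2 := by nlinarith [hp.two_le]
      omega
    interval_cases k
    · haveI : Subsingleton U := by
        rw [pow_zero] at hk
        exact (Nat.card_eq_one_iff_unique.mp hk).1
      exact isCyclic_of_subsingleton
    · rw [pow_one] at hk
      exact isCyclic_of_prime_card hk
  obtain ⟨⟨u, huB⟩, hu1⟩ := (Subgroup.ne_bot_iff_exists_ne_one.mp hB)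
  have hu1' : u ≠ 1 := fun h => hu1 (Subtype.ext h)
  refine le_trans (inf_le_inf_left _ (Subgroup.centralizer_le ?_)) (h u (hBU huB) hu1')
  intro x hx
  rw [Set.mem_singleton_iff.mp hx]
  exact huB

/-- `S2909`. -/
theorem commutator_le_centralizer_of_uniform (E : Subgroup G) [hEn : E.Normal] (hE : IsPGroup p E)
    (U : Subgroup G) (hU : IsElementaryAbelian p U) (hnc : ¬ IsCyclic ↥U)
    (hcond : (∀ u ∈ U, u ≠ 1 → E ⊓ centralizer (U : Set G) = E ⊓ centralizer ({u} : Set G)) ∨
      (∀ u ∈ U, u ≠ 1 → ⁅E, U⁆ = ⁅E, zpowers u⁆))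
    (R : Subgroup G) (hR : ¬ p ∣ Nat.card R) (hRU : U ≤ normalizer (R : Set G)) :
    ⁅R, U⁆ ≤ centralizer (E : Set G) := by
  set R₁ : Subgroup G := ⁅R, U⁆ with hR₁def
  have hR₁R : R₁ ≤ R := commutator_le_of_normalizes hRU
  have hR₁ : ¬ p ∣ Nat.card R₁ := fun h => hR (h.trans (Subgroup.card_dvd_of_le hR₁R))
  have hUR₁ : U ≤ normalizer (R₁ : Set G) := le_normalizer_commutator_right hRU
  have hnE : ∀ g : G, g ∈ normalizer (E : Set G) := fun g => by
    rw [mem_normalizer_iff]
    intro y
    exact ⟨fun hy => hEn.conj_mem y hy g, fun hy => by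
      have := hEn.conj_mem _ hy g⁻¹
      simpa [mul_assoc] using this⟩
  apply gen_centralizers U R₁ _ hU hnc hR₁ hUR₁
  intro u hu hu1 y hy
  obtain ⟨hyR₁, hyu⟩ := Subgroup.mem_inf.mp hy
  have hUp : IsPGroup p U := isPGroup_of_elementary hU
  have hup : IsPGroup p (zpowers u) := hUp.to_le ((Subgroup.zpowers_le).mpr hu)
  have hycop : (orderOf y).Coprime p := by
    have h1 : orderOf y ∣ Nat.card R := Subgroup.orderOf_dvd_natCard R (hR₁R hyR₁)
    exact ((Nat.Prime.coprime_iff_not_dvd Fact.out).mpr (fun h => hR (h.trans h1))).symm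
  rw [Subgroup.mem_centralizer_iff]
  rcases hcond with h | h
  · -- the centralizer case
    set C₀ : Subgroup G := E ⊓ centralizer (U : Set G) with hC₀
    have hRN : R ≤ normalizer (C₀ : Set G) := by
      apply gen_centralizers U R _ hU hnc hR hRU
      intro v hv hv1 r hr
      obtain ⟨hrR, hrC⟩ := Subgroup.mem_inf.mp hr
      show r ∈ normalizer ((C₀ : Subgroup G) : Set G)
      rw [h v hv hv1, mem_normalizer_iff]
      have hrv : r * v = v * r := Subgroup.mem_centralizer_singleton_iff.mp hrC
      have key : ∀ z : G, z * v = v * z → r * z * r⁻¹ * v = v * (r * z * r⁻¹) := by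
        intro z hz
        calc r * z * r⁻¹ * v = r * z * (r⁻¹ * v * r) * r⁻¹ := by group
          _ = r * z * v * r⁻¹ := by
            have : r⁻¹ * v * r = v := by rw [mul_assoc, ← hrv]; group
            rw [this]
          _ = r * (z * v) * r⁻¹ := by group
          _ = r * v * z * r⁻¹ := by rw [hz]; group
          _ = v * (r * z * r⁻¹) := by rw [hrv]; group
      have key2 : ∀ z : G, z * v = v * z → r⁻¹ * z * r * v = v * (r⁻¹ * z * r) := by
        intro z hz
        have hrv' : r⁻¹ * v = v * r⁻¹ := by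
          calc r⁻¹ * v = r⁻¹ * (v * r) * r⁻¹ := by group
            _ = r⁻¹ * (r * v) * r⁻¹ := by rw [hrv]
            _ = v * r⁻¹ := by group
        calc r⁻¹ * z * r * v = r⁻¹ * z * (r * v) := by group
          _ = r⁻¹ * (z * v) * r := by rw [hrv]; group
          _ = (r⁻¹ * v) * z * r := by rw [hz]; group
          _ = v * (r⁻¹ * z * r) := by rw [hrv']; group
      intro z
      constructor
      · intro hz
        obtain ⟨hz1, hz2⟩ := Subgroup.mem_inf.mp hz
        refine Subgroup.mem_inf.mpr ⟨hEn.conj_mem z hz1 r, ?_⟩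
        exact Subgroup.mem_centralizer_singleton_iff.mpr
          (key z (Subgroup.mem_centralizer_singleton_iff.mp hz2))
      · intro hz
        obtain ⟨hz1, hz2⟩ := Subgroup.mem_inf.mp hz
        have h3 := hEn.conj_mem _ hz1 r⁻¹
        have e : r⁻¹ * (r * z * r⁻¹) * r⁻¹⁻¹ = z := by group
        rw [e] at h3
        refine Subgroup.mem_inf.mpr ⟨h3, ?_⟩
        have h4 := key2 _ (Subgroup.mem_centralizer_singleton_iff.mp hz2)
        have e2 : r⁻¹ * (r * z * r⁻¹) * r = z := by group
        rw [e2] at h4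
        exact Subgroup.mem_centralizer_singleton_iff.mpr h4
    have hUC : U ≤ centralizer (C₀ : Set G) := by
      intro w hw
      rw [Subgroup.mem_centralizer_iff]
      intro c hc
      exact (Subgroup.mem_centralizer_iff.mp (Subgroup.mem_inf.mp hc).2 w hw).symm
    have hR₁C : R₁ ≤ centralizer (C₀ : Set G) := by
      rw [hR₁def, Subgroup.commutator_le]
      intro r hr w hw
      rw [commutatorElement_def]
      refine mul_mem ?_ (inv_mem (hUC hw))
      have h1 := hUC hw
      rw [Subgroup.mem_centralizer_iff] at h1 ⊢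
      intro c hc
      have hc' : r⁻¹ * c * r ∈ C₀ := by
        have := (mem_normalizer_iff.mp (inv_mem (hRN hr)) c).mp hc
        simpa using this
      have h2 := h1 _ hc'
      calc c * (r * w * r⁻¹) = r * (r⁻¹ * c * r * w) * r⁻¹ := by group
        _ = r * (w * (r⁻¹ * c * r)) * r⁻¹ := by rw [h2]
        _ = r * w * r⁻¹ * c := by group
    intro e he
    have hfix : ∀ z ∈ E, u * z = z * u → y * z = z * y := by
      intro z hz hzu
      have h1 : z ∈ C₀ := by
        show z ∈ C₀
        rw [h u hu hu1]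
        exact Subgroup.mem_inf.mpr ⟨hz, Subgroup.mem_centralizer_singleton_iff.mpr hzu.symm⟩
      exact (Subgroup.mem_centralizer_iff.mp (hR₁C hyR₁) z h1).symm
    have h5 := CfsgLib.FGS.ab_lemma hE (hnE y) (hnE u)
      (Subgroup.mem_centralizer_singleton_iff.mp hyu) hycop hup hfix e he
    exact h5.symm
  · -- the commutator case
    set D : Subgroup G := ⁅E, U⁆ with hD
    have hRN : R ≤ normalizer (D : Set G) := by
      apply gen_centralizers U R _ hU hnc hR hRU
      intro v hv hv1 r hr
      obtain ⟨hrR, hrC⟩ := Subgroup.mem_inf.mp hr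
      show r ∈ normalizer ((D : Subgroup G) : Set G)
      rw [h v hv hv1, mem_normalizer_iff_cj]
      show (⁅E, zpowers v⁆ : Subgroup G).map _ = _
      rw [Subgroup.map_commutator]
      have h1 : cj r E = E := mem_normalizer_iff_cj.mp (hnE r)
      have h2 : cj r (zpowers v) = zpowers v := by
        rw [← mem_normalizer_iff_cj]
        refine Subgroup.centralizer_le_normalizer _ ?_
        rw [Subgroup.mem_centralizer_iff]
        intro z hz
        obtain ⟨n, rfl⟩ := Subgroup.mem_zpowers_iff.mp hz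
        have hc : Commute r v := Subgroup.mem_centralizer_singleton_iff.mp hrC
        exact (hc.zpow_right n).eq.symm
      have h1' : E.map (MulAut.conj r).toMonoidHom = E := h1
      have h2' : (zpowers v).map (MulAut.conj r).toMonoidHom = zpowers v := h2
      rw [h1', h2']
    have hUN : U ≤ normalizer (D : Set G) := le_normalizer_commutator_right (fun g _ => hnE g)
    set W : Subgroup G := stabMod E D hEn with hW
    have hUW : U ≤ W := by
      intro w hw
      refine mem_stabMod.mpr ⟨hUN hw, fun v hv => ?_⟩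
      have h1 : ⁅v, w⁆ ∈ D := Subgroup.commutator_mem_commutator hv hw
      have e : w * v * w⁻¹ * v⁻¹ = (⁅v, w⁆)⁻¹ := by
        rw [commutatorElement_def]; group
      rw [e]
      exact inv_mem h1
    have hconj : ∀ r ∈ normalizer (D : Set G), ∀ w ∈ W, r * w * r⁻¹ ∈ W := by
      intro r hr w hw
      obtain ⟨hw1, hw2⟩ := mem_stabMod.mp hw
      refine mem_stabMod.mpr ⟨mul_mem (mul_mem hr hw1) (inv_mem hr), fun v hv => ?_⟩
      have hv' : r⁻¹ * v * r ∈ E := by
        have := hEn.conj_mem v hv r⁻¹
        simpa using this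
      have h2 := hw2 _ hv'
      have h3 := (mem_normalizer_iff.mp hr _).mp h2
      have e : r * w * r⁻¹ * v * (r * w * r⁻¹)⁻¹ * v⁻¹ =
          r * (w * (r⁻¹ * v * r) * w⁻¹ * (r⁻¹ * v * r)⁻¹) * r⁻¹ := by group
      rw [e]
      exact h3
    have hR₁W : R₁ ≤ W := by
      rw [hR₁def, Subgroup.commutator_le]
      intro r hr w hw
      rw [commutatorElement_def]
      exact mul_mem (hconj r (hRN hr) w (hUW hw)) (inv_mem (hUW hw))
    have hyW : y ∈ W := hR₁W hyR₁
    have hpy : ¬ p ∣ Nat.card (zpowers y) := by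
      rw [Nat.card_zpowers]
      exact fun hd => (Nat.Prime.coprime_iff_not_dvd (Fact.out : p.Prime)).mp hycop.symm hd
    have hAB : ⁅zpowers u, zpowers y⁆ = ⊥ := by
      rw [Subgroup.commutator_eq_bot_iff_le_centralizer]
      intro a ha
      rw [Subgroup.mem_centralizer_iff]
      intro b hb
      obtain ⟨n, rfl⟩ := Subgroup.mem_zpowers_iff.mp ha
      obtain ⟨m, rfl⟩ := Subgroup.mem_zpowers_iff.mp hb
      have hc : Commute y u := Subgroup.mem_centralizer_singleton_iff.mp hyu
      exact (hc.zpow_zpow m n).eq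
    have hcomm : ⁅E, zpowers y⁆ ≤ ⁅E, zpowers u⁆ := by
      rw [← h u hu hu1, Subgroup.commutator_le]
      intro v hv g hg
      have hgW : g ∈ W := (Subgroup.zpowers_le.mpr hyW) hg
      have h1 := (mem_stabMod.mp hgW).2 v hv
      have e : ⁅v, g⁆ = (g * v * g⁻¹ * v⁻¹)⁻¹ := by
        rw [commutatorElement_def]; group
      rw [e]
      exact inv_mem h1
    have h5 := centralizes_of_commutator_le E (zpowers u) (zpowers y) hE hup hpy
      (fun g _ => hnE g) (fun g _ => hnE g) hAB hcomm
    intro e he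
    have h6 : ⁅e, y⁆ = 1 := by
      have := Subgroup.commutator_mem_commutator he (Subgroup.mem_zpowers y)
      rw [h5, Subgroup.mem_bot] at this
      exact this
    exact commutatorElement_eq_one_iff_mul_comm.mp h6

end CfsgLib.Local
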