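import Cfsg.Agent.Lib.Solv.Core
import Cfsg.Agent.Lib.Solv.PGroup
import Cfsg.Prelude.Def_Transfer

/-! Counting elements of order four in extraspecial `2`-groups of plus type. -/

set_option autoImplicit false

namespace CfsgLib.Local.ExtraCount

open Cfsg Subgroup Finset
open scoped commutatorElement

theorem fiber_card {Γ Z : Type*} [Group Γ] [Group Z] [Fintype Γ] [Fintype Z] [DecidableEq Z] (f : Γ →* Z)
    (hf : Function.Surjective f) (w : Z) :
    Fintype.card Z * (univ.filter (fun g => f g = w)).card = Fintype.card Γ := by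
  classical
  have h1 : Fintype.card Γ = ∑ v : Z, (univ.filter (fun g => f g = v)).card := by
    rw [← Finset.card_univ]
    exact Finset.card_eq_sum_card_fiberwise (fun x _ => Finset.mem_coe.mpr (Finset.mem_univ (f x)))
  have h2 : ∀ v : Z, (univ.filter (fun g => f g = v)).card = (univ.filter (fun g => f g = w)).card := by
    intro v
    exact MonoidHom.card_fiber_eq_of_mem_range f (hf v) (hf w)
  rw [h1, Finset.sum_congr rfl (fun v _ => h2 v), Finset.sum_const, Finset.card_univ, smul_eq_mul]

variable {E : Type*} [Group E]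

/-- The commutator homomorphism. -/
def commHom (hcc : ∀ x y : E, ⁅x, y⁆ ∈ center E) (x : E) : E →* center E :=
  MonoidHom.mk' (fun y => ⟨⁅x, y⁆, hcc x y⟩) (by
    intro a b
    apply Subtype.ext
    show ⁅x, a * b⁆ = ⁅x, a⁆ * ⁅x, b⁆
    have h1 : ⁅x, a * b⁆ = ⁅x, a⁆ * (a * ⁅x, b⁆ * a⁻¹) := by
      simp only [commutatorElement_def]; group
    have h2 : a * ⁅x, b⁆ * a⁻¹ = ⁅x, b⁆ := by
      have := Subgroup.mem_center_iff.mp (hcc x b) a
      rw [this, mul_inv_cancel_right]
    rw [h1, h2])

theorem commHom_apply (hcc : ∀ x y : E, ⁅x, y⁆ ∈ center E) (x y : E) : (commHom hcc x y : E) = ⁅x, y⁆ := rfl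

theorem commHom_eq_one_iff (hcc : ∀ x y : E, ⁅x, y⁆ ∈ center E) (x y : E) : commHom hcc x y = 1 ↔ x * y = y * x := by
  rw [Subtype.ext_iff, commHom_apply, Subgroup.coe_one, commutatorElement_eq_one_iff_mul_comm]

section card

variable [Finite E]

theorem surjective_of_ne {Γ : Type*} [Group Γ] (hZ : Nat.card (center E) = 2) (f : Γ →* center E) {g : Γ} (hg : f g ≠ 1) :
    Function.Surjective f := by
  classical
  intro w
  by_cases hw : w = 1
  · exact ⟨1, by rw [hw, map_one]⟩
  · refine ⟨g, ?_⟩
    by_contra hne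
    have h3 : ({1, f g, w} : Finset (center E)).card = 3 := by
      rw [Finset.card_insert_of_notMem, Finset.card_insert_of_notMem, Finset.card_singleton]
      · simpa using hne
      · simp only [Finset.mem_insert, Finset.mem_singleton, not_or]
        exact ⟨fun h => hg h.symm, fun h => hw h.symm⟩
    have h4 : ({1, f g, w} : Finset (center E)).card ≤ Nat.card (center E) := by
      letI := Fintype.ofFinite (center E)
      rw [Nat.card_eq_fintype_card]
      exact Finset.card_le_univ _
    omega

/-- The product formula for squares. -/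
theorem sq_mul (hcc : ∀ x y : E, ⁅x, y⁆ ∈ center E) (hsq : ∀ x : E, x ^ 2 ∈ center E) (y a : E) (ha : a ^ 2 = 1) :
    (y * a) ^ 2 = ⁅y, a⁆ * y ^ 2 := by
  have h1 : y ^ 2 * a = a * y ^ 2 := (Subgroup.mem_center_iff.mp (hsq y) a).symm
  have h2 : a * a = 1 := by rw [← pow_two, ha]
  calc (y * a) ^ 2 = y * a * y * a := by rw [pow_two]; group
    _ = ⁅y, a⁆ * (a * y ^ 2 * a) := by
      rw [commutatorElement_def, pow_two]; group
    _ = ⁅y, a⁆ * (y ^ 2 * a * a) := by rw [h1]
    _ = ⁅y, a⁆ * y ^ 2 := by rw [mul_assoc (y ^ 2), h2, mul_one]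

/-- Double counting: `|E| |A ∩ Z| = |A| |C_E(A)|`. -/
theorem double_count [Fintype E] [DecidableEq E] (hcc : ∀ x y : E, ⁅x, y⁆ ∈ center E) (hZ : Nat.card (center E) = 2)
    (A : Subgroup E) [Fintype A] [DecidablePred (· ∈ center E)] :
    Fintype.card E * (univ.filter (fun a : A => (a : E) ∈ center E)).card =
      Fintype.card A * (univ.filter (fun x : E => ∀ a : A, (a : E) * x = x * a)).card := by
  classical
  letI : Fintype (center E) := Fintype.ofFinite _
  have hZc : Fintype.card (center E) = 2 := by rw [← Nat.card_eq_fintype_card]; exact hZ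
  have h0 := Finset.sum_card_bipartiteAbove_eq_sum_card_bipartiteBelow (s := (univ : Finset A)) (t := (univ : Finset E))
    (fun (a : A) (x : E) => (a : E) * x = x * a)
  have h1 : ∀ a : A, 2 * (Finset.bipartiteAbove (fun (a : A) (x : E) => (a : E) * x = x * a) univ a).card =
      Fintype.card E + if (a : E) ∈ center E then Fintype.card E else 0 := by
    intro a
    by_cases ha : (a : E) ∈ center E
    · rw [if_pos ha]
      have : Finset.bipartiteAbove (fun (a : A) (x : E) => (a : E) * x = x * a) univ a = univ := by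
        ext x
        simp only [Finset.mem_bipartiteAbove, Finset.mem_univ, true_and, iff_true]
        exact (Subgroup.mem_center_iff.mp ha x).symm
      rw [this, Finset.card_univ]
      ring
    · rw [if_neg ha, add_zero]
      obtain ⟨x, hx⟩ : ∃ x : E, x * (a : E) ≠ (a : E) * x := by
        by_contra hcon
        push Not at hcon
        exact ha (Subgroup.mem_center_iff.mpr hcon)
      have hf : commHom hcc (a : E) x ≠ 1 := by
        rw [Ne, commHom_eq_one_iff]
        exact fun h => hx h.symm
      have h2 := fiber_card (commHom hcc (a : E)) (surjective_of_ne hZ _ hf) 1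
      rw [hZc] at h2
      rw [← h2]
      congr 2
      ext y
      simp only [Finset.mem_bipartiteAbove, Finset.mem_univ, true_and, Finset.mem_filter, commHom_eq_one_iff]
  have h3 : ∀ x : E, 2 * (Finset.bipartiteBelow (fun (a : A) (x : E) => (a : E) * x = x * a) univ x).card =
      Fintype.card A + if (∀ a : A, (a : E) * x = x * a) then Fintype.card A else 0 := by
    intro x
    by_cases hx : ∀ a : A, (a : E) * x = x * a
    · rw [if_pos hx]
      have : Finset.bipartiteBelow (fun (a : A) (x : E) => (a : E) * x = x * a) univ x = univ := by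
        ext a
        simp only [Finset.mem_bipartiteBelow, Finset.mem_univ, true_and, iff_true]
        exact hx a
      rw [this, Finset.card_univ]
      ring
    · rw [if_neg hx, add_zero]
      push Not at hx
      obtain ⟨a, ha⟩ := hx
      let f : A →* center E := (commHom hcc x).comp A.subtype
      have hf : f a ≠ 1 := by
        show commHom hcc x a ≠ 1
        rw [Ne, commHom_eq_one_iff]
        exact fun h => ha h.symm
      have h2 := fiber_card f (surjective_of_ne hZ _ hf) 1
      rw [hZc] at h2
      rw [← h2]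
      congr 2
      ext b
      simp only [Finset.mem_bipartiteBelow, Finset.mem_univ, true_and, Finset.mem_filter]
      show _ ↔ commHom hcc x b = 1
      rw [commHom_eq_one_iff]
      exact eq_comm
  have h4 : ∑ a : A, (Fintype.card E + if (a : E) ∈ center E then Fintype.card E else 0) =
      ∑ x : E, (Fintype.card A + if (∀ a : A, (a : E) * x = x * a) then Fintype.card A else 0) := by
    rw [← Finset.sum_congr rfl (fun a _ => h1 a), ← Finset.sum_congr rfl (fun x _ => h3 x),
      ← Finset.mul_sum, ← Finset.mul_sum, h0]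
  rw [Finset.sum_add_distrib, Finset.sum_add_distrib, Finset.sum_const, Finset.sum_const, Finset.card_univ,
    Finset.card_univ, Finset.sum_ite, Finset.sum_ite] at h4
  simp only [Finset.sum_const, smul_eq_mul, add_zero, Finset.sum_const_zero] at h4
  nlinarith [h4]

/-- Counting involutions: `2 #{y | y² = 1} = |E| + |A|`. -/
theorem involution_count [Fintype E] [DecidableEq E] (hcc : ∀ x y : E, ⁅x, y⁆ ∈ center E)
    (hsq : ∀ x : E, x ^ 2 ∈ center E) (hZ : Nat.card (center E) = 2) (A : Subgroup E) [Fintype A]
    (hA2 : ∀ a ∈ A, a ^ 2 = 1) (hCA : ∀ x : E, (∀ a : A, (a : E) * x = x * a) → x ∈ A) :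
    2 * (univ.filter (fun y : E => y ^ 2 = 1)).card = Fintype.card E + Fintype.card A := by
  classical
  letI : Fintype (center E) := Fintype.ofFinite _
  have hZc : Fintype.card (center E) = 2 := by rw [← Nat.card_eq_fintype_card]; exact hZ
  have h0 := Finset.sum_card_bipartiteAbove_eq_sum_card_bipartiteBelow (s := (univ : Finset E)) (t := (univ : Finset A))
    (fun (y : E) (a : A) => (y * (a : E)) ^ 2 = 1)
  have h1 : ∀ y : E, 2 * (Finset.bipartiteAbove (fun (y : E) (a : A) => (y * (a : E)) ^ 2 = 1) univ y).card =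
      Fintype.card A + if y ∈ A then Fintype.card A else 0 := by
    intro y
    by_cases hy : y ∈ A
    · rw [if_pos hy]
      have : Finset.bipartiteAbove (fun (y : E) (a : A) => (y * (a : E)) ^ 2 = 1) univ y = univ := by
        ext a
        simp only [Finset.mem_bipartiteAbove, Finset.mem_univ, true_and, iff_true]
        exact hA2 _ (A.mul_mem hy a.2)
      rw [this, Finset.card_univ]
      ring
    · rw [if_neg hy, add_zero]
      have hx : ¬ ∀ a : A, (a : E) * y = y * a := fun h => hy (hCA y h)
      push Not at hx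
      obtain ⟨a, ha⟩ := hx
      let f : A →* center E := (commHom hcc y).comp A.subtype
      have hf : f a ≠ 1 := by
        show commHom hcc y a ≠ 1
        rw [Ne, commHom_eq_one_iff]
        exact fun h => ha h.symm
      let w : center E := (⟨y ^ 2, hsq y⟩ : center E)⁻¹
      have h2 := fiber_card f (surjective_of_ne hZ _ hf) w
      rw [hZc] at h2
      rw [← h2]
      congr 2
      ext b
      simp only [Finset.mem_bipartiteAbove, Finset.mem_univ, true_and, Finset.mem_filter]
      rw [sq_mul hcc hsq y b (hA2 b b.2)]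
      constructor
      · intro h
        apply Subtype.ext
        show ⁅y, (b : E)⁆ = (y ^ 2)⁻¹
        exact eq_inv_of_mul_eq_one_left h
      · intro h
        have h3 : ⁅y, (b : E)⁆ = (y ^ 2)⁻¹ := congrArg Subtype.val h
        rw [h3, inv_mul_cancel]
  have h3 : ∀ a : A, (Finset.bipartiteBelow (fun (y : E) (a : A) => (y * (a : E)) ^ 2 = 1) univ a).card =
      (univ.filter (fun y : E => y ^ 2 = 1)).card := by
    intro a
    refine Finset.card_bij (fun y _ => y * (a : E)) ?_ ?_ ?_
    · intro y hy
      simp only [Finset.mem_bipartiteBelow, Finset.mem_univ, true_and] at hy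
      simpa using hy
    · intro y _ y' _ h
      exact mul_right_cancel h
    · intro z hz
      simp only [Finset.mem_filter, Finset.mem_univ, true_and] at hz
      refine ⟨z * (a : E)⁻¹, ?_, by group⟩
      simp only [Finset.mem_bipartiteBelow, Finset.mem_univ, true_and]
      rw [inv_mul_cancel_right]
      exact hz
  have h4 : ∑ y : E, (Fintype.card A + if y ∈ A then Fintype.card A else 0) =
      2 * (Fintype.card A * (univ.filter (fun y : E => y ^ 2 = 1)).card) := by
    rw [← Finset.sum_congr rfl (fun y _ => h1 y), ← Finset.mul_sum, h0, Finset.sum_congr rfl (fun a _ => h3 a),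
      Finset.sum_const, Finset.card_univ, smul_eq_mul]
  rw [Finset.sum_add_distrib, Finset.sum_const, Finset.card_univ, Finset.sum_ite] at h4
  simp only [Finset.sum_const, smul_eq_mul, add_zero, Finset.sum_const_zero] at h4
  have h5 : (univ.filter (fun y : E => y ∈ A)).card = Fintype.card A := by
    rw [← Finset.card_univ]
    refine Finset.card_bij (fun y hy => ⟨y, (Finset.mem_filter.mp hy).2⟩) ?_ ?_ ?_
    · intro y hy; exact Finset.mem_univ _
    · intro y _ y' _ h; exact congrArg Subtype.val h
    · intro a _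
      exact ⟨a, by simp, rfl⟩
  rw [h5] at h4
  have hpos : 0 < Fintype.card A := Fintype.card_pos
  have h6 : Fintype.card A * (Fintype.card E + Fintype.card A) =
      Fintype.card A * (2 * (univ.filter (fun y : E => y ^ 2 = 1)).card) := by
    nlinarith [h4]
  exact (Nat.eq_of_mul_eq_mul_left hpos h6).symm

end card

/-- `S2880`. -/
theorem card_order_four {E : Type*} [Group E] [Finite E] (m : ℕ) (hE : IsExtraspecial 2 E)
    (hcard : Nat.card E = 2 ^ (2 * m + 1))
    (hplus : ∃ A : Subgroup E, IsElementaryAbelian 2 A ∧ Nat.card A = 2 ^ (m + 1)) :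
    Nat.card {x : E // orderOf x = 4} = 2 ^ (2 * m) - 2 ^ m := by
  classical
  haveI hp2 : Fact (Nat.Prime 2) := ⟨Nat.prime_two⟩
  letI : Fintype E := Fintype.ofFinite E
  obtain ⟨⟨hp, hfrat, hcomm⟩, hZ⟩ := hE
  obtain ⟨A, ⟨hAc, hAe⟩, hAcard⟩ := hplus
  letI : Fintype A := Fintype.ofFinite A
  have hcc : ∀ x y : E, ⁅x, y⁆ ∈ center E := by
    intro x y
    rw [← hcomm, commutator_def]
    exact Subgroup.commutator_mem_commutator trivial trivial
  have hsq : ∀ x : E, x ^ 2 ∈ center E := by
    intro x
    rw [← hfrat, CfsgLib.Solv.mem_frattini_iff]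
    intro M hM
    obtain ⟨hMn, hMi⟩ := CfsgLib.Solv.coatom_of_pgroup hp hM
    have h1 : Nat.card (E ⧸ M) = 2 := hMi
    have h2 : ((x : E ⧸ M)) ^ 2 = 1 := by
      rw [← h1]
      exact pow_card_eq_one'
    rw [← QuotientGroup.mk_pow] at h2
    exact (QuotientGroup.eq_one_iff _).mp h2
  have hz2 : ∀ w ∈ center E, w ^ 2 = 1 := by
    intro w hw
    have h1 : (⟨w, hw⟩ : center E) ^ Nat.card (center E) = 1 := pow_card_eq_one'
    rw [hZ] at h1
    exact congrArg Subtype.val h1
  have hEc : Fintype.card E = 2 ^ (2 * m + 1) := by rw [← Nat.card_eq_fintype_card]; exact hcard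
  have hAc' : Fintype.card A = 2 ^ (m + 1) := by rw [← Nat.card_eq_fintype_card]; exact hAcard
  have hdc := double_count hcc hZ A
  set ζ := (univ.filter (fun a : A => (a : E) ∈ center E)).card with hζ
  set F := (univ.filter (fun x : E => ∀ a : A, (a : E) * x = x * a)) with hF
  have hζ2 : ζ ≤ 2 := by
    letI : Fintype (center E) := Fintype.ofFinite _
    have h1 : Fintype.card (center E) = 2 := by rw [← Nat.card_eq_fintype_card]; exact hZ
    rw [← h1, hζ, ← Finset.card_univ]
    refine Finset.card_le_card_of_injOn (fun a => if h : (a : E) ∈ center E then ⟨a, h⟩ else 1) ?_ ?_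
    · intro a _; exact Finset.mem_coe.mpr (Finset.mem_univ _)
    · intro a ha b hb hab
      have ha' : (a : E) ∈ center E := (Finset.mem_filter.mp ha).2
      have hb' : (b : E) ∈ center E := (Finset.mem_filter.mp hb).2
      simp only [dif_pos ha', dif_pos hb'] at hab
      exact Subtype.ext (congrArg (fun w : center E => (w : E)) hab)
  have hAF : (univ : Finset A).map ⟨Subtype.val, Subtype.val_injective⟩ ⊆ F := by
    intro x hx
    obtain ⟨a, -, rfl⟩ := Finset.mem_map.mp hx
    simp only [hF, Finset.mem_filter, Finset.mem_univ, true_and]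
    intro b
    haveI := hAc
    have : b * a = a * b := mul_comm' _ _
    exact congrArg Subtype.val this
  have hc1 : 2 ^ (m + 1) ≤ F.card := by
    have := Finset.card_le_card hAF
    rwa [Finset.card_map, Finset.card_univ, hAc'] at this
  rw [hEc, hAc'] at hdc
  have hpw : (2 : ℕ) ^ (2 * m + 1) = 2 ^ (m + 1) * 2 ^ m := by
    rw [← pow_add]; congr 1; omega
  have hpos : 0 < (2 : ℕ) ^ (m + 1) := by positivity
  have h1 : 2 ^ m * ζ = F.card := by
    rw [hpw, mul_assoc] at hdc
    exact Nat.eq_of_mul_eq_mul_left hpos hdc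
  have hpm : 0 < (2 : ℕ) ^ m := by positivity
  have hps : (2 : ℕ) ^ (m + 1) = 2 * 2 ^ m := by rw [pow_succ]; ring
  have hζeq : ζ = 2 := by
    by_contra hne
    have : ζ ≤ 1 := by omega
    have h3 : 2 ^ m * ζ ≤ 2 ^ m * 1 := Nat.mul_le_mul_left _ this
    omega
  have hFc : F.card = 2 ^ (m + 1) := by rw [← h1, hζeq, hps]; ring
  have hCA : ∀ x : E, (∀ a : A, (a : E) * x = x * a) → x ∈ A := by
    intro x hx
    have h3 : (univ : Finset A).map ⟨Subtype.val, Subtype.val_injective⟩ = F := by
      refine Finset.eq_of_subset_of_card_le hAF ?_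
      rw [Finset.card_map, Finset.card_univ, hAc', hFc]
    have h4 : x ∈ F := by
      simp only [hF, Finset.mem_filter, Finset.mem_univ, true_and]
      exact hx
    rw [← h3] at h4
    obtain ⟨a, -, rfl⟩ := Finset.mem_map.mp h4
    exact a.2
  have hM := involution_count hcc hsq hZ A (fun a ha => hAe a ha) hCA
  rw [hEc, hAc'] at hM
  have hX : Nat.card {x : E // orderOf x = 4} = (univ.filter (fun x : E => ¬ x ^ 2 = 1)).card := by
    rw [Nat.card_eq_fintype_card, Fintype.card_subtype]
    congr 1
    ext x
    simp only [Finset.mem_filter, Finset.mem_univ, true_and]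
    constructor
    · intro h h2
      have := orderOf_dvd_of_pow_eq_one h2
      rw [h] at this
      omega
    · intro h
      have h4 : x ^ 2 ^ 2 = 1 := by
        have := hz2 _ (hsq x)
        rw [← pow_mul] at this
        exact this
      have := orderOf_eq_prime_pow (p := 2) (n := 1) (by simpa using h) h4
      simpa using this
  rw [hX]
  have hsum := Finset.card_filter_add_card_filter_not (s := (univ : Finset E)) (fun x : E => x ^ 2 = 1)
  rw [Finset.card_univ, hEc] at hsum
  have hp2m : (2 : ℕ) ^ (2 * m + 1) = 2 * 2 ^ (2 * m) := by rw [pow_succ]; ring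
  omega

/-- `S2881`. -/
theorem four_dvd_of_order_five {E : Type*} [Group E] [Finite E] (m : ℕ) (hE : IsExtraspecial 2 E)
    (hcard : Nat.card E = 2 ^ (2 * m + 1))
    (hplus : ∃ A : Subgroup E, IsElementaryAbelian 2 A ∧ Nat.card A = 2 ^ (m + 1))
    (ω : E ≃* E) (hω : orderOf ω = 5) (hfix : ∀ x : E, ω x = x ↔ x ∈ center E) : 4 ∣ m := by
  classical
  haveI hp5 : Fact (Nat.Prime 5) := ⟨by norm_num⟩
  have hN := card_order_four m hE hcard hplus
  letI : Fintype E := Fintype.ofFinite E
  have hord : ∀ x : E, orderOf (ω x) = orderOf x := fun x => MulEquiv.orderOf_eq ω x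
  let f : Function.End {x : E // orderOf x = 4} := fun x => ⟨ω x, by rw [hord]; exact x.2⟩
  have hpow : ∀ (n : ℕ) (x : {x : E // orderOf x = 4}), (((f ^ n) x : {x : E // orderOf x = 4}) : E) = (ω ^ n) x := by
    intro n
    induction n with
    | zero => intro x; rfl
    | succ n ih =>
      intro x
      rw [pow_succ', pow_succ']
      show ω (((f ^ n) x : {x : E // orderOf x = 4}) : E) = _
      rw [ih]
      rfl
  have hf : f ^ 5 ^ 1 = 1 := by
    funext x
    apply Subtype.ext
    rw [pow_one, hpow, ← hω, pow_orderOf_eq_one]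
    rfl
  have hmod := Equiv.Perm.card_fixedPoints_modEq hf
  have hfp : IsEmpty (Function.fixedPoints f) := by
    constructor
    rintro ⟨x, hx⟩
    have h1 : ω (x : E) = x := congrArg Subtype.val hx
    have h2 := (hfix _).mp h1
    have h3 : (x : E) ^ 2 = 1 := by
      have h4 : (⟨x, h2⟩ : center E) ^ Nat.card (center E) = 1 := pow_card_eq_one'
      rw [hE.2] at h4
      exact congrArg Subtype.val h4
    have := orderOf_dvd_of_pow_eq_one h3
    rw [x.2] at this
    omega
  have h5 : 5 ∣ Nat.card {x : E // orderOf x = 4} := by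
    rw [Nat.card_eq_fintype_card]
    have h0 : Fintype.card (Function.fixedPoints f) = 0 := Fintype.card_eq_zero
    rw [h0] at hmod
    exact (Nat.modEq_zero_iff_dvd).mp hmod
  rw [hN] at h5
  have hfac : 2 ^ (2 * m) - 2 ^ m = 2 ^ m * (2 ^ m - 1) := by
    rw [Nat.mul_sub, mul_one, ← pow_add]
    congr 2
    omega
  rw [hfac] at h5
  have hcop : Nat.Coprime 5 (2 ^ m) := Nat.Coprime.pow_right _ (by norm_num)
  have h6 : 5 ∣ 2 ^ m - 1 := hcop.dvd_of_dvd_mul_left h5
  have hpos : 0 < 2 ^ m := by positivity
  have h7 : 2 ^ m % 5 = 1 := by omega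
  have hm : m = 4 * (m / 4) + m % 4 := (Nat.div_add_mod m 4).symm
  have h8 : 2 ^ m % 5 = 2 ^ (m % 4) % 5 := by
    conv_lhs => rw [hm, pow_add, pow_mul, Nat.mul_mod, Nat.pow_mod]
    norm_num
  rw [h8] at h7
  have h9 : m % 4 < 4 := Nat.mod_lt _ (by norm_num)
  have h10 : m % 4 = 0 := by
    by_contra hne
    have h11 : m % 4 = 1 ∨ m % 4 = 2 ∨ m % 4 = 3 := by omega
    rcases h11 with h | h | h <;> rw [h] at h7 <;> norm_num at h7
  exact Nat.dvd_of_mod_eq_zero h10

end CfsgLib.Local.ExtraCount
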