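import Cfsg.Agent.Lib.Local.WeakClosed
import Cfsg.Agent.Lib.Solv.CoprimeSylow

/-! Decomposition of a normal subgroup relative to a weakly closed subgroup. -/

set_option autoImplicit false
set_option linter.style.haveILetI false
set_option linter.unusedSectionVars false

namespace CfsgLib.Local
open Cfsg Subgroup CfsgLib.Solv
open scoped commutatorElement Pointwise

variable {G : Type*} [Group G] [Finite G] {p : ℕ} [Fact p.Prime]

theorem normal_le_normalizer (N : Subgroup G) [hN : N.Normal] (g : G) : g ∈ normalizer (N : Set G) := by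
  rw [mem_normalizer_iff]
  intro y
  exact ⟨fun hy => hN.conj_mem y hy g, fun hy => by
    have := hN.conj_mem _ hy g⁻¹
    simpa [mul_assoc] using this⟩

/-- `S2841`. -/
theorem wc_decomp (Q : Subgroup G) (hQp : IsPGroup p Q) (hwc : IsWeaklyClosedSubgroup p Q)
    (N' : Subgroup G) [hN : N'.Normal] :
    (∀ n : G, n ∈ N' → ∃ a ∈ N' ⊓ normalizer (Q : Set G), ∃ b ∈ ⁅N', Q⁆, n = a * b) ∧
      (∀ c : G, c ∈ ⁅N', Q⁆ → ∃ a ∈ Q ⊓ ⁅N', Q⁆, ∃ b ∈ ⁅⁅N', Q⁆, Q⁆, c = a * b) := by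
  set K : Subgroup G := ⁅N', Q⁆ with hK
  have hKN : K ≤ N' := Subgroup.commutator_le_left N' Q
  have hQN : Q ≤ normalizer (N' : Set G) := fun g _ => normal_le_normalizer N' g
  have hQK : Q ≤ normalizer (K : Set G) := le_normalizer_commutator_right hQN
  have hNK : N' ≤ normalizer (K : Set G) := le_normalizer_commutator_left
  have part1 : ∀ n : G, n ∈ N' → ∃ a ∈ N' ⊓ normalizer (Q : Set G), ∃ b ∈ K, n = a * b := by
    intro n hn
    have hle : cj n Q ≤ Q ⊔ K := by
      rintro _ ⟨q, hq, rfl⟩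
      show n * q * n⁻¹ ∈ Q ⊔ K
      have e : n * q * n⁻¹ = ⁅n, q⁆ * q := by
        rw [commutatorElement_def]; group
      rw [e]
      exact mul_mem ((le_sup_right : K ≤ Q ⊔ K) (Subgroup.commutator_mem_commutator hn hq))
        ((le_sup_left : Q ≤ Q ⊔ K) hq)
    obtain ⟨k, hk, hke⟩ := conj_in_subgroup_of_wc hQp hwc (Q ⊔ K) le_sup_left n hle
    have hk' : k⁻¹ ∈ ((Q ⊔ K : Subgroup G) : Set G) := inv_mem hk
    rw [Subgroup.coe_mul_of_left_le_normalizer_right Q K hQK] at hk'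
    obtain ⟨q₀, hq₀, k₀, hk₀, hqk⟩ := Set.mem_mul.mp hk'
    have hkk : k = k₀⁻¹ * q₀⁻¹ := by
      have : k⁻¹ = q₀ * k₀ := hqk.symm
      rw [← inv_inv k, this]; group
    have hcQ : cj q₀⁻¹ Q = Q := mem_normalizer_iff_cj.mp
      (Subgroup.le_normalizer (inv_mem hq₀))
    have h2 : cj n Q = cj k₀⁻¹ Q := by
      rw [hke, hkk, cj_mul, hcQ]
    set a := k₀ * n with ha
    have haN : a ∈ N' := mul_mem (hKN hk₀) hn
    have haQ : a ∈ normalizer (Q : Set G) := by
      rw [mem_normalizer_iff_cj, ha, cj_mul, h2, ← cj_mul]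
      simp [cj_one]
    refine ⟨a, Subgroup.mem_inf.mpr ⟨haN, haQ⟩, a⁻¹ * k₀⁻¹ * a, ?_, ?_⟩
    · have := (mem_normalizer_iff.mp (inv_mem (hNK haN)) k₀⁻¹).mp (inv_mem hk₀)
      simpa using this
    · rw [ha]; group
  refine ⟨part1, ?_⟩
  set L : Subgroup G := ⁅K, Q⁆ with hL
  set Z : Subgroup G := Q ⊓ K with hZ
  have hQL : Q ≤ normalizer (L : Set G) := le_normalizer_commutator_right hQK
  have hZL : Z ≤ normalizer (L : Set G) := inf_le_left.trans hQL
  have key : K ≤ Z ⊔ L := by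
    rw [hK, Subgroup.commutator_le]
    intro n hn q hq
    obtain ⟨a, ha, b, hb, rfl⟩ := part1 n hn
    obtain ⟨ha1, ha2⟩ := Subgroup.mem_inf.mp ha
    have e : ⁅a * b, q⁆ = a * ⁅b, q⁆ * a⁻¹ * ⁅a, q⁆ := by
      simp only [commutatorElement_def]; group
    rw [e]
    refine mul_mem ((le_sup_right : L ≤ Z ⊔ L) ?_) ((le_sup_left : Z ≤ Z ⊔ L) ?_)
    · have hb' : ⁅b, q⁆ ∈ L := Subgroup.commutator_mem_commutator hb hq
      have haL : a ∈ normalizer (L : Set G) := by
        rw [mem_normalizer_iff_cj]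
        show (⁅K, Q⁆ : Subgroup G).map _ = _
        rw [Subgroup.map_commutator]
        have h1 : K.map (MulAut.conj a).toMonoidHom = K := mem_normalizer_iff_cj.mp (hNK ha1)
        have h2 : Q.map (MulAut.conj a).toMonoidHom = Q := mem_normalizer_iff_cj.mp ha2
        rw [h1, h2]
      exact (mem_normalizer_iff.mp haL _).mp hb'
    · refine Subgroup.mem_inf.mpr ⟨?_, Subgroup.commutator_mem_commutator ha1 hq⟩
      rw [commutatorElement_def]
      exact mul_mem ((mem_normalizer_iff.mp ha2 q).mp hq) (inv_mem hq)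
  intro c hc
  have h1 : c ∈ ((Z ⊔ L : Subgroup G) : Set G) := key hc
  rw [Subgroup.coe_mul_of_left_le_normalizer_right Z L hZL] at h1
  obtain ⟨a, ha, b, hb, hab⟩ := Set.mem_mul.mp h1
  exact ⟨a, ha, b, hb, hab.symm⟩

end CfsgLib.Local
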