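import Cfsg.Agent.Lib.Local.Basic
import Cfsg.Agent.Lib.Local.WeakDecomp
import Cfsg.Agent.Lib.Solv.PGroup

/-! Normal closures acting trivially on the Frattini subgroup modulo the derived subgroup. -/

set_option autoImplicit false
set_option linter.style.haveILetI false
set_option linter.unusedSectionVars false

namespace CfsgLib.Local
open Cfsg Subgroup CfsgLib.Solv
open scoped commutatorElement Pointwise

variable {G : Type*} [Group G] [Finite G] {p : ℕ} [Fact p.Prime]

/-- If `[x, y]^p = 1` for all `x ∈ P`, then `y` acts trivially on `Φ(P)` modulo `P'`. -/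
theorem frattini_step (P : Subgroup G) (hP : IsPGroup p P) (y : G) (hy : y ∈ normalizer (P : Set G))
    (hc : ∀ x ∈ P, (x⁻¹ * (y * x * y⁻¹)) ^ p = 1) (f : G) (hf : f ∈ (frattini ↥P).map P.subtype) :
    f⁻¹ * (y * f * y⁻¹) ∈ (⁅P, P⁆ : Subgroup G) := by
  let α : MulAut P := normalizerMonoidHom P ⟨y, hy⟩
  have hα : ∀ x : P, ((α x : P) : G) = y * x * y⁻¹ := fun x => rfl
  let φ : P →* Abelianization P := Abelianization.of
  let τ : P →* Abelianization P := (φ.comp α.toMonoidHom) / φ
  have hτ : ∀ x : P, τ x = φ (x⁻¹ * α x) := by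
    intro x
    show φ (α x) / φ x = _
    rw [map_mul, map_inv, div_eq_mul_inv, mul_comm]
  have hfr : frattini ↥P ≤ τ.ker := by
    refine frattini_le_of_commutator_pow hP τ.ker ?_ ?_
    · rw [_root_.commutator_def, Subgroup.commutator_le]
      intro a _ b _
      rw [MonoidHom.mem_ker, map_commutatorElement, commutatorElement_eq_one_iff_mul_comm]
      exact mul_comm _ _
    · intro a
      rw [MonoidHom.mem_ker, map_pow, hτ, ← map_pow]
      have h1 : (a⁻¹ * α a) ^ p = 1 := by
        apply Subtype.ext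
        have := hc a a.2
        simpa [hα] using this
      rw [h1, map_one]
  obtain ⟨x, hx, rfl⟩ := hf
  have h1 := hfr hx
  rw [MonoidHom.mem_ker, hτ] at h1
  have h2 : x⁻¹ * α x ∈ commutator P := by
    rw [← Abelianization.ker_of]
    exact h1
  rw [← Subgroup.map_subtype_commutator]
  exact ⟨_, h2, rfl⟩

theorem frattini_normalized (P : Subgroup G) {h : G} (hh : h ∈ normalizer (P : Set G)) :
    h ∈ normalizer (((frattini ↥P).map P.subtype : Subgroup G) : Set G) := by
  have key : ∀ a ∈ normalizer (P : Set G), ∀ z ∈ (frattini ↥P).map P.subtype,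
      a * z * a⁻¹ ∈ (frattini ↥P).map P.subtype := by
    rintro a ha _ ⟨z, hz, rfl⟩
    set φ : MulAut P := normalizerMonoidHom P ⟨a, ha⟩ with hφ
    have hz' : φ z ∈ frattini P := by
      have h1 : (frattini P).comap φ.toMonoidHom = frattini P :=
        frattini_characteristic.fixed φ
      rw [← h1] at hz
      exact hz
    exact ⟨φ z, hz', rfl⟩
  rw [mem_normalizer_iff]
  intro y
  refine ⟨key h hh y, fun hy => ?_⟩
  have := key h⁻¹ (inv_mem hh) _ hy
  simpa [mul_assoc] using this

/-- `S2819`. -/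
theorem residual_centralizes_frattini (P : Subgroup G) (hP : IsPGroup p P) (H : Subgroup G)
    (hH : H ≤ normalizer (P : Set G)) (Y : Subgroup G) (hYH : Y ≤ H)
    (hYc : Y ≤ centralizer ((⁅P, P⁆ : Subgroup G) : Set G)) (hel : IsElementaryAbelian p ⁅P, Y⁆)
    (NY : Subgroup G)
    (hNY : NY = (normalClosure ((Y.subgroupOf H : Subgroup ↥H) : Set ↥H)).map H.subtype) :
    (pResidual p ↥NY).map NY.subtype ≤ centralizer (((frattini ↥P).map P.subtype : Subgroup G) : Set G) := by
  set D : Subgroup G := ⁅P, P⁆ with hD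
  set F : Subgroup G := (frattini ↥P).map P.subtype with hF
  have hDn : ∀ h ∈ H, h ∈ normalizer (D : Set G) := by
    intro h hh
    rw [mem_normalizer_iff_cj]
    show (⁅P, P⁆ : Subgroup G).map _ = _
    rw [Subgroup.map_commutator]
    have h1 : P.map (MulAut.conj h).toMonoidHom = P := mem_normalizer_iff_cj.mp (hH hh)
    rw [h1]
  have hFn : ∀ h ∈ H, h ∈ normalizer (F : Set G) := fun h hh => frattini_normalized P (hH hh)
  have hDP : D ≤ P := by
    rw [hD, Subgroup.commutator_le]
    intro a ha b hb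
    rw [commutatorElement_def]
    exact mul_mem (mul_mem (mul_mem ha hb) (inv_mem ha)) (inv_mem hb)
  have hFP : F ≤ P := Subgroup.map_subtype_le _
  let W : Subgroup G :=
    { carrier := {g | g ∈ centralizer (D : Set G) ∧ ∀ f ∈ F, f⁻¹ * (g * f * g⁻¹) ∈ D}
      one_mem' := ⟨one_mem _, fun f _ => by simp⟩
      mul_mem' := by
        rintro a b ⟨ha, ha'⟩ ⟨hb, hb'⟩
        refine ⟨mul_mem ha hb, fun f hf => ?_⟩
        have h1 := ha' f hf
        have h2 := hb' f hf
        have h3 : a * (f⁻¹ * (b * f * b⁻¹)) * a⁻¹ = f⁻¹ * (b * f * b⁻¹) := by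
          have := (Subgroup.mem_centralizer_iff.mp ha) _ h2
          rw [← this]; group
        have e : f⁻¹ * (a * b * f * (a * b)⁻¹) =
            f⁻¹ * (a * f * a⁻¹) * (a * (f⁻¹ * (b * f * b⁻¹)) * a⁻¹) := by group
        rw [e, h3]
        exact mul_mem h1 h2
      inv_mem' := by
        rintro a ⟨ha, ha'⟩
        refine ⟨inv_mem ha, fun f hf => ?_⟩
        have h1 := ha' f hf
        have h3 : a⁻¹ * (f⁻¹ * (a * f * a⁻¹)) * a = f⁻¹ * (a * f * a⁻¹) := by
          have := (Subgroup.mem_centralizer_iff.mp (inv_mem ha)) _ h1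
          rw [← this]; group
        have e : f⁻¹ * (a⁻¹ * f * a⁻¹⁻¹) = (a⁻¹ * (f⁻¹ * (a * f * a⁻¹)) * a)⁻¹ := by group
        rw [e, h3]
        exact inv_mem h1 }
  have hYstep : ∀ y ∈ Y, ∀ f ∈ F, f⁻¹ * (y * f * y⁻¹) ∈ D := by
    intro y hy f hf
    refine frattini_step P hP y (hH (hYH hy)) ?_ f hf
    intro x hx
    apply hel.2
    have e : x⁻¹ * (y * x * y⁻¹) = ⁅x⁻¹, y⁆ := by
      rw [commutatorElement_def]; group
    rw [e]
    exact Subgroup.commutator_mem_commutator (inv_mem hx) hy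
  have hYW : ∀ y ∈ Y, ∀ h ∈ H, h * y * h⁻¹ ∈ W := by
    intro y hy h hh
    refine ⟨?_, fun f hf => ?_⟩
    · rw [Subgroup.mem_centralizer_iff]
      intro d hd
      have hd' : h⁻¹ * d * h ∈ D := by
        have := (mem_normalizer_iff.mp (inv_mem (hDn h hh)) d).mp hd
        simpa using this
      have h1 := (Subgroup.mem_centralizer_iff.mp (hYc hy)) _ hd'
      calc d * (h * y * h⁻¹) = h * (h⁻¹ * d * h * y) * h⁻¹ := by group
        _ = h * (y * (h⁻¹ * d * h)) * h⁻¹ := by rw [h1]
        _ = h * y * h⁻¹ * d := by group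
    · have hf' : h⁻¹ * f * h ∈ F := by
        have := (mem_normalizer_iff.mp (inv_mem (hFn h hh)) f).mp hf
        simpa using this
      have h1 := hYstep y hy _ hf'
      have h2 := (mem_normalizer_iff.mp (hDn h hh) _).mp h1
      have e : f⁻¹ * (h * y * h⁻¹ * f * (h * y * h⁻¹)⁻¹) =
          h * ((h⁻¹ * f * h)⁻¹ * (y * (h⁻¹ * f * h) * y⁻¹)) * h⁻¹ := by group
      rw [e]
      exact h2
  have hNYW : NY ≤ W := by
    rw [hNY, Subgroup.map_le_iff_le_comap, Subgroup.normalClosure, Subgroup.closure_le]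
    intro x hx
    rw [Group.mem_conjugatesOfSet_iff] at hx
    obtain ⟨a, ha, hax⟩ := hx
    obtain ⟨c, hc⟩ := isConj_iff.mp hax
    have ha' : (a : G) ∈ Y := ha
    have h3 := hYW _ ha' c c.2
    show (x : G) ∈ W
    rw [← hc]
    exact h3
  rw [Subgroup.map_le_iff_le_comap, pResidual, Subgroup.closure_le]
  intro g hg
  have hg' : Nat.Coprime (orderOf g) p := hg
  show (g : G) ∈ centralizer (F : Set G)
  rw [Subgroup.mem_centralizer_iff]
  intro f hf
  obtain ⟨hgD, hgf⟩ := hNYW g.2
  set c := f⁻¹ * ((g : G) * f * (g : G)⁻¹) with hc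
  have hcD : c ∈ D := hgf f hf
  have hq : (g : G) * f * (g : G)⁻¹ = f * c := by rw [hc]; group
  have hcomm : Commute (g : G) c := ((Subgroup.mem_centralizer_iff.mp hgD) c hcD).symm
  obtain ⟨k, hk⟩ := hP ⟨c, hDP hcD⟩
  have hk' : c ^ p ^ k = 1 := by
    have := congrArg Subtype.val hk
    simpa using this
  have hn : (g : G) ^ orderOf g = 1 := by
    rw [← Subgroup.coe_pow, pow_orderOf_eq_one]
    rfl
  have hc1 := eq_one_of_stab hq hcomm hn hk' hg'
  rw [hc1, mul_one] at hq
  rw [mul_inv_eq_iff_eq_mul] at hq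
  exact hq.symm

end CfsgLib.Local
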