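import Cfsg.Agent.Lib.Local.Reduced5

/-! Kieler's lemma: centralizers of `Ω₁(Z(T))` in subnormal subgroups of groups of characteristic `p`. -/

set_option autoImplicit false
set_option linter.style.haveILetI false
set_option linter.unusedSectionVars false

namespace CfsgLib.Local
open Cfsg Subgroup CfsgLib.PLocal CfsgLib.Solv
open scoped commutatorElement Pointwise

variable {H : Type*} [Group H] [Finite H] {p : ℕ} [Fact p.Prime]

/-- Transfer for a Sylow subgroup of a subgroup `L` acting on an elementary abelian subgroup. -/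
theorem mem_sup_of_transfer' {T L Z W : Subgroup H} (hT : IsSylowIn p T L)
    (hZ : IsElementaryAbelian p Z) (hZn : ∀ l ∈ L, ∀ z ∈ Z, l * z * l⁻¹ ∈ Z) (hWZ : W ≤ Z)
    (hW : ∀ l ∈ L, ∀ z ∈ Z, l * z * l⁻¹ * z⁻¹ ∈ W) (a : H) (ha : a ∈ Z)
    (haT : T ≤ centralizer ({a} : Set H)) :
    a ∈ (Z ⊓ centralizer (L : Set H)) ⊔ W := by
  classical
  letI : CommGroup Z := { (inferInstance : Group Z) with mul_comm := fun x y => hZ.1.1.1 x y }
  have hTL := hT.1
  set K := T.subgroupOf L with hK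
  haveI : Fintype (↥L ⧸ K) := Fintype.ofFinite _
  let f : (↥L ⧸ K) → Z := fun q => ⟨(q.out : H) * a * (q.out : H)⁻¹, hZn _ q.out.2 _ ha⟩
  set n : Z := ∏ q, f q with hn
  have hcomm : ∀ t ∈ T, t * a * t⁻¹ = a := by
    intro t ht
    have := Subgroup.mem_centralizer_iff.mp (haT ht) a rfl
    rw [← this]; group
  have hfval : ∀ (x : L), f (x : ↥L ⧸ K) = ⟨(x : H) * a * (x : H)⁻¹, hZn _ x.2 _ ha⟩ := by
    intro x
    apply Subtype.ext
    obtain ⟨t, ht⟩ := QuotientGroup.mk_out_eq_mul K x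
    show (((x : ↥L ⧸ K).out : L) : H) * a * (((x : ↥L ⧸ K).out : L) : H)⁻¹ = _
    rw [ht]
    have ht' : ((t : L) : H) ∈ T := mem_subgroupOf.mp t.2
    have := hcomm _ ht'
    simp only [Subgroup.coe_mul]
    calc (x : H) * ((t : L) : H) * a * ((x : H) * ((t : L) : H))⁻¹
        = (x : H) * (((t : L) : H) * a * ((t : L) : H)⁻¹) * (x : H)⁻¹ := by group
      _ = _ := by rw [this]
  have hcentral : ∀ l : L, (l : H) * (n : H) * (l : H)⁻¹ = n := by
    intro l
    let φ : Z →* Z := ((MulAut.conj (l : H)).toMonoidHom.comp Z.subtype).codRestrict Z (fun z => hZn _ l.2 _ z.2)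
    have h1 : φ n = n := by
      rw [hn, map_prod]
      have h2 : ∀ q : ↥L ⧸ K, φ (f q) = f (l • q) := by
        intro q
        have h3 : (l • q) = ((l * q.out : L) : ↥L ⧸ K) := by
          conv_lhs => rw [← QuotientGroup.out_eq' q]
          rfl
        rw [h3, hfval]
        apply Subtype.ext
        show (l : H) * ((q.out : H) * a * (q.out : H)⁻¹) * (l : H)⁻¹ = _
        simp only [Subgroup.coe_mul]
        group
      simp_rw [h2]
      exact Equiv.prod_comp (MulAction.toPerm l) f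
    exact congrArg Subtype.val h1
  set a' : Z := ⟨a, ha⟩ with ha'
  set W' := W.subgroupOf Z with hW'
  have hmem1 : n * (a'⁻¹) ^ (Fintype.card (↥L ⧸ K)) ∈ W' := by
    have e : n * (a'⁻¹) ^ (Fintype.card (↥L ⧸ K)) = ∏ q, (f q * a'⁻¹) := by
      rw [Finset.prod_mul_distrib, Finset.prod_const, Finset.card_univ]
    rw [e]
    refine Subgroup.prod_mem _ fun q _ => ?_
    rw [hW', mem_subgroupOf]
    exact hW _ q.out.2 a ha
  have hindex : ¬ p ∣ Fintype.card (↥L ⧸ K) := by
    have := hT.2.2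
    rw [← Nat.card_eq_fintype_card]
    exact this
  have hnO : (n : H) ∈ Z ⊓ centralizer (L : Set H) := by
    refine Subgroup.mem_inf.mpr ⟨n.2, Subgroup.mem_centralizer_iff.mpr fun l hl => ?_⟩
    have := hcentral ⟨l, hl⟩
    simp only at this
    rw [mul_inv_eq_iff_eq_mul] at this
    exact this
  set J := (Z ⊓ centralizer (L : Set H)) ⊔ W with hJ
  have hpow : a ^ Fintype.card (↥L ⧸ K) ∈ J := by
    have h1 : ((n * (a'⁻¹) ^ (Fintype.card (↥L ⧸ K)) : Z) : H) ∈ W := mem_subgroupOf.mp hmem1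
    have h2 : ((n * (a'⁻¹) ^ (Fintype.card (↥L ⧸ K)) : Z) : H) = n * (a⁻¹) ^ (Fintype.card (↥L ⧸ K)) := rfl
    rw [h2] at h1
    have h3 : n * (a⁻¹) ^ Fintype.card (↥L ⧸ K) ∈ J := (le_sup_right : W ≤ J) h1
    have h4 : (n : H) ∈ J := (le_sup_left : _ ≤ J) hnO
    have h5 : (a⁻¹) ^ Fintype.card (↥L ⧸ K) ∈ J := by
      have := mul_mem (inv_mem h4) h3
      simpa using this
    have := inv_mem h5
    rwa [inv_pow, inv_inv] at this
  have hap : a ^ p ∈ J := by
    rw [hZ.2 a ha]; exact one_mem _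
  have hcop : (Fintype.card (↥L ⧸ K)).Coprime p :=
    ((Nat.Prime.coprime_iff_not_dvd Fact.out).mpr hindex).symm
  exact mem_of_pow_coprime hcop hpow hap

/-- Fixed points of a Sylow subgroup of `M` are fixed by `M` when a `p`-group acting compatibly allows it. -/
theorem fixed_by_overgroup {T M A P : Subgroup H} (hT : IsSylowIn p T M)
    (hAel : IsElementaryAbelian p A) (hMA : M ≤ normalizer (A : Set H))
    (hPA : P ≤ normalizer (A : Set H)) (hPM : P ≤ normalizer (M : Set H))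
    (hPT : P ≤ normalizer (T : Set H)) (hPp : IsPGroup p P) (hAP : A ≤ P)
    (hfix : ∀ i ∈ A, (∀ π ∈ P, π * i * π⁻¹ = i) → ∀ m ∈ M, m * i * m⁻¹ = i) :
    A ⊓ centralizer (T : Set H) ≤ centralizer (M : Set H) := by
  classical
  letI : CommGroup A := { (inferInstance : Group A) with mul_comm := fun x y => hAel.1.1.1 x y }
  have hTM := hT.1
  set K := T.subgroupOf M with hK
  haveI : Fintype (↥M ⧸ K) := Fintype.ofFinite _
  set Zt : Subgroup H := A ⊓ centralizer (T : Set H) with hZt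
  have hZA : Zt ≤ A := inf_le_left
  have hZcomm : ∀ w ∈ Zt, ∀ t ∈ T, t * w * t⁻¹ = w := by
    intro w hw t ht
    have := Subgroup.mem_centralizer_iff.mp (Subgroup.mem_inf.mp hw).2 t ht
    rw [this]; group
  -- the transfer on `Z`
  have hmem : ∀ (x : M) (w : H), w ∈ A → (x : H) * w * (x : H)⁻¹ ∈ A := fun x w hw =>
    (mem_normalizer_iff.mp (hMA x.2) w).mp hw
  let f : H → (↥M ⧸ K) → H := fun w q => (q.out : H) * w * (q.out : H)⁻¹
  have hfval : ∀ (w : H), w ∈ Zt → ∀ (x : M), f w (x : ↥M ⧸ K) = (x : H) * w * (x : H)⁻¹ := by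
    intro w hw x
    obtain ⟨t, ht⟩ := QuotientGroup.mk_out_eq_mul K x
    show (((x : ↥M ⧸ K).out : M) : H) * w * (((x : ↥M ⧸ K).out : M) : H)⁻¹ = _
    rw [ht]
    have ht' : ((t : M) : H) ∈ T := mem_subgroupOf.mp t.2
    have := hZcomm w hw _ ht'
    simp only [Subgroup.coe_mul]
    calc (x : H) * ((t : M) : H) * w * ((x : H) * ((t : M) : H))⁻¹
        = (x : H) * (((t : M) : H) * w * ((t : M) : H)⁻¹) * (x : H)⁻¹ := by group
      _ = _ := by rw [this]
  let tr : ↥Zt →* ↥A :=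
    { toFun := fun w => ∏ q : ↥M ⧸ K, (⟨f w q, hmem q.out w (hZA w.2)⟩ : ↥A)
      map_one' := by
        apply Finset.prod_eq_one
        intro q _
        apply Subtype.ext
        simp [f]
      map_mul' := by
        intro a b
        rw [← Finset.prod_mul_distrib]
        apply Finset.prod_congr rfl
        intro q _
        apply Subtype.ext
        show (q.out : H) * ((a : H) * (b : H)) * (q.out : H)⁻¹ =
          ((q.out : H) * a * (q.out : H)⁻¹) * ((q.out : H) * b * (q.out : H)⁻¹)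
        group }
  have htr : ∀ w : ↥Zt, tr w = ∏ q : ↥M ⧸ K, (⟨f w q, hmem q.out w (hZA w.2)⟩ : ↥A) := fun _ => rfl
  have hcomp : ∀ (π : H) (hπ : π ∈ normalizer (A : Set H)), ∃ φ : ↥A →* ↥A, ∀ a : ↥A, ((φ a : ↥A) : H) = π * a * π⁻¹ := by
    intro π hπ
    exact ⟨((MulAut.conj π).toMonoidHom.comp A.subtype).codRestrict A
      (fun z => (mem_normalizer_iff.mp hπ z).mp z.2), fun a => rfl⟩
  -- `M`-invariance of the image
  have hM_inv : ∀ (l : M) (w : ↥Zt), (l : H) * (tr w : H) * (l : H)⁻¹ = tr w := by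
    intro l w
    obtain ⟨φ, hφ⟩ := hcomp (l : H) (hMA l.2)
    have h1 : φ (tr w) = tr w := by
      rw [htr, map_prod]
      have h2 : ∀ q : ↥M ⧸ K, φ ⟨f w q, hmem q.out w (hZA w.2)⟩ =
          ⟨f w (l • q), hmem (l • q).out w (hZA w.2)⟩ := by
        intro q
        apply Subtype.ext
        rw [hφ]
        have h3 : (l • q) = ((l * q.out : M) : ↥M ⧸ K) := by
          conv_lhs => rw [← QuotientGroup.out_eq' q]
          rfl
        show (l : H) * f w q * (l : H)⁻¹ = f w (l • q)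
        rw [h3, hfval _ w.2]
        simp only [Subgroup.coe_mul, f]
        group
      simp_rw [h2]
      exact Equiv.prod_comp (MulAction.toPerm l) (fun q : ↥M ⧸ K => (⟨f w q, hmem q.out w (hZA w.2)⟩ : ↥A))
    have h4 := congrArg Subtype.val h1
    rw [hφ] at h4
    exact h4
  -- the equivariance under `P`
  have hP_eq : ∀ (π : H) (hπ : π ∈ P) (w : ↥Zt) (w' : ↥Zt), (w' : H) = π * w * π⁻¹ →
      π * (tr w : H) * π⁻¹ = tr w' := by
    intro π hπ w w' hw'
    obtain ⟨φ, hφ⟩ := hcomp π (hPA hπ)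
    have hσmem : ∀ q : ↥M ⧸ K, π * (q.out : H) * π⁻¹ ∈ M := fun q =>
      (mem_normalizer_iff.mp (hPM hπ) _).mp q.out.2
    let σ : ↥M ⧸ K → ↥M ⧸ K := fun q => ((⟨π * (q.out : H) * π⁻¹, hσmem q⟩ : M) : ↥M ⧸ K)
    have hσinj : Function.Injective σ := by
      intro q₁ q₂ h
      have h1 := QuotientGroup.eq.mp h
      have h2 : ((⟨π * (q₁.out : H) * π⁻¹, hσmem q₁⟩ : M)⁻¹ * ⟨π * (q₂.out : H) * π⁻¹, hσmem q₂⟩ : M).1 ∈ T :=
        mem_subgroupOf.mp h1
      have h3 : π * ((q₁.out : H)⁻¹ * (q₂.out : H)) * π⁻¹ ∈ T := by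
        simpa [mul_assoc] using h2
      have h4 : (q₁.out : H)⁻¹ * (q₂.out : H) ∈ T := (mem_normalizer_iff.mp (hPT hπ) _).mpr h3
      have h5 : q₁.out⁻¹ * q₂.out ∈ K := mem_subgroupOf.mpr (by simpa using h4)
      rw [← QuotientGroup.out_eq' q₁, ← QuotientGroup.out_eq' q₂]
      exact QuotientGroup.eq.mpr h5
    have hσbij : Function.Bijective σ := Finite.injective_iff_bijective.mp hσinj
    have h1 : φ (tr w) = tr w' := by
      rw [htr, htr, map_prod]
      rw [← hσbij.prod_comp (fun q : ↥M ⧸ K => (⟨f w' q, hmem q.out w' (hZA w'.2)⟩ : ↥A))]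
      apply Finset.prod_congr rfl
      intro q _
      apply Subtype.ext
      rw [hφ]
      show π * f w q * π⁻¹ = f w' (σ q)
      have := hfval w' w'.2 ⟨π * (q.out : H) * π⁻¹, hσmem q⟩
      rw [this, hw']
      simp only [f]
      group
    have h4 := congrArg Subtype.val h1
    rw [hφ] at h4
    exact h4
  -- the kernel is trivial
  have hker : ∀ w : ↥Zt, tr w = 1 → w = 1 := by
    set Kr : Subgroup H := tr.ker.map Zt.subtype with hKr
    have hKrA : Kr ≤ A := (Subgroup.map_subtype_le _).trans hZA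
    have hKrP : Kr ≤ P := hKrA.trans hAP
    have hPKr : P ≤ normalizer (Kr : Set H) := by
      intro π hπ
      refine CfsgLib.Fusion.mem_normalizer_of_conj_mem ?_
      rintro _ ⟨w, hw, rfl⟩
      have hw' : π * (w : H) * π⁻¹ ∈ Zt := by
        refine Subgroup.mem_inf.mpr ⟨(mem_normalizer_iff.mp (hPA hπ) _).mp (hZA w.2), ?_⟩
        rw [Subgroup.mem_centralizer_iff]
        intro t ht
        have ht' : π⁻¹ * t * π ∈ T := by
          have := (mem_normalizer_iff.mp (inv_mem (hPT hπ)) t).mp ht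
          simpa using this
        have h2 := Subgroup.mem_centralizer_iff.mp (Subgroup.mem_inf.mp w.2).2 _ ht'
        calc t * (π * (w : H) * π⁻¹) = π * ((π⁻¹ * t * π) * (w : H)) * π⁻¹ := by group
          _ = π * ((w : H) * (π⁻¹ * t * π)) * π⁻¹ := by rw [h2]
          _ = _ := by group
      have h3 := hP_eq π hπ w ⟨_, hw'⟩ rfl
      have h4 : tr w = 1 := hw
      rw [h4] at h3
      have h5 : tr ⟨_, hw'⟩ = 1 := by
        apply Subtype.ext
        rw [← h3]
        simp
      exact ⟨⟨_, hw'⟩, h5, rfl⟩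
    by_cases hb : Kr = ⊥
    · intro w hw
      have h1 : (w : H) ∈ Kr := ⟨w, hw, rfl⟩
      rw [hb, Subgroup.mem_bot] at h1
      exact Subtype.ext h1
    exfalso
    obtain ⟨i, hi, hio, hPi⟩ := exists_order_p_central_of_normal hPp hKrP hPKr hb
    obtain ⟨w, hw, rfl⟩ := hi
    have hwA := hZA w.2
    have hfixw : ∀ π ∈ P, π * (w : H) * π⁻¹ = w := by
      intro π hπ
      have h7 : π * (w : H) = (w : H) * π := Subgroup.mem_centralizer_singleton_iff.mp (hPi hπ)
      rw [h7]; group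
    have hMfix := hfix _ hwA hfixw
    have h6 : tr w = (⟨w, hwA⟩ : ↥A) ^ Fintype.card (↥M ⧸ K) := by
      rw [htr, ← Finset.card_univ, ← Finset.prod_const]
      apply Finset.prod_congr rfl
      intro q _
      apply Subtype.ext
      exact hMfix _ q.out.2
    have h7 : tr w = 1 := hw
    rw [h7] at h6
    have h8 : (w : H) ^ Fintype.card (↥M ⧸ K) = 1 := by
      have := congrArg Subtype.val h6
      simpa using this.symm
    have hio' : orderOf (w : H) = p := hio
    have h9 : p ∣ Fintype.card (↥M ⧸ K) := by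
      rw [← hio']
      exact orderOf_dvd_of_pow_eq_one h8
    apply hT.2.2
    rw [← Nat.card_eq_fintype_card] at h9
    exact h9
  set X : Subgroup H := A ⊓ centralizer (M : Set H) with hX
  have hXZ : X ≤ Zt := inf_le_inf_left _ (Subgroup.centralizer_le hTM)
  have hXmem : ∀ w : ↥Zt, ((tr w : ↥A) : H) ∈ X := by
    intro w
    refine Subgroup.mem_inf.mpr ⟨(tr w).2, ?_⟩
    rw [Subgroup.mem_centralizer_iff]
    intro m hm
    have h1 := hM_inv ⟨m, hm⟩ w
    rw [mul_inv_eq_iff_eq_mul] at h1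
    exact h1
  have hcard : Nat.card Zt ≤ Nat.card X := by
    refine Nat.card_le_card_of_injective (fun w => (⟨_, hXmem w⟩ : ↥X)) ?_
    intro a b hab
    have h0 : ((tr a : ↥A) : H) = (tr b : ↥A) := congrArg (fun z : ↥X => (z : H)) hab
    have h1 : tr a = tr b := Subtype.ext h0
    have h2 : tr (a⁻¹ * b) = 1 := by
      rw [map_mul, map_inv, h1, inv_mul_cancel]
    have h3 := hker _ h2
    rw [inv_mul_eq_one] at h3
    exact h3
  have hE : X = Zt := Subgroup.eq_of_le_of_card_ge hXZ hcard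
  rw [← hE]
  exact inf_le_right

theorem normalizer_le_normalizer_omegaCenter (R : Subgroup H) :
    normalizer (R : Set H) ≤ normalizer (omegaOne p (R ⊓ centralizer (R : Set H)) : Set H) := by
  intro n hn
  refine CfsgLib.Fusion.mem_normalizer_of_conj_mem fun z hz => ?_
  induction hz using Subgroup.closure_induction with
  | mem x hx =>
    obtain ⟨hx1, hx2⟩ := Subgroup.mem_inf.mp hx.1
    refine Subgroup.subset_closure ⟨Subgroup.mem_inf.mpr ⟨(mem_normalizer_iff.mp hn x).mp hx1,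
      (mem_normalizer_iff.mp (normalizer_le_normalizer_centralizer R hn) x).mp hx2⟩, ?_⟩
    rw [conj_pow, hx.2]; simp
  | one => simp
  | mul x y _ _ ihx ihy =>
    have e : n * (x * y) * n⁻¹ = n * x * n⁻¹ * (n * y * n⁻¹) := by group
    rw [e]
    exact mul_mem ihx ihy
  | inv x _ ih =>
    have e : n * x⁻¹ * n⁻¹ = (n * x * n⁻¹)⁻¹ := by group
    rw [e]
    exact inv_mem ih

theorem pCoreOf_le_of_sylowIn {P K : Subgroup H} (hP : IsSylowIn p P K) : pCoreOf p K ≤ P := by
  obtain ⟨Q, hQ⟩ := hP.exists_sylow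
  rw [← hQ]
  exact pCoreOf_le_sylow' Q

theorem mem_omega_of {R : Subgroup H} {w : H} (hw : w ∈ omegaOne p (R ⊓ centralizer (R : Set H))) :
    w ∈ R ∧ w ∈ centralizer (R : Set H) ∧ w ^ p = 1 := by
  have h1 := omegaOne_le' (p := p) _ hw
  obtain ⟨h2, h3⟩ := Subgroup.mem_inf.mp h1
  exact ⟨h2, h3, (isElementaryAbelian_omega_center (p := p) R).2 w hw⟩

/-- The normal step of Kieler's lemma. -/
theorem kieler_step {K L P : Subgroup H} (hP : IsSylowIn p P K) (hLK : L ≤ K)
    (hKL : K ≤ normalizer (L : Set H))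
    (hK : K ⊓ centralizer ((pCoreOf p K : Subgroup H) : Set H) ≤ pCoreOf p K)
    (hL : L ⊓ centralizer ((pCoreOf p L : Subgroup H) : Set H) ≤ pCoreOf p L) :
    L ⊓ centralizer (omegaOne p (P ⊓ centralizer (P : Set H)) : Set H) =
      L ⊓ centralizer (omegaOne p ((P ⊓ L) ⊓ centralizer ((P ⊓ L : Subgroup H) : Set H)) : Set H) := by
  set Z₁ : Subgroup H := omegaOne p (P ⊓ centralizer (P : Set H)) with hZ₁
  set T : Subgroup H := P ⊓ L with hT
  set Z₂ : Subgroup H := omegaOne p (T ⊓ centralizer (T : Set H)) with hZ₂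
  have hPK := hP.1
  have hPp : IsPGroup p P := hP.2.1
  have hTs : IsSylowIn p T L := CfsgLib.AlpGold.isSylowIn_inf_normal hP hLK hKL
  set Q : Subgroup H := pCoreOf p K with hQ
  have hQP : Q ≤ P := pCoreOf_le_of_sylowIn hP
  have hKQ : K ≤ normalizer (Q : Set H) := by
    intro t ht
    refine CfsgLib.Fusion.mem_normalizer_of_conj_mem fun y hy => ?_
    exact map_pCore_subgroup_normalized (Subgroup.le_normalizer ht) hy
  set Ω : Subgroup H := omegaOne p (Q ⊓ centralizer (Q : Set H)) with hΩ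
  have hΩel : IsElementaryAbelian p Ω := isElementaryAbelian_omega_center Q
  have hKΩ : K ≤ normalizer (Ω : Set H) := hKQ.trans (normalizer_le_normalizer_omegaCenter Q)
  have hΩQ : Ω ≤ Q := (omegaOne_le' (p := p) _).trans inf_le_left
  have hΩcomm : ∀ a ∈ Ω, ∀ b ∈ Ω, a * b = b * a := by
    intro a ha b hb
    haveI := hΩel.1
    exact congrArg Subtype.val (mul_comm' (⟨a, ha⟩ : Ω) ⟨b, hb⟩)
  have hZ₁Ω : Z₁ ≤ Ω := by
    intro z hz
    obtain ⟨hz1, hz2, hz3⟩ := mem_omega_of hz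
    have hzC : z ∈ centralizer (Q : Set H) := Subgroup.centralizer_le hQP hz2
    exact Subgroup.subset_closure ⟨Subgroup.mem_inf.mpr
      ⟨hK (Subgroup.mem_inf.mpr ⟨hPK hz1, hzC⟩), hzC⟩, hz3⟩
  have hΩP : Ω ≤ P := hΩQ.trans hQP
  have hPL : P ≤ normalizer (L : Set H) := hPK.trans hKL
  have hPT : P ≤ normalizer (T : Set H) := by
    intro π hπ
    refine CfsgLib.Fusion.mem_normalizer_of_conj_mem fun z hz => ?_
    obtain ⟨h1, h2⟩ := Subgroup.mem_inf.mp hz
    exact Subgroup.mem_inf.mpr ⟨mul_mem (mul_mem hπ h1) (inv_mem hπ), (mem_normalizer_iff.mp (hPL hπ) z).mp h2⟩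
  have hPZ₂ : P ≤ normalizer (Z₂ : Set H) := hPT.trans (normalizer_le_normalizer_omegaCenter T)
  have hPZ₁ : P ≤ normalizer (Z₁ : Set H) :=
    Subgroup.le_normalizer.trans (normalizer_le_normalizer_omegaCenter P)
  apply le_antisymm
  · -- (b)
    set M : Subgroup H := L ⊓ centralizer (Z₁ : Set H) with hM
    have hTM : T ≤ M := by
      refine le_inf inf_le_right ?_
      intro t ht
      rw [Subgroup.mem_centralizer_iff]
      intro z hz
      obtain ⟨-, hz2, -⟩ := mem_omega_of hz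
      exact (Subgroup.mem_centralizer_iff.mp hz2 t (Subgroup.mem_inf.mp ht).1).symm
    have hTsM : IsSylowIn p T M := CfsgLib.AlpFus.isSylowIn_mono hTs hTM inf_le_left
    set QL : Subgroup H := pCoreOf p L with hQL
    have hQLT : QL ≤ T := pCoreOf_le_of_sylowIn hTs
    set A : Subgroup H := omegaOne p (QL ⊓ centralizer (QL : Set H)) with hA
    have hKA : K ≤ normalizer (A : Set H) :=
      (hKL.trans (normalizer_le_normalizer_pCoreOf L)).trans (normalizer_le_normalizer_omegaCenter QL)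
    have hAQL : A ≤ QL := (omegaOne_le' (p := p) _).trans inf_le_left
    have hPM : P ≤ normalizer (M : Set H) := by
      intro π hπ
      refine CfsgLib.Fusion.mem_normalizer_of_conj_mem fun z hz => ?_
      obtain ⟨h1, h2⟩ := Subgroup.mem_inf.mp hz
      exact Subgroup.mem_inf.mpr ⟨(mem_normalizer_iff.mp (hPL hπ) z).mp h1,
        (mem_normalizer_iff.mp (normalizer_le_normalizer_centralizer Z₁ (hPZ₁ hπ)) z).mp h2⟩
    have key := fixed_by_overgroup hTsM (isElementaryAbelian_omega_center (p := p) QL)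
      ((inf_le_left.trans hLK).trans hKA) (hPK.trans hKA) hPM hPT hPp
      (hAQL.trans (hQLT.trans inf_le_left)) (by
        intro i hi hfixi m hm
        have hiP : i ∈ P := ((hAQL.trans (hQLT.trans inf_le_left)) hi)
        have hiC : i ∈ centralizer (P : Set H) := by
          rw [Subgroup.mem_centralizer_iff]
          intro π hπ
          have h1 := hfixi π hπ
          rw [mul_inv_eq_iff_eq_mul] at h1
          exact h1
        have hiZ : i ∈ Z₁ := Subgroup.subset_closure ⟨Subgroup.mem_inf.mpr ⟨hiP, hiC⟩,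
          (isElementaryAbelian_omega_center (p := p) QL).2 i hi⟩
        have h2 := Subgroup.mem_centralizer_iff.mp (Subgroup.mem_inf.mp hm).2 i hiZ
        rw [← h2]; group)
    refine le_inf inf_le_left ?_
    intro x hx
    rw [Subgroup.mem_centralizer_iff]
    intro w hw
    obtain ⟨hw1, hw2, hw3⟩ := mem_omega_of hw
    have hwL : w ∈ L := (Subgroup.mem_inf.mp hw1).2
    have hwC : w ∈ centralizer (QL : Set H) := Subgroup.centralizer_le hQLT hw2
    have hwQL := hL (Subgroup.mem_inf.mpr ⟨hwL, hwC⟩)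
    have hwA : w ∈ A := Subgroup.subset_closure ⟨Subgroup.mem_inf.mpr ⟨hwQL, hwC⟩, hw3⟩
    have h3 := key (Subgroup.mem_inf.mpr ⟨hwA, hw2⟩)
    exact (Subgroup.mem_centralizer_iff.mp h3 x hx).symm
  · -- (a)
    set L₀ : Subgroup H := L ⊓ centralizer (Z₂ : Set H) with hL₀
    have hPL₀ : P ≤ normalizer (L₀ : Set H) := by
      intro π hπ
      refine CfsgLib.Fusion.mem_normalizer_of_conj_mem fun z hz => ?_
      obtain ⟨h1, h2⟩ := Subgroup.mem_inf.mp hz
      exact Subgroup.mem_inf.mpr ⟨(mem_normalizer_iff.mp (hPL hπ) z).mp h1,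
        (mem_normalizer_iff.mp (normalizer_le_normalizer_centralizer Z₂ (hPZ₂ hπ)) z).mp h2⟩
    set N : Subgroup H := L₀ ⊔ P with hN
    have hNK : N ≤ K := sup_le (inf_le_left.trans hLK) hPK
    have hPN : P ≤ N := le_sup_right
    have hPs : IsSylowIn p P N := CfsgLib.AlpFus.isSylowIn_mono hP hPN hNK
    set W : Subgroup H := Ω ⊓ L with hW
    have hNW : N ≤ normalizer (W : Set H) := by
      intro n hn
      refine CfsgLib.Fusion.mem_normalizer_of_conj_mem fun z hz => ?_
      obtain ⟨h1, h2⟩ := Subgroup.mem_inf.mp hz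
      exact Subgroup.mem_inf.mpr ⟨(mem_normalizer_iff.mp (hKΩ (hNK hn)) z).mp h1,
        (mem_normalizer_iff.mp (hKL (hNK hn)) z).mp h2⟩
    let Pq : Subgroup H :=
      { carrier := {x | x ∈ Ω ∧ ∀ n ∈ N, n * x * n⁻¹ * x⁻¹ ∈ W}
        one_mem' := ⟨one_mem _, fun g _ => by simp⟩
        mul_mem' := by
          rintro a b ⟨ha, ha'⟩ ⟨hb, hb'⟩
          refine ⟨mul_mem ha hb, fun n hn => ?_⟩
          have h1 := ha' n hn
          have h2 := hb' n hn
          have h3 : a * (n * b * n⁻¹ * b⁻¹) * a⁻¹ = n * b * n⁻¹ * b⁻¹ := by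
            rw [hΩcomm a ha _ (Subgroup.mem_inf.mp h2).1]; group
          have e : n * (a * b) * n⁻¹ * (a * b)⁻¹ =
              (n * a * n⁻¹ * a⁻¹) * (a * (n * b * n⁻¹ * b⁻¹) * a⁻¹) := by group
          rw [e, h3]
          exact mul_mem h1 h2
        inv_mem' := by
          rintro a ⟨ha, ha'⟩
          refine ⟨inv_mem ha, fun n hn => ?_⟩
          have h1 := ha' n hn
          have hna : n * a * n⁻¹ ∈ Ω := (mem_normalizer_iff.mp (hKΩ (hNK hn)) a).mp ha
          have e : n * a⁻¹ * n⁻¹ * a⁻¹⁻¹ = (n * a * n⁻¹ * a⁻¹)⁻¹ := by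
            have h3 := hΩcomm _ hna _ (inv_mem ha)
            calc n * a⁻¹ * n⁻¹ * a⁻¹⁻¹ = (n * a * n⁻¹)⁻¹ * a := by group
              _ = a * (n * a * n⁻¹)⁻¹ := by
                rw [hΩcomm _ (inv_mem hna) _ ha]
              _ = _ := by group
          rw [e]
          exact inv_mem h1 }
    have hPqΩ : Pq ≤ Ω := fun x hx => hx.1
    have hPqe : IsElementaryAbelian p Pq := isElementaryAbelian_mono hΩel hPqΩ
    have hPqn : ∀ l ∈ N, ∀ z ∈ Pq, l * z * l⁻¹ ∈ Pq := by
      intro l hl z hz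
      refine ⟨(mem_normalizer_iff.mp (hKΩ (hNK hl)) z).mp hz.1, fun n hn => ?_⟩
      have e : n * (l * z * l⁻¹) * n⁻¹ * (l * z * l⁻¹)⁻¹ =
          ((n * l) * z * (n * l)⁻¹ * z⁻¹) * (l * z * l⁻¹ * z⁻¹)⁻¹ := by group
      rw [e]
      exact mul_mem (hz.2 _ (mul_mem hn hl)) (inv_mem (hz.2 l hl))
    have hWPq : W ≤ Pq := by
      intro w hw
      refine ⟨(Subgroup.mem_inf.mp hw).1, fun n hn => ?_⟩
      exact mul_mem ((mem_normalizer_iff.mp (hNW hn) w).mp hw) (inv_mem hw)
    have hWc : ∀ l ∈ N, ∀ z ∈ Pq, l * z * l⁻¹ * z⁻¹ ∈ W := fun l hl z hz => hz.2 l hl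
    refine le_inf inf_le_left ?_
    intro x hx
    rw [Subgroup.mem_centralizer_iff]
    intro z hz
    obtain ⟨hz1, hz2, hz3⟩ := mem_omega_of hz
    have hzΩ := hZ₁Ω hz
    have hzK := hPK hz1
    have hzPq : z ∈ Pq := by
      refine ⟨hzΩ, fun n hn => ?_⟩
      have hn' : n ∈ ((L₀ ⊔ P : Subgroup H) : Set H) := hn
      rw [Subgroup.coe_mul_of_right_le_normalizer_left L₀ P hPL₀] at hn'
      obtain ⟨l, hl, π, hπ, rfl⟩ := Set.mem_mul.mp hn'
      have hπz : π * z = z * π := Subgroup.mem_centralizer_iff.mp hz2 π hπ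
      have e : l * π * z * (l * π)⁻¹ * z⁻¹ = l * z * l⁻¹ * z⁻¹ := by
        calc l * π * z * (l * π)⁻¹ * z⁻¹ = l * (π * z) * π⁻¹ * l⁻¹ * z⁻¹ := by group
          _ = l * (z * π) * π⁻¹ * l⁻¹ * z⁻¹ := by rw [hπz]
          _ = l * z * l⁻¹ * z⁻¹ := by group
      rw [e]
      have hlL : l ∈ L := (Subgroup.mem_inf.mp hl).1
      refine Subgroup.mem_inf.mpr ⟨mul_mem ((mem_normalizer_iff.mp (hKΩ (hLK hlL)) z).mp hzΩ) (inv_mem hzΩ), ?_⟩
      have e2 : l * z * l⁻¹ * z⁻¹ = l * (z * l⁻¹ * z⁻¹) := by group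
      rw [e2]
      exact mul_mem hlL ((mem_normalizer_iff.mp (hKL hzK) l⁻¹).mp (inv_mem hlL))
    have h1 := mem_sup_of_transfer' hPs hPqe hPqn hWPq hWc z hzPq (by
      intro t ht
      rw [Subgroup.mem_centralizer_singleton_iff]
      exact Subgroup.mem_centralizer_iff.mp hz2 t ht)
    have hJN : Pq ⊓ centralizer (N : Set H) ≤ normalizer (W : Set H) :=
      (inf_le_left.trans (hPqΩ.trans (hΩP.trans hPN))).trans hNW
    have h2 : z ∈ (((Pq ⊓ centralizer (N : Set H)) ⊔ W : Subgroup H) : Set H) := h1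
    rw [Subgroup.coe_mul_of_left_le_normalizer_right _ W hJN] at h2
    obtain ⟨c, hc, u, hu, rfl⟩ := Set.mem_mul.mp h2
    obtain ⟨hcP, hcC⟩ := Subgroup.mem_inf.mp hc
    obtain ⟨huΩ, huL⟩ := Subgroup.mem_inf.mp hu
    have huP : u ∈ P := hΩP huΩ
    have hu1 : u ∈ centralizer (P : Set H) := by
      rw [Subgroup.mem_centralizer_iff]
      intro t ht
      have h3 := Subgroup.mem_centralizer_iff.mp hz2 t ht
      have h4 := Subgroup.mem_centralizer_iff.mp hcC t (hPN ht)
      have h5 : t * (c * u) = c * t * u := by rw [← mul_assoc, h4]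
      have h6 : c * (t * u) = c * (u * t) := by
        rw [← mul_assoc, ← h5, h3]; group
      exact mul_left_cancel h6
    have huT : u ∈ T := Subgroup.mem_inf.mpr ⟨huP, huL⟩
    have huZ : u ∈ Z₂ := Subgroup.subset_closure ⟨Subgroup.mem_inf.mpr ⟨huT,
      Subgroup.centralizer_le inf_le_left hu1⟩, hΩel.2 u huΩ⟩
    obtain ⟨hxL, hxZ⟩ := Subgroup.mem_inf.mp hx
    have h7 : u * x = x * u := Subgroup.mem_centralizer_iff.mp hxZ u huZ
    have hxN : x ∈ N := (le_sup_left : L₀ ≤ N) hx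
    have h8 : x * c = c * x := Subgroup.mem_centralizer_iff.mp hcC x hxN
    calc c * u * x = c * (u * x) := by group
      _ = c * (x * u) := by rw [h7]
      _ = (c * x) * u := by group
      _ = (x * c) * u := by rw [h8]
      _ = x * (c * u) := by group

theorem relative_char_of_subnormal (hH : centralizer (pCore p H : Set H) ≤ pCore p H) {K : Subgroup H}
    (hK : K.IsSubnormal) : K ⊓ centralizer ((pCoreOf p K : Subgroup H) : Set H) ≤ pCoreOf p K := by
  have h1 := charP_of_subnormal hH K hK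
  intro x hx
  obtain ⟨hx1, hx2⟩ := Subgroup.mem_inf.mp hx
  have h2 : (⟨x, hx1⟩ : ↥K) ∈ centralizer (pCore p ↥K : Set ↥K) := by
    rw [Subgroup.mem_centralizer_iff]
    intro o ho
    apply Subtype.ext
    exact Subgroup.mem_centralizer_iff.mp hx2 (o : H) ⟨o, ho, rfl⟩
  exact ⟨_, h1 h2, rfl⟩

/-- `S2805`: Kieler's lemma. -/
theorem kieler (hH : centralizer (pCore p H : Set H) ≤ pCore p H) (T : Sylow p H) (L : Subgroup H)
    (hL : L.IsSubnormal) :
    L ⊓ centralizer (omegaOne p ((T : Subgroup H) ⊓ centralizer ((T : Subgroup H) : Set H)) : Set H) =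
      L ⊓ centralizer (omegaOne p (((T : Subgroup H) ⊓ L) ⊓
        centralizer ((((T : Subgroup H) ⊓ L) : Subgroup H) : Set H)) : Set H) := by
  suffices h : IsSylowIn p ((T : Subgroup H) ⊓ L) L ∧
      L ⊓ centralizer (omegaOne p ((T : Subgroup H) ⊓ centralizer ((T : Subgroup H) : Set H)) : Set H) =
      L ⊓ centralizer (omegaOne p (((T : Subgroup H) ⊓ L) ⊓
        centralizer ((((T : Subgroup H) ⊓ L) : Subgroup H) : Set H)) : Set H) from h.2
  induction hL with
  | top =>
    simp only [inf_top_eq]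
    exact ⟨isSylowIn_top T, trivial⟩
  | step L K hLK hK hn ih =>
    obtain ⟨hS, hE⟩ := ih
    have hKL : K ≤ normalizer (L : Set H) := (Subgroup.normal_subgroupOf_iff_le_normalizer hLK).1 hn
    have hLs : L.IsSubnormal := Subgroup.IsSubnormal.step L K hLK hK hn
    have e1 : ((T : Subgroup H) ⊓ K) ⊓ L = (T : Subgroup H) ⊓ L := by
      rw [inf_assoc, inf_eq_right.mpr hLK]
    have h1 : IsSylowIn p ((T : Subgroup H) ⊓ L) L := by
      have := CfsgLib.AlpGold.isSylowIn_inf_normal hS hLK hKL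
      rwa [e1] at this
    refine ⟨h1, ?_⟩
    have h2 := kieler_step hS hLK hKL (relative_char_of_subnormal hH hK) (relative_char_of_subnormal hH hLs)
    rw [e1] at h2
    rw [← h2]
    have e2 : ∀ X : Subgroup H, L ⊓ X = L ⊓ (K ⊓ X) := by
      intro X
      rw [← inf_assoc, inf_eq_left.mpr hLK]
    rw [e2, hE, ← e2]

end CfsgLib.Local
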