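import Cfsg.Agent.Lib.Local.Embedded4
import Cfsg.Agent.Lib.Local.Reduced
import Cfsg.Agent.Lib.Local.Irred3
import Cfsg.Prelude.Def_LocalStructure

/-! Large subgroups: the first consequences for overgroups. -/

set_option autoImplicit false

namespace CfsgLib.Local

open Cfsg Subgroup CfsgLib.Fusion
open scoped Pointwise commutatorElement

variable {G : Type*} [Group G] {p : ℕ} [Fact p.Prime]

theorem centralizer_cj (g : G) (Q : Subgroup G) :
    centralizer ((cj g Q : Subgroup G) : Set G) = cj g (centralizer (Q : Set G)) := by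
  ext x
  rw [mem_cj, Subgroup.mem_centralizer_iff, Subgroup.mem_centralizer_iff]
  constructor
  · intro h q hq
    have := h _ (conj_mem_cj (g := g) hq)
    calc q * (g⁻¹ * x * g) = g⁻¹ * ((g * q * g⁻¹) * x) * g := by group
      _ = g⁻¹ * (x * (g * q * g⁻¹)) * g := by rw [this]
      _ = _ := by group
  · intro h y hy
    have hy' : g⁻¹ * y * g ∈ Q := mem_cj.mp hy
    have := h _ hy'
    calc y * x = g * ((g⁻¹ * y * g) * (g⁻¹ * x * g)) * g⁻¹ := by group
      _ = g * ((g⁻¹ * x * g) * (g⁻¹ * y * g)) * g⁻¹ := by rw [this]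
      _ = _ := by group

theorem isLarge_cj [Finite G] {Q : Subgroup G} (h : IsLarge Q) (g : G) : IsLarge (cj g Q) := by
  refine ⟨?_, fun U hU hU1 => ?_⟩
  · rw [centralizer_cj]
    exact cj_mono h.1
  · rw [centralizer_cj] at hU
    have h1 : cj g⁻¹ U ≤ centralizer (Q : Set G) := by
      rw [cj_le_iff, inv_inv]
      exact hU
    have h2 : cj g⁻¹ U ≠ ⊥ := by
      intro hb
      apply hU1
      have := congrArg (cj g) hb
      rw [cj_cj_inv] at this
      rw [this]
      ext x
      simp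
    have h3 := cj_mono (a := g) (h.2 _ h1 h2)
    rw [← normalizer_cj, ← normalizer_cj, cj_cj_inv] at h3
    exact h3

/-- If a large `p`-subgroup `A` normalizes a nontrivial `p`-subgroup `Y`, then `C(Y)` normalizes `A`. -/
theorem centralizer_le_normalizer_of_large [Finite G] {A Y : Subgroup G} (hA : IsPGroup p A) (hLA : IsLarge A)
    (hY : IsPGroup p Y) (hY1 : Y ≠ ⊥) (hAY : A ≤ normalizer (Y : Set G)) :
    centralizer (Y : Set G) ≤ normalizer (A : Set G) := by
  haveI : Finite G := inferInstance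
  -- consider `AY`
  have hR : IsPGroup p ((A ⊔ Y : Subgroup G) : Subgroup G) :=
    IsPGroup.to_sup_of_normal_right' hA hY hAY
  have hn : (A ⊔ Y : Subgroup G) ≤ normalizer (Y : Set G) := sup_le hAY Subgroup.le_normalizer
  obtain ⟨x, hxY, hxo, hxc⟩ := exists_order_p_central_of_normal hR (le_sup_right : Y ≤ A ⊔ Y) hn hY1
  have hU1 : Subgroup.zpowers x ≠ ⊥ := by
    intro h
    rw [Subgroup.zpowers_eq_bot] at h
    rw [h, orderOf_one] at hxo
    exact (Fact.out : p.Prime).one_lt.ne hxo
  have hUc : Subgroup.zpowers x ≤ centralizer (A : Set G) := by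
    rw [Subgroup.zpowers_le]
    refine Subgroup.mem_centralizer_iff.mpr fun a ha => ?_
    exact Subgroup.mem_centralizer_singleton_iff.mp (hxc (Subgroup.mem_sup_left ha))
  refine le_trans ?_ (hLA.2 _ hUc hU1)
  intro c hc
  refine mem_normalizer_of_conj_mem fun u hu => ?_
  obtain ⟨k, rfl⟩ := Subgroup.mem_zpowers_iff.mp hu
  have : c * x * c⁻¹ = x := by
    have := Subgroup.mem_centralizer_iff.mp hc x hxY
    rw [← this, mul_inv_cancel_right]
  rw [← MulAut.conj_apply, map_zpow, MulAut.conj_apply, this]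
  exact hu

/-- A commutator with a join. -/
theorem commutator_iSup_le {ι : Sort*} (A : ι → Subgroup G) (C D : Subgroup G)
    (hD : (⨆ i, A i) ≤ normalizer (D : Set G)) (h : ∀ i, ⁅A i, C⁆ ≤ D) : ⁅⨆ i, A i, C⁆ ≤ D := by
  classical
  rw [Subgroup.commutator_le]
  intro x hx c hc
  induction hx using Subgroup.iSup_induction' with
  | hp i y hy => exact (Subgroup.commutator_le.mp (h i)) y hy c hc
  | h1 => simp
  | hmul x y hx hy ihx ihy =>
    have e : ⁅x * y, c⁆ = x * ⁅y, c⁆ * x⁻¹ * ⁅x, c⁆ := by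
      simp only [commutatorElement_def]; group
    rw [e]
    have := (Subgroup.mem_normalizer_iff.mp (hD hx) _).mp ihy
    exact mul_mem this ihx

/-- `S2843`. -/
theorem large_overgroup [Finite G] {Q : Subgroup G} (hQp : IsPGroup p Q) (hQ1 : Q ≠ ⊥) (hL : IsLarge Q)
    (L : Subgroup G) (hQL : Q ≤ L) (Y : Subgroup G) (hYp : IsPGroup p Y) (hY1 : Y ≠ ⊥)
    (hLY : L ≤ normalizer (Y : Set G)) :
    weakClosure Q L = weakClosure Q (L ⊔ centralizer (Y : Set G)) ∧
    ⁅weakClosure Q L, centralizer (Y : Set G)⁆ ≤ pCoreOf p (weakClosure Q L) ∧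
    centralizer (Y : Set G) ≤ normalizer ((weakClosure Q L : Subgroup G) : Set G) := by
  classical
  set C : Subgroup G := centralizer (Y : Set G) with hC
  have hwc := wc_of_large hQp hQ1 hL
  have hCY : C ≤ normalizer (Y : Set G) := Subgroup.centralizer_le_normalizer _
  have hLC : L ≤ normalizer (C : Set G) := hLY.trans (normalizer_le_normalizer_centralizer Y)
  have hKY : L ⊔ C ≤ normalizer (Y : Set G) := sup_le hLY hCY
  have hCA : ∀ g : G, cj g Q ≤ L ⊔ C → C ≤ normalizer ((cj g Q : Subgroup G) : Set G) := fun g hg =>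
    centralizer_le_normalizer_of_large (isPGroup_cj hQp) (isLarge_cj hL g) hYp hY1 (hg.trans hKY)
  have hCQ : C ≤ normalizer (Q : Set G) := by
    have := hCA 1 (by rw [cj_one]; exact hQL.trans le_sup_left)
    rwa [cj_one] at this
  have hset : ((L ⊔ C : Subgroup G) : Set G) = L * C := Subgroup.coe_mul_of_left_le_normalizer_right L C hLC
  have h1 : weakClosure Q L = weakClosure Q (L ⊔ C) := by
    apply le_antisymm
    · refine iSup_le ?_
      rintro ⟨g, hg⟩
      exact le_iSup (fun g : {g : G // Q.map (MulAut.conj g).toMonoidHom ≤ L ⊔ C} =>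
        Q.map (MulAut.conj (g : G)).toMonoidHom) ⟨g, le_trans hg le_sup_left⟩
    · refine iSup_le ?_
      rintro ⟨g, hg⟩
      obtain ⟨k, hk, hke⟩ := conj_in_subgroup_of_wc hQp hwc (L ⊔ C) (hQL.trans le_sup_left) g hg
      have hk' : k ∈ ((L ⊔ C : Subgroup G) : Set G) := hk
      rw [hset] at hk'
      obtain ⟨l, hl, c, hc, rfl⟩ := hk'
      have hc' : c ∈ C := hc
      have hl' : l ∈ L := hl
      have e : cj (l * c) Q = cj l Q := by
        rw [cj_mul, mem_normalizer_iff_cj.mp (hCQ hc')]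
      show cj g Q ≤ weakClosure Q L
      rw [hke, e]
      have hlL : cj l Q ≤ L := by
        rintro _ ⟨q, hq, rfl⟩
        exact mul_mem (mul_mem hl' (hQL hq)) (inv_mem hl')
      exact le_iSup (fun g : {g : G // Q.map (MulAut.conj g).toMonoidHom ≤ L} =>
        Q.map (MulAut.conj (g : G)).toMonoidHom) ⟨l, hlL⟩
  set W := weakClosure Q L with hW
  have hWL : W ≤ L := iSup_le fun g => g.2
  -- conjugating a generator
  have hgen : ∀ (g : G) (x : G), cj g Q ≤ L → x ∈ L → cj (x * g) Q ≤ L := by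
    intro g x hg hx
    rw [cj_mul]
    rintro _ ⟨y, hy, rfl⟩
    exact mul_mem (mul_mem hx (hg hy)) (inv_mem hx)
  have hgenW : ∀ (g : G), cj g Q ≤ L → cj g Q ≤ W := fun g hg =>
    le_iSup (fun g : {g : G // Q.map (MulAut.conj g).toMonoidHom ≤ L} =>
        Q.map (MulAut.conj (g : G)).toMonoidHom) ⟨g, hg⟩
  -- the normalizer
  have h3 : C ≤ normalizer ((W : Subgroup G) : Set G) := by
    intro c hc
    refine mem_normalizer_of_conj_mem fun w hw => ?_
    have hle : W ≤ cj c⁻¹ W := by
      refine iSup_le ?_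
      rintro ⟨g, hg⟩ y hy
      rw [mem_cj, inv_inv]
      have h4 := (Subgroup.mem_normalizer_iff.mp (hCA g (le_trans hg le_sup_left) hc) y).mp hy
      exact hgenW g hg h4
    have := hle hw
    rw [mem_cj, inv_inv] at this
    exact this
  -- the commutators
  set D : Subgroup G := ⨆ g : {g : G // cj g Q ≤ L}, (cj (g : G) Q ⊓ C) with hD
  have hDC : D ≤ pCoreOf p C := by
    refine iSup_le ?_
    rintro ⟨g, hg⟩
    refine le_pCoreOf_of_normalized inf_le_right ((isPGroup_cj hQp).to_le inf_le_left) ?_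
    intro c hc
    refine mem_normalizer_of_conj_mem fun y hy => ?_
    refine ⟨(Subgroup.mem_normalizer_iff.mp (hCA g (le_trans hg le_sup_left) hc) y).mp hy.1, ?_⟩
    have hy2 : y ∈ C := hy.2
    exact C.mul_mem (C.mul_mem hc hy2) (C.inv_mem hc)
  have hDp : IsPGroup p D := by
    have : IsPGroup p (pCoreOf p C) := (CfsgLib.PLocal.pCore_isPGroup (p := p) (G := C)).map _
    exact this.to_le hDC
  have hLD : L ≤ normalizer (D : Set G) := by
    intro l hl
    refine mem_normalizer_of_conj_mem fun y hy => ?_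
    have hle : D ≤ cj l⁻¹ D := by
      refine iSup_le ?_
      rintro ⟨g, hg⟩ y hy
      rw [mem_cj, inv_inv]
      have h5 : l * y * l⁻¹ ∈ cj (l * g) Q ⊓ C := by
        refine ⟨?_, (Subgroup.mem_normalizer_iff.mp (hLC hl) y).mp hy.2⟩
        rw [cj_mul]
        exact conj_mem_cj hy.1
      exact (le_iSup (fun g : {g : G // cj g Q ≤ L} => (cj (g : G) Q ⊓ C)) ⟨l * g, hgen g l hg hl⟩) h5
    have := hle hy
    rw [mem_cj, inv_inv] at this
    exact this
  have hDW : D ≤ W := by
    refine iSup_le ?_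
    rintro ⟨g, hg⟩
    exact inf_le_left.trans (hgenW g hg)
  have hDcore : D ≤ pCoreOf p W := le_pCoreOf_of_normalized hDW hDp (hWL.trans hLD)
  have h2 : ⁅W, C⁆ ≤ D := by
    refine commutator_iSup_le _ C D (hWL.trans hLD) ?_
    rintro ⟨g, hg⟩
    have h6 := commutator_le_of_normalizing (hg.trans hLC) (hCA g (le_trans hg le_sup_left))
    refine h6.trans ?_
    exact le_iSup (fun g : {g : G // cj g Q ≤ L} => (cj (g : G) Q ⊓ C)) ⟨g, hg⟩
  exact ⟨h1, h2.trans hDcore, h3⟩

end CfsgLib.Local
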