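import Cfsg.Agent.Lib.Local.Large1
import Cfsg.Agent.Lib.FGS.ABLemma
import Cfsg.Agent.Lib.Local.Basic

/-! Overgroups of weakly closed self-centralizing `p`-subgroups have characteristic `p`. -/

set_option autoImplicit false

namespace CfsgLib.Local

open Cfsg Subgroup CfsgLib.Fusion
open scoped Pointwise commutatorElement

variable {G : Type*} [Group G] [Finite G] {p : ℕ} [Fact p.Prime]

/-- Thompson's `A × B` lemma, with a `p`-subgroup `R` in place of one element. -/
theorem ab_lemma_sub {O : Subgroup G} (hO : IsPGroup p O) {h : G} (hhO : h ∈ normalizer (O : Set G))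
    (hh : (orderOf h).Coprime p) (R : Subgroup G) (hR : IsPGroup p R) (hRO : R ≤ normalizer (O : Set G))
    (hRh : R ≤ centralizer ({h} : Set G))
    (hfix : ∀ y ∈ O, y ∈ centralizer (R : Set G) → h * y = y * h) : ∀ y ∈ O, h * y = y * h := by
  classical
  induction' hn : Nat.card R using Nat.strong_induction_on with n ih generalizing R
  by_cases hbot : R = ⊥
  · intro y hy
    refine hfix y hy ?_
    rw [hbot]
    simp [Subgroup.mem_centralizer_iff]
  have hlt : (⊥ : Subgroup G) < R := bot_lt_iff_ne_bot.mpr hbot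
  obtain ⟨R₀, -, hR₀⟩ := Set.Finite.exists_le_maximal (s := {D : Subgroup G | D < R}) (Set.toFinite _)
    (a := ⊥) hlt
  have hR₀R : R₀ < R := hR₀.1
  obtain ⟨x, hxR, hxR₀, hxN⟩ := CfsgLib.FGS.exists_mem_normalizer_of_lt hR hR₀R
  have hsup : R₀ ⊔ zpowers x = R := by
    by_contra hne
    have hle : R₀ ⊔ zpowers x ≤ R := sup_le hR₀R.le (by rw [zpowers_le]; exact hxR)
    have hlt' : R₀ ⊔ zpowers x < R := lt_of_le_of_ne hle hne
    have := hR₀.2 hlt' le_sup_left
    exact hxR₀ (this (Subgroup.mem_sup_right (mem_zpowers x)))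
  have hcard : Nat.card R₀ < n := by
    rw [← hn]
    have h0 : ((R₀ : Set G)).ncard < ((R : Set G)).ncard :=
      Set.ncard_lt_ncard (SetLike.coe_ssubset_coe.mpr hR₀R) (Set.toFinite _)
    have e1 : Nat.card R₀ = ((R₀ : Set G)).ncard := Nat.card_coe_set_eq _
    have e2 : Nat.card R = ((R : Set G)).ncard := Nat.card_coe_set_eq _
    omega
  have hhR : h ∈ centralizer (R : Set G) := by
    rw [Subgroup.mem_centralizer_iff]
    intro r hr
    exact Subgroup.mem_centralizer_singleton_iff.mp (hRh hr)
  have hcen₀ : h ∈ normalizer (R₀ : Set G) := by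
    have : h ∈ centralizer (R₀ : Set G) := by
      rw [Subgroup.mem_centralizer_iff]
      intro r hr
      exact Subgroup.mem_centralizer_singleton_iff.mp (hRh (hR₀R.le hr))
    exact Subgroup.centralizer_le_normalizer _ this
  have hnorm : ∀ a, a ∈ normalizer (O : Set G) → a ∈ normalizer (R₀ : Set G) →
      a ∈ normalizer (((O ⊓ centralizer (R₀ : Set G) : Subgroup G)) : Set G) := by
    intro a ha hb
    refine mem_normalizer_of_conj_mem fun y hy => ⟨(Subgroup.mem_normalizer_iff.mp ha y).mp hy.1, ?_⟩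
    have := normalizer_le_normalizer_centralizer R₀ hb
    exact (Subgroup.mem_normalizer_iff.mp this y).mp hy.2
  have hxz : IsPGroup p (zpowers x) := hR.to_le (by rw [zpowers_le]; exact hxR)
  have hhx : h * x = x * h := (Subgroup.mem_centralizer_singleton_iff.mp (hRh hxR)).symm
  have hstep : ∀ y ∈ O ⊓ centralizer (R₀ : Set G), h * y = y * h :=
    CfsgLib.FGS.ab_lemma (hO.to_le inf_le_left) (hnorm h hhO hcen₀) (hnorm x (hRO hxR) hxN) hhx hh hxz (by
      intro y hy hxy
      refine hfix y hy.1 ?_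
      have : R ≤ centralizer ({y} : Set G) := by
        rw [← hsup]
        refine sup_le ?_ ?_
        · intro r hr
          rw [Subgroup.mem_centralizer_singleton_iff]
          exact Subgroup.mem_centralizer_iff.mp hy.2 r hr
        · rw [zpowers_le, Subgroup.mem_centralizer_singleton_iff]
          exact hxy
      rw [Subgroup.mem_centralizer_iff]
      intro r hr
      exact Subgroup.mem_centralizer_singleton_iff.mp (this hr))
  exact ih _ hcard R₀ (hR.to_le hR₀R.le) (hR₀R.le.trans hRO) (hR₀R.le.trans hRh)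
    (fun y hy hyc => hstep y ⟨hy, hyc⟩) rfl

omit [Finite G] [Fact p.Prime] in
theorem charP_of_relative (M : Subgroup G) (h : M ⊓ centralizer ((pCoreOf p M : Subgroup G) : Set G) ≤ pCoreOf p M) :
    centralizer (pCore p ↥M : Set ↥M) ≤ pCore p ↥M := by
  intro x hx
  have h1 : (x : G) ∈ M ⊓ centralizer ((pCoreOf p M : Subgroup G) : Set G) := by
    refine ⟨x.2, Subgroup.mem_centralizer_iff.mpr ?_⟩
    rintro _ ⟨o, ho, rfl⟩
    exact congrArg Subtype.val (Subgroup.mem_centralizer_iff.mp hx o ho)
  obtain ⟨w, hw, hwx⟩ := h h1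
  have : w = x := Subtype.ext hwx
  rwa [← this]

omit [Finite G] [Fact p.Prime] in
theorem relative_of_charP (M : Subgroup G) (h : centralizer (pCore p ↥M : Set ↥M) ≤ pCore p ↥M) :
    M ⊓ centralizer ((pCoreOf p M : Subgroup G) : Set G) ≤ pCoreOf p M := by
  intro x hx
  obtain ⟨hx1, hx2⟩ := Subgroup.mem_inf.mp hx
  have h2 : (⟨x, hx1⟩ : ↥M) ∈ centralizer (pCore p ↥M : Set ↥M) := by
    rw [Subgroup.mem_centralizer_iff]
    intro o ho
    apply Subtype.ext
    exact Subgroup.mem_centralizer_iff.mp hx2 (o : G) ⟨o, ho, rfl⟩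
  exact ⟨_, h h2, rfl⟩

theorem isPGroup_pCoreOf (M : Subgroup G) : IsPGroup p (pCoreOf p M) :=
  (CfsgLib.PLocal.pCore_isPGroup (p := p) (G := M)).map _

theorem charP_of_centralizing (hG : centralizer (pCore p G : Set G) ≤ pCore p G) (M R : Subgroup G)
    (hR : IsPGroup p R) (h1 : M ⊓ centralizer ((pCoreOf p M : Subgroup G) : Set G) ≤ centralizer (R : Set G))
    (h2 : pCore p G ⊓ centralizer (R : Set G) ≤ M) :
    centralizer (pCore p ↥M : Set ↥M) ≤ pCore p ↥M := by
  refine charP_of_relative M ?_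
  set E : Subgroup G := M ⊓ centralizer ((pCoreOf p M : Subgroup G) : Set G) with hE
  have hFn : (pCore p G).Normal := CfsgLib.PLocal.pCore_normal'
  have hFp : IsPGroup p (pCore p G) := CfsgLib.PLocal.pCore_isPGroup
  have hFtop : normalizer ((pCore p G : Subgroup G) : Set G) = ⊤ := Subgroup.normalizer_eq_top_iff.mpr hFn
  have hME : M ≤ normalizer (E : Set G) := by
    intro m hm
    have h3 : m ∈ normalizer ((pCoreOf p M : Subgroup G) : Set G) :=
      normalizer_le_normalizer_pCoreOf M (Subgroup.le_normalizer hm)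
    have h4 := normalizer_le_normalizer_centralizer _ h3
    refine mem_normalizer_of_conj_mem fun y hy => ⟨M.mul_mem (M.mul_mem hm hy.1) (M.inv_mem hm), ?_⟩
    exact (Subgroup.mem_normalizer_iff.mp h4 y).mp hy.2
  have hEp : IsPGroup p E := by
    refine isPGroup_of_forall_prime Fact.out ?_
    rintro q hq ⟨y, hy⟩ hyo
    rw [Subgroup.orderOf_mk] at hyo
    by_contra hne
    have hcop : (orderOf y).Coprime p := by
      rw [hyo]
      exact (Nat.coprime_primes hq Fact.out).mpr hne
    have hyR := h1 hy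
    have key := ab_lemma_sub hFp (h := y) (by rw [hFtop]; trivial) hcop R hR (by rw [hFtop]; exact le_top)
      (fun r hr => Subgroup.mem_centralizer_singleton_iff.mpr (Subgroup.mem_centralizer_iff.mp hyR r hr))
      (by
        intro z hz hzR
        have hzM : z ∈ M := h2 ⟨hz, hzR⟩
        have hzO : z ∈ pCoreOf p M := by
          refine le_pCoreOf_of_normalized (A := pCore p G ⊓ M) inf_le_right (hFp.to_le inf_le_left) ?_ ⟨hz, hzM⟩
          intro m hm
          refine mem_normalizer_of_conj_mem fun w hw =>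
            ⟨(Subgroup.mem_normalizer_iff.mp (by rw [hFtop]; trivial : m ∈ normalizer ((pCore p G : Subgroup G) : Set G)) w).mp hw.1,
              M.mul_mem (M.mul_mem hm hw.2) (M.inv_mem hm)⟩
        exact (Subgroup.mem_centralizer_iff.mp hy.2 z hzO).symm)
    have hyF : y ∈ pCore p G := hG (Subgroup.mem_centralizer_iff.mpr fun z hz => (key z hz).symm)
    obtain ⟨k, hk⟩ := hFp ⟨y, hyF⟩
    have hk' : y ^ p ^ k = 1 := congrArg Subtype.val hk
    have hd : q ∣ p ^ k := by
      rw [← hyo]; exact orderOf_dvd_of_pow_eq_one hk'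
    exact hne ((Nat.prime_dvd_prime_iff_eq hq Fact.out).mp (hq.dvd_of_dvd_pow hd))
  exact le_pCoreOf_of_normalized inf_le_left hEp hME

/-- In a group of characteristic `p` the centralizer of a `p`-subgroup has characteristic `p`. -/
theorem charP_centralizer (hG : centralizer (pCore p G : Set G) ≤ pCore p G) (R : Subgroup G) (hR : IsPGroup p R) :
    centralizer (pCore p ↥(centralizer (R : Set G)) : Set ↥(centralizer (R : Set G))) ≤
      pCore p ↥(centralizer (R : Set G)) :=
  charP_of_centralizing hG _ R hR inf_le_left inf_le_right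

/-- In a group of characteristic `p` the normalizer of a `p`-subgroup has characteristic `p`. -/
theorem charP_normalizer (hG : centralizer (pCore p G : Set G) ≤ pCore p G) (R : Subgroup G) (hR : IsPGroup p R) :
    centralizer (pCore p ↥(normalizer (R : Set G)) : Set ↥(normalizer (R : Set G))) ≤
      pCore p ↥(normalizer (R : Set G)) := by
  refine charP_of_centralizing hG _ R hR ?_ ?_
  · rintro x ⟨-, hx⟩
    have hRO : R ≤ pCoreOf p (normalizer (R : Set G)) :=
      le_pCoreOf_of_normalized Subgroup.le_normalizer hR le_rfl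
    exact Subgroup.mem_centralizer_iff.mpr fun r hr => Subgroup.mem_centralizer_iff.mp hx r (hRO hr)
  · rintro x ⟨-, hx⟩
    exact Subgroup.centralizer_le_normalizer _ hx

/-- A `p'`-element of `N ⊔ Q`, for a `p`-group `Q` normalizing `N`, lies in `N`. -/
theorem mem_of_coprime_of_sup {N Q : Subgroup G} (hQ : IsPGroup p Q) (hQN : Q ≤ normalizer (N : Set G)) {y : G}
    (hy : y ∈ N ⊔ Q) (hyc : (orderOf y).Coprime p) : y ∈ N := by
  have hset := Subgroup.coe_mul_of_right_le_normalizer_left N Q hQN
  have hy' : y ∈ ((N ⊔ Q : Subgroup G) : Set G) := hy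
  rw [hset] at hy'
  obtain ⟨n, hn, q, hq, rfl⟩ := hy'
  have hq' : q ∈ Q := hq
  have hn' : n ∈ N := hn
  have hpow : ∀ k : ℕ, ∃ n' ∈ N, (n * q) ^ k = n' * q ^ k := by
    intro k
    induction k with
    | zero => exact ⟨1, N.one_mem, by simp⟩
    | succ k ih =>
      obtain ⟨n', hn'', he⟩ := ih
      have hqk : q ^ k ∈ normalizer (N : Set G) := hQN (Q.pow_mem hq' k)
      refine ⟨n' * (q ^ k * n * (q ^ k)⁻¹), N.mul_mem hn'' ((Subgroup.mem_normalizer_iff.mp hqk n).mp hn'), ?_⟩
      rw [pow_succ, he, pow_succ]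
      group
  obtain ⟨n', hn'', he⟩ := hpow (orderOf (n * q))
  rw [pow_orderOf_eq_one] at he
  have h1 : q ^ orderOf (n * q) ∈ N := by
    have : q ^ orderOf (n * q) = n'⁻¹ := eq_inv_of_mul_eq_one_right he.symm
    rw [this]
    exact N.inv_mem hn''
  obtain ⟨k, hk⟩ := hQ ⟨q, hq'⟩
  have hk' : q ^ p ^ k = 1 := congrArg Subtype.val hk
  have h2 : q ∈ N := by
    refine mem_of_pow_coprime (a := orderOf (n * q)) (b := p ^ k) ?_ h1 (by rw [hk']; exact N.one_mem)
    exact Nat.Coprime.pow_right _ hyc
  exact N.mul_mem hn' h2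

theorem iterCommutator_eq_bot {F Q : Subgroup G} (hF : IsPGroup p F) (hQ : IsPGroup p Q)
    (hQF : Q ≤ normalizer (F : Set G)) : ∃ m : ℕ, iterCommutator F Q m = ⊥ := by
  have hS : IsPGroup p (F ⊔ Q : Subgroup G) := IsPGroup.to_sup_of_normal_left' hF hQ hQF
  set S : Subgroup G := F ⊔ Q with hSdef
  haveI : Group.IsNilpotent S := hS.isNilpotent
  obtain ⟨m, hm⟩ := (Subgroup.nilpotent_iff_lowerCentralSeries (G := S)).mp inferInstance
  refine ⟨m, ?_⟩
  have key : ∀ i, iterCommutator F Q i ≤ ((⊤ : Subgroup S).lowerCentralSeries i).map S.subtype := by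
    intro i
    induction i with
    | zero =>
      simp only [iterCommutator, Subgroup.lowerCentralSeries_zero]
      rw [← MonoidHom.range_eq_map, Subgroup.range_subtype]
      exact le_sup_left
    | succ i ih =>
      rw [Subgroup.lowerCentralSeries_succ]
      show ⁅iterCommutator F Q i, Q⁆ ≤ _
      rw [Subgroup.map_commutator]
      refine Subgroup.commutator_mono ih ?_
      rw [← MonoidHom.range_eq_map, Subgroup.range_subtype]
      exact le_sup_right
  have := key m
  rw [hm, Subgroup.map_bot] at this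
  exact le_bot_iff.mp this

end CfsgLib.Local
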