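import Cfsg.Agent.Lib.Local.Large2

/-! The overgroup lemma for weakly closed self-centralizing `p`-subgroups. -/

set_option autoImplicit false

namespace CfsgLib.Local

open Cfsg Subgroup CfsgLib.Fusion
open scoped Pointwise commutatorElement

variable {G : Type*} [Group G] [Finite G] {p : ℕ} [Fact p.Prime]

/-- A `p'`-element stabilizing a chain of `p`-subgroups centralizes its top. -/
theorem stab_chain_centralizes (c : ℕ → Subgroup G) (hcp : ∀ i, IsPGroup p (c i)) {M : ℕ} (hM : c M = ⊥) {y : G}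
    {n : ℕ} (hn : y ^ n = 1) (hcop : n.Coprime p) (hstab : ∀ i, ∀ a ∈ c i, ⁅a⁻¹, y⁆ ∈ c (i + 1)) :
    ∀ a ∈ c 0, y * a = a * y := by
  have key : ∀ m i, i + m = M → ∀ a ∈ c i, y * a = a * y := by
    intro m
    induction m with
    | zero =>
      intro i hi a ha
      rw [add_zero] at hi
      rw [hi, hM, mem_bot] at ha
      rw [ha]; simp
    | succ m ih =>
      intro i hi a ha
      have hnext := ih (i + 1) (by omega)
      set d := ⁅a⁻¹, y⁆ with hd
      have hcm : d ∈ c (i + 1) := hstab i a ha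
      have hyc : Commute y d := hnext d hcm
      have hq1 : y * a * y⁻¹ = a * d := by
        rw [hd, commutatorElement_def]; group
      obtain ⟨k, hk⟩ := hcp (i + 1) ⟨d, hcm⟩
      have hk' : d ^ p ^ k = 1 := congrArg Subtype.val hk
      have hd1 : d = 1 := eq_one_of_stab hq1 hyc hn hk' hcop
      rw [hd1, mul_one] at hq1
      rw [mul_inv_eq_iff_eq_mul] at hq1
      exact hq1
  exact key M 0 (by omega)

/-- The heart of `S2842`. -/
theorem overgroup_lemma {Q : Subgroup G} (hQp : IsPGroup p Q) (hwc : IsWeaklyClosedSubgroup p Q)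
    (hCQ : centralizer (Q : Set G) ≤ Q) (L : Subgroup G) (hQL : Q ≤ L)
    (hN : centralizer (pCore p ↥(centralizer ((pCoreOf p L : Subgroup G) : Set G)) :
        Set ↥(centralizer ((pCoreOf p L : Subgroup G) : Set G))) ≤
      pCore p ↥(centralizer ((pCoreOf p L : Subgroup G) : Set G))) :
    ⁅Q, centralizer ((pCoreOf p L : Subgroup G) : Set G)⁆ ≤ Q ⊓ pCoreOf p L ∧
    IsPGroup p (centralizer ((pCoreOf p L : Subgroup G) : Set G)) ∧
    centralizer (pCore p ↥L : Set ↥L) ≤ pCore p ↥L := by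
  classical
  set R := pCoreOf p L with hR
  set N := centralizer (R : Set G) with hNdef
  set F := pCoreOf p N with hF
  have hRp : IsPGroup p R := isPGroup_pCoreOf L
  have hFp : IsPGroup p F := isPGroup_pCoreOf N
  have hFN : F ≤ N := Subgroup.map_subtype_le _
  have hLR : L ≤ normalizer (R : Set G) := Subgroup.le_normalizer.trans (normalizer_le_normalizer_pCoreOf L)
  have hLN : L ≤ normalizer (N : Set G) := hLR.trans (normalizer_le_normalizer_centralizer R)
  have hNNF : normalizer (N : Set G) ≤ normalizer (F : Set G) := normalizer_le_normalizer_pCoreOf N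
  have hLF : L ≤ normalizer (F : Set G) := hLN.trans hNNF
  have hNF : N ≤ normalizer (F : Set G) := Subgroup.le_normalizer.trans hNNF
  have hQF := hQL.trans hLF
  have hFLR : F ⊓ L ≤ R := le_pCoreOf_of_normalized inf_le_right (hFp.to_le inf_le_left) (by
    intro l hl
    exact mem_normalizer_of_conj_mem fun y hy => ⟨(Subgroup.mem_normalizer_iff.mp (hLF hl) y).mp hy.1,
      L.mul_mem (L.mul_mem hl hy.2) (L.inv_mem hl)⟩)
  -- `F` normalizes `Q`
  have hFQ : F ≤ normalizer (Q : Set G) := by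
    have hS : IsPGroup p (F ⊔ Q : Subgroup G) := IsPGroup.to_sup_of_normal_left' hFp hQp hQF
    obtain ⟨T, hT⟩ := hS.exists_le_sylow
    exact le_sup_left.trans (hT.trans (sylow_le_normalizer_of_wc hwc T (le_sup_right.trans hT)))
  have hFQc : ⁅F, Q⁆ ≤ F ⊓ Q := commutator_le_of_normalizing hFQ hQF
  have hFQR : ⁅F, Q⁆ ≤ R := hFQc.trans (le_trans (inf_le_inf_left _ hQL) hFLR)
  -- the chain
  set c : ℕ → Subgroup G := iterCommutator F Q with hc
  have hc0 : c 0 = F := rfl
  have hcs : ∀ i, c (i + 1) = ⁅c i, Q⁆ := fun i => rfl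
  have hcF : ∀ i, c i ≤ F := by
    intro i
    induction i with
    | zero => exact le_rfl
    | succ i ih =>
      rw [hcs]
      exact (Subgroup.commutator_mono ih le_rfl).trans (hFQc.trans inf_le_left)
  have hcR : ∀ i, c (i + 1) ≤ R := by
    intro i
    rw [hcs]
    exact (Subgroup.commutator_mono (hcF i) le_rfl).trans hFQR
  have hcQ : ∀ i, Q ≤ normalizer ((c i : Subgroup G) : Set G) := by
    intro i
    induction i with
    | zero => exact hQF
    | succ i ih =>
      rw [hcs]
      exact CfsgLib.Solv.le_normalizer_commutator_right ih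
  have hcNn : ∀ i, N ≤ normalizer ((c i : Subgroup G) : Set G) := by
    intro i
    cases i with
    | zero => exact hNF
    | succ i =>
      intro n hn
      refine Subgroup.centralizer_le_normalizer _ ?_
      exact Subgroup.mem_centralizer_iff.mpr fun a ha => Subgroup.mem_centralizer_iff.mp hn a (hcR i ha)
  obtain ⟨M, hM⟩ := iterCommutator_eq_bot hFp hQp hQF
  set W : Subgroup G := ⨆ n : ↥N, cj (n : G) Q with hW
  have hcjN : ∀ i (n : ↥N), cj (n : G) Q ≤ normalizer ((c i : Subgroup G) : Set G) := by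
    rintro i n _ ⟨q, hq, rfl⟩
    exact mul_mem (mul_mem (hcNn i n.2) (hcQ i hq)) (inv_mem (hcNn i n.2))
  have hWc : ∀ i, W ≤ normalizer ((c i : Subgroup G) : Set G) := fun i => iSup_le (hcjN i)
  have hWcomm : ∀ i, ⁅W, c i⁆ ≤ c (i + 1) := by
    intro i
    refine commutator_iSup_le _ _ _ (hWc (i + 1)) ?_
    intro n
    rw [Subgroup.commutator_le]
    rintro _ ⟨q, hq, rfl⟩ x hx
    have hx' : (n : G)⁻¹ * x * ((n : G)⁻¹)⁻¹ ∈ c i :=
      (Subgroup.mem_normalizer_iff.mp (hcNn i (N.inv_mem n.2)) x).mp hx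
    rw [inv_inv] at hx'
    have h1 : ⁅q, (n : G)⁻¹ * x * n⁆ ∈ c (i + 1) := by
      rw [hcs, Subgroup.commutator_comm]
      exact Subgroup.commutator_mem_commutator hq hx'
    have h2 := (Subgroup.mem_normalizer_iff.mp (hcNn (i + 1) n.2) _).mp h1
    have e : (n : G) * ⁅q, (n : G)⁻¹ * x * n⁆ * (n : G)⁻¹ =
        ⁅(MulAut.conj (n : G)).toMonoidHom q, x⁆ := by
      simp only [commutatorElement_def, MulEquiv.coe_toMonoidHom, MulAut.conj_apply]
      group
    rw [← e]
    exact h2
  have hWB : W ≤ N ⊔ Q := by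
    refine iSup_le ?_
    rintro n _ ⟨q, hq, rfl⟩
    exact mul_mem (mul_mem (Subgroup.mem_sup_left n.2) (Subgroup.mem_sup_right hq))
      (inv_mem (Subgroup.mem_sup_left n.2))
  have hcp : ∀ i, IsPGroup p (c i) := fun i => hFp.to_le (hcF i)
  have hFrel := relative_of_charP N hN
  have hWp : IsPGroup p W := by
    refine isPGroup_of_forall_prime Fact.out ?_
    rintro q hq ⟨y, hy⟩ hyo
    rw [Subgroup.orderOf_mk] at hyo
    by_contra hne
    have hcop : (orderOf y).Coprime p := by
      rw [hyo]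
      exact (Nat.coprime_primes hq Fact.out).mpr hne
    have hcen := stab_chain_centralizes c hcp hM (pow_orderOf_eq_one y) hcop (by
      intro i a ha
      have := Subgroup.commutator_mem_commutator (inv_mem ha) hy
      rw [Subgroup.commutator_comm] at this
      exact hWcomm i this)
    have hyN : y ∈ N := mem_of_coprime_of_sup hQp (hQL.trans hLN) (hWB hy) hcop
    have hyF : y ∈ F := hFrel ⟨hyN, Subgroup.mem_centralizer_iff.mpr fun z hz => (hcen z hz).symm⟩
    obtain ⟨k, hk⟩ := hFp ⟨y, hyF⟩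
    have hk' : y ^ p ^ k = 1 := congrArg Subtype.val hk
    have hd : q ∣ p ^ k := by
      rw [← hyo]; exact orderOf_dvd_of_pow_eq_one hk'
    exact hne ((Nat.prime_dvd_prime_iff_eq hq Fact.out).mp (hq.dvd_of_dvd_pow hd))
  have hQW : Q ≤ W := by
    have := le_iSup (fun n : ↥N => cj (n : G) Q) (1 : ↥N)
    simpa [cj_one] using this
  have hNQ : N ≤ normalizer (Q : Set G) := by
    obtain ⟨T, hT⟩ := hWp.exists_le_sylow
    intro n hn
    rw [mem_normalizer_iff_cj]
    refine (wc_any_sylow hwc T (hQW.trans hT)).2 n ?_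
    exact (le_iSup (fun n : ↥N => cj (n : G) Q) ⟨n, hn⟩).trans hT
  -- (a)
  have hQN : ⁅Q, N⁆ ≤ Q ⊓ N := commutator_le_of_normalizing (hQL.trans hLN) hNQ
  have hQNF : Q ⊓ N ≤ F := le_pCoreOf_of_normalized inf_le_right (hQp.to_le inf_le_left) (by
    intro n hn
    exact mem_normalizer_of_conj_mem fun y hy => ⟨(Subgroup.mem_normalizer_iff.mp (hNQ hn) y).mp hy.1,
      N.mul_mem (N.mul_mem hn hy.2) (N.inv_mem hn)⟩)
  have hQNR : Q ⊓ N ≤ R := by
    intro x hx
    exact hFLR ⟨hQNF hx, hQL hx.1⟩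
  have ha : ⁅Q, N⁆ ≤ Q ⊓ R := le_inf (hQN.trans inf_le_left) (hQN.trans hQNR)
  -- (b)
  have hNp : IsPGroup p N := by
    refine isPGroup_of_forall_prime Fact.out ?_
    rintro q hq ⟨y, hy⟩ hyo
    rw [Subgroup.orderOf_mk] at hyo
    by_contra hne
    have hcop : (orderOf y).Coprime p := by
      rw [hyo]
      exact (Nat.coprime_primes hq Fact.out).mpr hne
    have hcen : ∀ a ∈ Q, y * a = a * y := by
      intro a ha'
      set d := ⁅a⁻¹, y⁆ with hd
      have hdm : d ∈ Q ⊓ R := ha (Subgroup.commutator_mem_commutator (inv_mem ha') hy)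
      have hyc : Commute y d := (Subgroup.mem_centralizer_iff.mp hy d hdm.2).symm
      have hq1 : y * a * y⁻¹ = a * d := by
        rw [hd, commutatorElement_def]; group
      obtain ⟨k, hk⟩ := hQp ⟨d, hdm.1⟩
      have hk' : d ^ p ^ k = 1 := congrArg Subtype.val hk
      have hd1 : d = 1 := eq_one_of_stab hq1 hyc (pow_orderOf_eq_one y) hk' hcop
      rw [hd1, mul_one] at hq1
      rw [mul_inv_eq_iff_eq_mul] at hq1
      exact hq1
    have hyQ : y ∈ Q := hCQ (Subgroup.mem_centralizer_iff.mpr fun z hz => (hcen z hz).symm)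
    obtain ⟨k, hk⟩ := hQp ⟨y, hyQ⟩
    have hk' : y ^ p ^ k = 1 := congrArg Subtype.val hk
    have hd : q ∣ p ^ k := by
      rw [← hyo]; exact orderOf_dvd_of_pow_eq_one hk'
    exact hne ((Nat.prime_dvd_prime_iff_eq hq Fact.out).mp (hq.dvd_of_dvd_pow hd))
  refine ⟨ha, hNp, charP_of_relative L ?_⟩
  refine le_pCoreOf_of_normalized inf_le_left (hNp.to_le inf_le_right) ?_
  intro l hl
  exact mem_normalizer_of_conj_mem fun y hy => ⟨L.mul_mem (L.mul_mem hl hy.1) (L.inv_mem hl),
    (Subgroup.mem_normalizer_iff.mp (hLN hl) y).mp hy.2⟩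

/-- `S2842` in a group of characteristic `p`. -/
theorem overgroup_of_charP {Q : Subgroup G} (hQp : IsPGroup p Q) (hwc : IsWeaklyClosedSubgroup p Q)
    (hCQ : centralizer (Q : Set G) ≤ Q) (L : Subgroup G) (hQL : Q ≤ L)
    (hG : centralizer (pCore p G : Set G) ≤ pCore p G) :
    ⁅Q, centralizer ((pCoreOf p L : Subgroup G) : Set G)⁆ ≤ Q ⊓ pCoreOf p L ∧
    IsPGroup p (centralizer ((pCoreOf p L : Subgroup G) : Set G)) ∧
    centralizer (pCore p ↥L : Set ↥L) ≤ pCore p ↥L :=
  overgroup_lemma hQp hwc hCQ L hQL (charP_centralizer hG _ (isPGroup_pCoreOf L))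

/-- `S2842`, second case. -/
theorem overgroup_of_element {Q : Subgroup G} (hQp : IsPGroup p Q) (hwc : IsWeaklyClosedSubgroup p Q)
    (hCQ : centralizer (Q : Set G) ≤ Q) (L : Subgroup G) (hQL : Q ≤ L) {y : G}
    (hy : y ∈ pCoreOf p L ⊓ centralizer (Q : Set G))
    (hX : centralizer (pCore p ↥(centralizer ({y} : Set G)) : Set ↥(centralizer ({y} : Set G))) ≤
      pCore p ↥(centralizer ({y} : Set G))) :
    ⁅Q, centralizer ((pCoreOf p L : Subgroup G) : Set G)⁆ ≤ Q ⊓ pCoreOf p L ∧
    IsPGroup p (centralizer ((pCoreOf p L : Subgroup G) : Set G)) ∧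
    centralizer (pCore p ↥L : Set ↥L) ≤ pCore p ↥L := by
  refine overgroup_lemma hQp hwc hCQ L hQL ?_
  set R := pCoreOf p L with hR
  set N := centralizer (R : Set G) with hNdef
  set X := centralizer ({y} : Set G) with hXdef
  have hNX : N ≤ X := by
    intro n hn
    rw [hXdef, Subgroup.mem_centralizer_singleton_iff]
    exact (Subgroup.mem_centralizer_iff.mp hn y hy.1).symm
  have hQX : Q ≤ X := by
    intro q hq
    rw [hXdef, Subgroup.mem_centralizer_singleton_iff]
    exact Subgroup.mem_centralizer_iff.mp hy.2 q hq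
  have hLN : L ≤ normalizer (N : Set G) :=
    (Subgroup.le_normalizer.trans (normalizer_le_normalizer_pCoreOf L)).trans (normalizer_le_normalizer_centralizer R)
  have hQN := hQL.trans hLN
  set B : Subgroup G := N ⊔ Q with hB
  have hBX : B ≤ X := sup_le hNX hQX
  -- pass to `X`
  have hQXp : IsPGroup p (Q.subgroupOf X) := hQp.comap_subtype
  obtain ⟨hwcX, -⟩ := wc_package hQp hwc X hQX (⊥ : Subgroup G)
  have hCQX : centralizer ((Q.subgroupOf X : Subgroup ↥X) : Set ↥X) ≤ Q.subgroupOf X := by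
    intro z hz
    rw [Subgroup.mem_subgroupOf]
    refine hCQ (Subgroup.mem_centralizer_iff.mpr fun q hq => ?_)
    exact congrArg Subtype.val (Subgroup.mem_centralizer_iff.mp hz ⟨q, hQX hq⟩ (Subgroup.mem_subgroupOf.mpr hq))
  have hQB : Q.subgroupOf X ≤ B.subgroupOf X := by
    intro z hz
    rw [Subgroup.mem_subgroupOf] at hz ⊢
    exact Subgroup.mem_sup_right hz
  obtain ⟨-, -, hBchar⟩ := overgroup_of_charP hQXp hwcX hCQX (B.subgroupOf X) hQB hX
  have hBchar' : centralizer (pCore p ↥B : Set ↥B) ≤ pCore p ↥B :=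
    charP_equiv (Subgroup.subgroupOfEquivOfLe hBX) hBchar
  -- `N` is normal in `B`
  have hNB : N ≤ B := le_sup_left
  have hNn : (N.subgroupOf B).Normal := by
    rw [Subgroup.normal_subgroupOf_iff_le_normalizer hNB]
    exact sup_le Subgroup.le_normalizer hQN
  have h1 := charP_of_normalized hBchar' (N.subgroupOf B) (by
    rw [Subgroup.normalizer_eq_top_iff.mpr hNn]; exact le_top)
  exact charP_equiv (Subgroup.subgroupOfEquivOfLe hNB) h1

end CfsgLib.Local
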