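import Cfsg.Agent.Lib.Local.Large3

/-! Overgroups of large subgroups have characteristic `p`. -/

set_option autoImplicit false

namespace CfsgLib.Local

open Cfsg Subgroup CfsgLib.Fusion
open scoped Pointwise commutatorElement

variable {G : Type*} [Group G] [Finite G] {p : ℕ} [Fact p.Prime]

theorem large_char_of_overgroup {Q : Subgroup G} (hQp : IsPGroup p Q) (hQ1 : Q ≠ ⊥) (hL : IsLarge Q)
    (L : Subgroup G) (hQL : Q ≤ L) (hO : pCore p ↥L ≠ ⊥) :
    IsPGroup p (centralizer ((pCoreOf p L : Subgroup G) : Set G)) ∧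
    centralizer (pCore p ↥L : Set ↥L) ≤ pCore p ↥L := by
  set R := pCoreOf p L with hR
  have hRp : IsPGroup p R := isPGroup_pCoreOf L
  have hR1 : R ≠ ⊥ := by
    intro h
    apply hO
    rw [hR, pCoreOf, Subgroup.map_eq_bot_iff_of_injective _ (Subgroup.subtype_injective _)] at h
    exact h
  have hLR : L ≤ normalizer (R : Set G) := Subgroup.le_normalizer.trans (normalizer_le_normalizer_pCoreOf L)
  have hQR := hQL.trans hLR
  have hS : IsPGroup p (Q ⊔ R : Subgroup G) := IsPGroup.to_sup_of_normal_right' hQp hRp hQR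
  obtain ⟨x, hxR, hxo, hxc⟩ := exists_order_p_central_of_normal hS (le_sup_right : R ≤ Q ⊔ R)
    (sup_le hQR Subgroup.le_normalizer) hR1
  have hx1 : Subgroup.zpowers x ≠ ⊥ := by
    intro h
    rw [Subgroup.zpowers_eq_bot] at h
    rw [h, orderOf_one] at hxo
    exact (Fact.out : p.Prime).one_lt.ne hxo
  have hxQ : x ∈ centralizer (Q : Set G) := Subgroup.mem_centralizer_iff.mpr fun q hq =>
    Subgroup.mem_centralizer_singleton_iff.mp (hxc (Subgroup.mem_sup_left hq))
  have hQX : Q ≤ centralizer ({x} : Set G) := le_sup_left.trans hxc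
  have hXQ : centralizer ({x} : Set G) ≤ normalizer (Q : Set G) := by
    refine le_trans ?_ (hL.2 (Subgroup.zpowers x) (by rw [Subgroup.zpowers_le]; exact hxQ) hx1)
    intro c hc
    refine mem_normalizer_of_conj_mem fun u hu => ?_
    obtain ⟨k, rfl⟩ := Subgroup.mem_zpowers_iff.mp hu
    have : c * x * c⁻¹ = x := by
      have := Subgroup.mem_centralizer_singleton_iff.mp hc
      rw [this, mul_inv_cancel_right]
    rw [← MulAut.conj_apply, map_zpow, MulAut.conj_apply, this]
    exact hu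
  set X := centralizer ({x} : Set G) with hX
  have hXchar : centralizer (pCore p ↥X : Set ↥X) ≤ pCore p ↥X := by
    have hn : (Q.subgroupOf X).Normal := (Subgroup.normal_subgroupOf_iff_le_normalizer hQX).mpr hXQ
    have hQO : Q.subgroupOf X ≤ pCore p ↥X :=
      CfsgLib.PLocal.le_pCore_of_normal _ hn (hQp.comap_subtype : IsPGroup p (Q.subgroupOf X))
    intro z hz
    refine hQO (Subgroup.mem_subgroupOf.mpr (hL.1 ?_))
    refine Subgroup.mem_centralizer_iff.mpr fun q hq => ?_
    exact congrArg Subtype.val (Subgroup.mem_centralizer_iff.mp hz ⟨q, hQX hq⟩ (hQO (Subgroup.mem_subgroupOf.mpr hq)))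
  obtain ⟨-, h2, h3⟩ := overgroup_of_element hQp (wc_of_large hQp hQ1 hL) hL.1 L hQL ⟨hxR, hxQ⟩ hXchar
  exact ⟨h2, h3⟩

theorem le_weakClosure {Q L : Subgroup G} {g : G} (hg : cj g Q ≤ L) : cj g Q ≤ weakClosure Q L :=
  le_iSup (fun g : {g : G // Q.map (MulAut.conj g).toMonoidHom ≤ L} =>
        Q.map (MulAut.conj (g : G)).toMonoidHom) ⟨g, hg⟩

theorem large_weakClosure {Q : Subgroup G} (hQp : IsPGroup p Q) (hQ1 : Q ≠ ⊥) (hL : IsLarge Q)
    (L : Subgroup G) (hQL : Q ≤ L) :
    weakClosure Q L = Q ∨ centralizer ((weakClosure Q L : Subgroup G) : Set G) = ⊥ := by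
  by_cases hU : centralizer ((weakClosure Q L : Subgroup G) : Set G) = ⊥
  · exact Or.inr hU
  left
  set W := weakClosure Q L with hW
  have hwc := wc_of_large hQp hQ1 hL
  have hQW : Q ≤ W := by
    have := le_weakClosure (Q := Q) (L := L) (g := 1) (by rw [cj_one]; exact hQL)
    rwa [cj_one] at this
  set U := centralizer ((W : Subgroup G) : Set G) with hUdef
  have hWU : W ≤ normalizer (U : Set G) := by
    intro w hw
    refine Subgroup.centralizer_le_normalizer _ ?_
    exact Subgroup.mem_centralizer_iff.mpr fun u hu => (Subgroup.mem_centralizer_iff.mp hu w hw).symm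
  have hnorm : ∀ g : G, cj g Q ≤ L → W ≤ normalizer ((cj g Q : Subgroup G) : Set G) := by
    intro g hg
    have hUc : U ≤ centralizer ((cj g Q : Subgroup G) : Set G) := by
      intro u hu
      exact Subgroup.mem_centralizer_iff.mpr fun a ha =>
        Subgroup.mem_centralizer_iff.mp hu a (le_weakClosure hg ha)
    exact hWU.trans ((isLarge_cj hL g).2 U hUc hU)
  apply le_antisymm _ hQW
  refine iSup_le ?_
  rintro ⟨g, hg⟩
  show cj g Q ≤ Q
  have hAQ : cj g Q ≤ normalizer (Q : Set G) := by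
    have := hnorm 1 (by rw [cj_one]; exact hQL)
    rw [cj_one] at this
    exact (le_weakClosure hg).trans this
  have hS : IsPGroup p (Q ⊔ cj g Q : Subgroup G) := IsPGroup.to_sup_of_normal_left' hQp (isPGroup_cj hQp) hAQ
  obtain ⟨T, hT⟩ := hS.exists_le_sylow
  have := (wc_any_sylow hwc T (le_sup_left.trans hT)).2 g (le_sup_right.trans hT)
  exact this.le

/-- Conjugates of a `p`-subgroup into any parabolic. -/
theorem exists_cj_le_parabolic {Q L : Subgroup G} (hQp : IsPGroup p Q) (hL : IsParabolic p L) : ∃ g : G, cj g Q ≤ L := by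
  obtain ⟨T, hTL⟩ := hL
  obtain ⟨g, hg⟩ := exists_conj_le_sylow T hQp
  exact ⟨g, hg.trans hTL⟩

theorem large_parabolic {Q : Subgroup G} (hQp : IsPGroup p Q) (hQ1 : Q ≠ ⊥) (hL : IsLarge Q)
    (R : Subgroup G) (hR : IsParabolic p R) (hO : pCore p ↥R ≠ ⊥) :
    centralizer ((pCoreOf p R : Subgroup G) : Set G) ≤ pCoreOf p R ∧
    centralizer (pCore p ↥R : Set ↥R) ≤ pCore p ↥R := by
  obtain ⟨g, hg⟩ := exists_cj_le_parabolic hQp hR
  have hQ'1 : cj g Q ≠ ⊥ := by
    intro h
    apply hQ1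
    have := congrArg (cj g⁻¹) h
    rw [cj_inv_cj] at this
    rw [this]
    ext x
    simp
  obtain ⟨h1, h2⟩ := large_char_of_overgroup (isPGroup_cj hQp) hQ'1 (isLarge_cj hL g) R hg hO
  refine ⟨?_, h2⟩
  -- `C(O_p R)` is a `p`-group normalized by a Sylow subgroup
  obtain ⟨T, hTR⟩ := hR
  set D := centralizer ((pCoreOf p R : Subgroup G) : Set G) with hD
  have hRD : R ≤ normalizer (D : Set G) :=
    (Subgroup.le_normalizer.trans (normalizer_le_normalizer_pCoreOf R)).trans (normalizer_le_normalizer_centralizer _)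
  have hTD : ((T : Subgroup G) ⊔ D : Subgroup G) = (T : Subgroup G) := by
    have hS : IsPGroup p ((T : Subgroup G) ⊔ D : Subgroup G) :=
      IsPGroup.to_sup_of_normal_right' T.2 h1 (hTR.trans hRD)
    exact (T.is_maximal' hS le_sup_left)
  have hDT : D ≤ T := by
    rw [← hTD]
    exact le_sup_right
  have hDR : D ≤ R := hDT.trans hTR
  intro x hx
  exact relative_of_charP R h2 ⟨hDR hx, hx⟩

/-- `S2845`. -/
theorem large_package2 {Q : Subgroup G} (hQp : IsPGroup p Q) (hQ1 : Q ≠ ⊥) (hL : IsLarge Q) :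
    (∀ L : Subgroup G, Q ≤ L → pCore p ↥L ≠ ⊥ →
      IsPGroup p (centralizer ((pCoreOf p L : Subgroup G) : Set G)) ∧
      centralizer (pCore p ↥L : Set ↥L) ≤ pCore p ↥L ∧
      (weakClosure Q L = Q ∨ centralizer ((weakClosure Q L : Subgroup G) : Set G) = ⊥)) ∧
    (∀ R : Subgroup G, IsParabolic p R → pCore p ↥R ≠ ⊥ →
      centralizer ((pCoreOf p R : Subgroup G) : Set G) ≤ pCoreOf p R) ∧
    IsOfParabolicCharacteristic p G := by
  refine ⟨fun L hQL hO => ?_, fun R hR hO => (large_parabolic hQp hQ1 hL R hR hO).1, ?_⟩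
  · obtain ⟨h1, h2⟩ := large_char_of_overgroup hQp hQ1 hL L hQL hO
    exact ⟨h1, h2, large_weakClosure hQp hQ1 hL L hQL⟩
  · intro R hRp hR1 hpar
    refine (large_parabolic hQp hQ1 hL _ hpar ?_).2
    intro hbot
    apply hR1
    have : R ≤ pCoreOf p (normalizer (R : Set G)) :=
      le_pCoreOf_of_normalized Subgroup.le_normalizer hRp le_rfl
    rw [pCoreOf, hbot, Subgroup.map_bot] at this
    exact le_bot_iff.mp this

end CfsgLib.Local
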