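import Cfsg.Agent.Lib.Local.Large4
import Cfsg.Agent.Lib.Local.FratStab
import Cfsg.Agent.Lib.Local.DStar
import Cfsg.Agent.Lib.SS.Misc
import Cfsg.Agent.Lib.Solv.Act
import Cfsg.Agent.Lib.Local.CoprimeGen
import Cfsg.Agent.Lib.H3.Comp2

/-! Membership in `O_p(L)` via action on `A/Φ(A)`; the overgroups of members of `𝔐`. -/

set_option autoImplicit false

namespace CfsgLib.Local

open Cfsg Subgroup CfsgLib.Fusion
open scoped Pointwise commutatorElement

variable {G : Type*} [Group G] [Finite G] {p : ℕ} [Fact p.Prime]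

/-- If all `p'`-elements of `B` are central modulo a normal `p`-subgroup `O`, then the Sylow `p`-subgroups of `B` are normal. -/
theorem sylow_normal_of_central_mod {B : Type*} [Group B] [Finite B] (O : Subgroup B) (hO : O.Normal)
    (hOp : IsPGroup p O)
    (h : ∀ v : B, (orderOf v).Coprime p → ∀ d : B, ⁅d, v⁆ ∈ O) (T : Sylow p B) : (T : Subgroup B).Normal := by
  have hOT : O ≤ T := CfsgLib.PLocal.normal_le_sylow hO hOp T
  rw [← Subgroup.normalizer_eq_top_iff, eq_top_iff, ← sylow_sup_residual T]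
  refine sup_le Subgroup.le_normalizer ?_
  refine (Subgroup.closure_le _).mpr ?_
  intro v hv
  refine mem_normalizer_of_conj_mem fun t ht => ?_
  have h1 : ⁅t, v⁆⁻¹ ∈ (T : Subgroup B) := inv_mem (hOT (h v hv t))
  have e : v * t * v⁻¹ = ⁅t, v⁆⁻¹ * t := by
    rw [commutatorElement_def]; group
  rw [e]
  exact mul_mem h1 ht

/-- The `p`-elements of a normal subgroup which is central-by-`p` modulo `O_p` lie in `O_p`. -/
theorem le_pCore_of_central_mod {Γ : Type*} [Group Γ] [Finite Γ] (D : Subgroup Γ) (hD : D.Normal)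
    (hO : pCore p Γ ≤ D)
    (h : ∀ v ∈ D, (orderOf v).Coprime p → ∀ d ∈ D, ⁅d, v⁆ ∈ pCore p Γ) (Y : Subgroup Γ) (hYD : Y ≤ D)
    (hY : IsPGroup p Y) : Y ≤ pCore p Γ := by
  haveI := hD
  have hOn : (pCore p Γ).Normal := CfsgLib.PLocal.pCore_normal'
  have hOp : IsPGroup p (pCore p Γ) := CfsgLib.PLocal.pCore_isPGroup
  have hY' : IsPGroup p (Y.subgroupOf D) := hY.comap_subtype
  obtain ⟨T, hT⟩ := hY'.exists_le_sylow
  have hTn : (T : Subgroup ↥D).Normal := by
    refine sylow_normal_of_central_mod (p := p) ((pCore p Γ).subgroupOf D) (hOn.subgroupOf D) hOp.comap_subtype ?_ T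
    intro v hv d
    rw [Subgroup.mem_subgroupOf]
    have hv' : (orderOf (v : Γ)).Coprime p := by
      rw [Subgroup.orderOf_coe]; exact hv
    exact h v v.2 hv' d d.2
  haveI : (T : Subgroup ↥D).Characteristic := Sylow.characteristic_of_normal T hTn
  have h1 : ((T : Subgroup ↥D).map D.subtype).Normal := CfsgLib.Comp.char_map_normal_of_normal hD _
  have h2 : IsPGroup p ((T : Subgroup ↥D).map D.subtype) := T.2.map _
  have h3 := CfsgLib.PLocal.le_pCore_of_normal _ h1 h2
  intro y hy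
  exact h3 ⟨⟨y, hYD hy⟩, hT (Subgroup.mem_subgroupOf.mpr hy), rfl⟩

theorem le_normalizer_iSup_cj (L Y : Subgroup G) :
    L ≤ normalizer (((⨆ l : ↥L, cj (l : G) Y : Subgroup G)) : Set G) := by
  intro l hl
  refine mem_normalizer_of_conj_mem fun y hy => ?_
  have hle : (⨆ l : ↥L, cj (l : G) Y : Subgroup G) ≤ cj l⁻¹ (⨆ l : ↥L, cj (l : G) Y) := by
    refine iSup_le fun k => ?_
    intro y hy
    rw [mem_cj, inv_inv]
    have h : l * y * l⁻¹ ∈ cj (l * k) Y := by
      rw [cj_mul]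
      exact conj_mem_cj hy
    have hk : cj (l * k) Y ≤ (⨆ l : ↥L, cj (l : G) Y : Subgroup G) :=
      le_iSup (fun l : ↥L => cj (l : G) Y) (⟨l * k, L.mul_mem hl k.2⟩ : ↥L)
    exact hk h
  have := hle hy
  rw [mem_cj, inv_inv] at this
  exact this

/-- A `p`-subgroup `Y` of `L` acting trivially on `A/Φ(A)` for a normal `p`-subgroup `A` of `L`, and
trivially on `C_L(A)` modulo `O_p(L)`, lies in `O_p(L)`. -/
theorem le_pCoreOf_of_action {L A Y : Subgroup G} (hA : IsPGroup p A) (hLA : L ≤ normalizer (A : Set G))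
    (hYL : Y ≤ L) (hYp : IsPGroup p Y) (h1 : ⁅Y, A⁆ ≤ (frattini ↥A).map A.subtype)
    (h2 : ⁅Y, L ⊓ centralizer (A : Set G)⁆ ≤ pCoreOf p L) : Y ≤ pCoreOf p L := by
  classical
  set O := pCoreOf p L with hO
  set Φ : Subgroup G := (frattini ↥A).map A.subtype with hΦ
  set C₀ : Subgroup G := L ⊓ centralizer (A : Set G) with hC₀
  have hOp : IsPGroup p O := isPGroup_pCoreOf L
  have hOL : O ≤ L := Subgroup.map_subtype_le _
  have hLO : L ≤ normalizer (O : Set G) := Subgroup.le_normalizer.trans (normalizer_le_normalizer_pCoreOf L)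
  have hLΦ : L ≤ normalizer (Φ : Set G) := fun l hl => frattini_normalized A (hLA hl)
  have hLC₀ : L ≤ normalizer (C₀ : Set G) := by
    intro l hl
    refine mem_normalizer_of_conj_mem fun y hy => ⟨L.mul_mem (L.mul_mem hl hy.1) (L.inv_mem hl), ?_⟩
    exact (Subgroup.mem_normalizer_iff.mp (normalizer_le_normalizer_centralizer A (hLA hl)) y).mp hy.2
  set D : Subgroup G := ⨆ l : ↥L, cj (l : G) Y with hD
  have hcjL : ∀ l : ↥L, cj (l : G) Y ≤ L := by
    rintro l _ ⟨y, hy, rfl⟩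
    exact L.mul_mem (L.mul_mem l.2 (hYL hy)) (L.inv_mem l.2)
  have hDL : D ≤ L := iSup_le hcjL
  have hYD : Y ≤ D := by
    have := le_iSup (fun l : ↥L => cj (l : G) Y) (1 : ↥L)
    simpa [cj_one] using this
  have hLD : L ≤ normalizer (D : Set G) := le_normalizer_iSup_cj L Y
  have hcomm : ∀ B K : Subgroup G, L ≤ normalizer (B : Set G) → L ≤ normalizer (K : Set G) → ⁅Y, B⁆ ≤ K →
      ⁅D, B⁆ ≤ K := by
    intro B K hB hK hYB
    refine commutator_iSup_le _ B K (hDL.trans hK) ?_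
    intro l
    rw [Subgroup.commutator_le]
    rintro _ ⟨y, hy, rfl⟩ b hb
    have hb' : (l : G)⁻¹ * b * ((l : G)⁻¹)⁻¹ ∈ B :=
      (Subgroup.mem_normalizer_iff.mp (hB (L.inv_mem l.2)) b).mp hb
    rw [inv_inv] at hb'
    have h3 : ⁅y, (l : G)⁻¹ * b * l⁆ ∈ K := hYB (Subgroup.commutator_mem_commutator hy hb')
    have h4 := (Subgroup.mem_normalizer_iff.mp (hK l.2) _).mp h3
    have e : (l : G) * ⁅y, (l : G)⁻¹ * b * l⁆ * (l : G)⁻¹ = ⁅(MulAut.conj (l : G)).toMonoidHom y, b⁆ := by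
      simp only [commutatorElement_def, MulEquiv.coe_toMonoidHom, MulAut.conj_apply]
      group
    rw [← e]
    exact h4
  have hDA : ⁅D, A⁆ ≤ Φ := hcomm A Φ hLA hLΦ h1
  have hDC : ⁅D, C₀⁆ ≤ O := hcomm C₀ O hLC₀ hLO h2
  set D₁ : Subgroup G := D ⊔ O with hD₁
  have hD₁L : D₁ ≤ L := sup_le hDL hOL
  have hD₁C : ⁅D₁, C₀⁆ ≤ O := by
    rw [Subgroup.commutator_comm]
    refine CfsgLib.Local.commutator_sup_right_le hLO hDL hOL ?_ ?_
    · rw [Subgroup.commutator_comm]; exact hDC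
    · rw [Subgroup.commutator_comm]
      exact CfsgLib.Solv.commutator_le_of_normalizes (inf_le_left.trans hLO)
  have hLD₁ : L ≤ normalizer (D₁ : Set G) := by
    intro l hl
    exact le_normalizer_sup_of hLD hLO hl
  have hn : (D₁.subgroupOf L).Normal := (Subgroup.normal_subgroupOf_iff_le_normalizer hD₁L).mpr hLD₁
  have key := le_pCore_of_central_mod (p := p) (D₁.subgroupOf L) hn ?_ ?_ (Y.subgroupOf L) ?_ hYp.comap_subtype
  · intro y hy
    exact ⟨⟨y, hYL hy⟩, key (Subgroup.mem_subgroupOf.mpr hy), rfl⟩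
  · intro x hx
    rw [Subgroup.mem_subgroupOf]
    exact Subgroup.mem_sup_right ⟨x, hx, rfl⟩
  · intro v hv hvc d hd
    rw [Subgroup.mem_subgroupOf] at hv hd
    have hvc' : (orderOf (v : G)).Coprime p := by
      rw [Subgroup.orderOf_coe]; exact hvc
    have hvD : (v : G) ∈ D := mem_of_coprime_of_sup hOp (hOL.trans hLD) hv hvc'
    have hvA : Subgroup.zpowers (v : G) ≤ centralizer (A : Set G) := by
      refine CfsgLib.Solv.frattini_coprime_trivial _ A ?_ ?_ ?_
      · rw [Subgroup.zpowers_le]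
        exact hLA (hDL hvD)
      · rw [Nat.card_zpowers]
        obtain ⟨k, hk⟩ := IsPGroup.iff_card.mp (IsPGroup.to_subgroup hA (frattini ↥A))
        rw [hk]
        exact Nat.Coprime.pow_right _ hvc'
      · intro a ha k hk
        have haD : a ∈ D := (Subgroup.zpowers_le.mpr hvD) ha
        have := hDA (Subgroup.commutator_mem_commutator haD hk)
        rw [commutatorElement_def] at this
        exact this
    have hvC : (v : G) ∈ C₀ := ⟨v.2, hvA (Subgroup.mem_zpowers _)⟩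
    have h5 : ⁅(d : G), (v : G)⁆ ∈ O := hD₁C (Subgroup.commutator_mem_commutator hd hvC)
    obtain ⟨w, hw, hwe⟩ := h5
    have : w = ⁅d, v⁆ := Subtype.ext hwe
    rwa [← this]
  · intro y hy
    rw [Subgroup.mem_subgroupOf] at hy ⊢
    exact Subgroup.mem_sup_left (hYD hy)

/-- Overgroups of `M ∈ 𝔐` of characteristic `p` lie in `M†`. -/
theorem le_dagger {M : Subgroup G} (hM : IsInFrakM p M) (X : Subgroup G) (hMX : M ≤ X) (hX : X ∈ charPSubgroups p G) :
    X ≤ M ⊔ centralizer (largestPReducedOf p M : Set G) := by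
  obtain ⟨X', hXX', hmax⟩ := Set.Finite.exists_le_maximal (s := charPSubgroups p G) (Set.toFinite _) hX
  have hX' : X' ∈ maxCharPSubgroups p G :=
    ⟨hmax.prop, fun L hL hle => le_antisymm (hmax.le_of_ge hL hle) hle⟩
  have := hM.2.2.1 X' hX' (hMX.trans hXX')
  rw [← this]
  exact hXX'

/-- A parabolic with nontrivial `O_p` lies in `𝓛`, when there is a large subgroup. -/
theorem mem_charP_of_parabolic {Q : Subgroup G} (hQp : IsPGroup p Q) (hQ1 : Q ≠ ⊥) (hL : IsLarge Q)
    {R : Subgroup G} (hR : IsParabolic p R) (hO : pCore p ↥R ≠ ⊥) : R ∈ charPSubgroups p G :=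
  ⟨hO, (large_parabolic hQp hQ1 hL R hR hO).1⟩

theorem pCore_ne_bot_of_le {I X : Subgroup G} (hI : IsPGroup p I) (hI1 : I ≠ ⊥) (hIX : I ≤ X)
    (hXI : X ≤ normalizer (I : Set G)) : pCore p ↥X ≠ ⊥ := by
  intro hbot
  apply hI1
  have : I ≤ pCoreOf p X := le_pCoreOf_of_normalized hIX hI hXI
  rw [pCoreOf, hbot, Subgroup.map_bot] at this
  exact le_bot_iff.mp this

/-- The normalizer of a nontrivial `p`-subgroup normalized by `M ∈ 𝔐` lies in `M†`. -/
theorem normalizer_le_dagger {Q M I : Subgroup G} (hQp : IsPGroup p Q) (hQ1 : Q ≠ ⊥) (hL : IsLarge Q)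
    (hM : IsInFrakM p M) (hMp : IsParabolic p M) (hI : IsPGroup p I) (hI1 : I ≠ ⊥)
    (hMI : M ≤ normalizer (I : Set G)) : normalizer (I : Set G) ≤ M ⊔ centralizer (largestPReducedOf p M : Set G) := by
  refine le_dagger hM _ hMI (mem_charP_of_parabolic hQp hQ1 hL ?_ ?_)
  · obtain ⟨T, hT⟩ := hMp
    exact ⟨T, hT.trans hMI⟩
  · exact pCore_ne_bot_of_le hI hI1 Subgroup.le_normalizer le_rfl

/-- `S2864`. -/
theorem le_pCoreOf_of_frakM {Q M I Y L A : Subgroup G} (hQp : IsPGroup p Q) (hQ1 : Q ≠ ⊥) (hQ : IsLarge Q)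
    (hM : IsInFrakM p M) (hMp : IsParabolic p M) (hI1 : I ≠ ⊥) (hIp : IsPGroup p I)
    (hIM : M ≤ normalizer (I : Set G))
    (hY : Y ≤ pCoreOf p (M ⊔ centralizer (largestPReducedOf p M : Set G))) (hYL : Y ≤ L) (hAp : IsPGroup p A)
    (hAL : L ≤ normalizer (A : Set G)) (hIA : I ≤ A) (hc : ⁅Y, A⁆ ≤ ⁅I, A⁆) : Y ≤ pCoreOf p L := by
  set Md : Subgroup G := M ⊔ centralizer (largestPReducedOf p M : Set G) with hMd
  set P : Subgroup G := pCoreOf p Md with hP
  have hPp : IsPGroup p P := isPGroup_pCoreOf Md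
  have hYp : IsPGroup p Y := hPp.to_le hY
  refine le_pCoreOf_of_action hAp hAL hYL hYp ?_ ?_
  · refine hc.trans ((Subgroup.commutator_mono hIA le_rfl).trans ?_)
    rw [← Subgroup.map_subtype_commutator]
    haveI : Group.IsNilpotent A := hAp.isNilpotent
    exact Subgroup.map_mono CfsgLib.SS.commutator_le_frattini_of_nilpotent
  · set C₀ : Subgroup G := L ⊓ centralizer (A : Set G) with hC₀
    have hC₀N : C₀ ≤ Md := by
      intro c hc
      refine normalizer_le_dagger hQp hQ1 hQ hM hMp hIp hI1 hIM ?_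
      refine Subgroup.centralizer_le_normalizer _ ?_
      exact Subgroup.mem_centralizer_iff.mpr fun i hi => Subgroup.mem_centralizer_iff.mp hc.2 i (hIA hi)
    have hMdP : Md ≤ normalizer (P : Set G) := Subgroup.le_normalizer.trans (normalizer_le_normalizer_pCoreOf Md)
    have hLC₀ : L ≤ normalizer (C₀ : Set G) := by
      intro l hl
      refine mem_normalizer_of_conj_mem fun y hy => ⟨L.mul_mem (L.mul_mem hl hy.1) (L.inv_mem hl), ?_⟩
      exact (Subgroup.mem_normalizer_iff.mp (normalizer_le_normalizer_centralizer A (hAL hl)) y).mp hy.2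
    have h1 : ⁅Y, C₀⁆ ≤ P :=
      (Subgroup.commutator_mono hY le_rfl).trans (CfsgLib.Solv.commutator_le_of_normalizes (hC₀N.trans hMdP))
    have h2 : ⁅Y, C₀⁆ ≤ C₀ := by
      rw [Subgroup.commutator_comm]
      exact CfsgLib.Solv.commutator_le_of_normalizes (hYL.trans hLC₀)
    have h3 : C₀ ⊓ P ≤ pCoreOf p C₀ := by
      refine le_pCoreOf_of_normalized inf_le_left (hPp.to_le inf_le_right) ?_
      intro c hc
      refine mem_normalizer_of_conj_mem fun y hy => ⟨C₀.mul_mem (C₀.mul_mem hc hy.1) (C₀.inv_mem hc), ?_⟩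
      exact (Subgroup.mem_normalizer_iff.mp (hMdP (hC₀N hc)) y).mp hy.2
    have h4 : pCoreOf p C₀ ≤ pCoreOf p L := by
      have hle : pCoreOf p C₀ ≤ C₀ := Subgroup.map_subtype_le _
      refine le_pCoreOf_of_normalized (hle.trans inf_le_left) (isPGroup_pCoreOf C₀) ?_
      exact hLC₀.trans (normalizer_le_normalizer_pCoreOf C₀)
    exact (le_inf h2 h1).trans (h3.trans h4)

end CfsgLib.Local
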