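import Cfsg.Agent.Lib.Local.Large2
import Cfsg.Agent.Lib.H3.CT1
import Cfsg.Agent.Lib.H3.AlpGold
import Cfsg.Agent.Lib.Lead.CardMul
import Cfsg.Agent.Lib.Solv.Core

/-! `Y`-minimal groups: the core of the unique maximal subgroup. -/

set_option autoImplicit false

namespace CfsgLib.Local.MinOver

open Cfsg Subgroup CfsgLib.Solv CfsgLib.Fusion
open scoped Pointwise

variable {L : Type*} [Group L] [Finite L] {p : ℕ} [Fact p.Prime]

/-- A subgroup with normal Sylow subgroup is `p`-closed. -/
theorem isPClosed_of_sylowIn {Q K : Subgroup L} (hQ : IsSylowIn p Q K) (hKQ : K ≤ normalizer (Q : Set L)) :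
    IsPClosed p ↥K := by
  intro S
  have hQn : (Q.subgroupOf K).Normal := (Subgroup.normal_subgroupOf_iff_le_normalizer hQ.1).mpr hKQ
  have hle : Q.subgroupOf K ≤ S := CfsgLib.PLocal.normal_le_sylow hQn hQ.2.1.comap_subtype S
  have h2 : Q = (S : Subgroup K).map K.subtype := by
    refine hQ.eq_of_pgroup ?_ (Subgroup.map_subtype_le _) (S.2.map _)
    intro x hx
    exact ⟨⟨x, hQ.1 hx⟩, hle (Subgroup.mem_subgroupOf.mpr hx), rfl⟩
  have h3 : (S : Subgroup K) = Q.subgroupOf K := by
    rw [h2, Subgroup.subgroupOf, Subgroup.comap_map_eq_self_of_injective K.subtype_injective]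
  rw [h3]
  exact hQn

/-- The cardinality relation for a product with a normal subgroup. -/
theorem not_dvd_index_of_sup {D M P : Subgroup L} (hD : D.Normal) (hsup : D ⊔ M = ⊤) (hPD : P ≤ D) (hPM : P ≤ M)
    (hP : ¬ p ∣ P.relIndex D) : ¬ p ∣ M.index := by
  have h1 := CfsgLib.Lead.card_mul_card_eq_card_mul_mul_card_inf D M
  have hset : ((D : Set L) * (M : Set L) : Set L) = Set.univ := by
    have := Subgroup.normal_mul D M
    rw [← this, hsup]
    rfl
  rw [hset, Nat.card_coe_set_eq, Set.ncard_univ] at h1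
  have h2 : (D ⊓ M).relIndex D * Nat.card (D ⊓ M : Subgroup L) = Nat.card D := by
    rw [Subgroup.relIndex, mul_comm]
    have e : Nat.card ↥(D ⊓ M) = Nat.card ((D ⊓ M).subgroupOf D) := by
      refine Nat.card_congr (Subgroup.subgroupOfEquivOfLe inf_le_left).toEquiv.symm
    rw [e]
    exact Subgroup.card_mul_index _
  have h3 : M.index * Nat.card M = Nat.card L := Subgroup.index_mul_card M
  have hpos : 0 < Nat.card (D ⊓ M : Subgroup L) := Nat.card_pos
  have hposM : 0 < Nat.card M := Nat.card_pos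
  have h4 : M.index = (D ⊓ M).relIndex D := by
    have h5 : (D ⊓ M).relIndex D * Nat.card (D ⊓ M : Subgroup L) * Nat.card M =
        M.index * Nat.card M * Nat.card (D ⊓ M : Subgroup L) := by
      rw [h2, h1, h3]
    have h6 : ((D ⊓ M).relIndex D) * Nat.card M * Nat.card (D ⊓ M : Subgroup L) =
        M.index * Nat.card M * Nat.card (D ⊓ M : Subgroup L) := by
      rw [← h5]; ring
    have h7 := Nat.eq_of_mul_eq_mul_right hpos h6
    exact (Nat.eq_of_mul_eq_mul_right hposM h7).symm
  rw [h4]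
  intro hd
  apply hP
  have h8 : (D ⊓ M).relIndex D ∣ P.relIndex D := Subgroup.relIndex_dvd_of_le_left _ (le_inf hPD hPM)
  exact hd.trans h8

/-- The image of a coatom containing the kernel is a coatom. -/
theorem isCoatom_map {X : Type*} [Group X] {M : Subgroup L} (hM : IsCoatom M) (π : L →* X)
    (hπ : Function.Surjective π) (hker : π.ker ≤ M) : IsCoatom (M.map π) := by
  constructor
  · intro h
    apply hM.1
    have := Subgroup.comap_map_eq M (f := π)
    rw [h, Subgroup.comap_top, sup_eq_left.mpr hker] at this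
    exact this.symm
  · intro K hK
    have h1 : M < K.comap π := by
      refine lt_of_le_of_ne (Subgroup.map_le_iff_le_comap.mp hK.le) ?_
      intro he
      apply hK.not_ge
      have : K = (K.comap π).map π := (Subgroup.map_comap_eq_self_of_surjective hπ K).symm
      rw [this, ← he]
    have h2 := hM.2 _ h1
    have : K = (K.comap π).map π := (Subgroup.map_comap_eq_self_of_surjective hπ K).symm
    rw [this, h2, Subgroup.map_top_of_surjective π hπ]

/-- The preimage of a coatom is a coatom. -/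
theorem isCoatom_comap {X : Type*} [Group X] {M : Subgroup X} (hM : IsCoatom M) (π : L →* X)
    (hπ : Function.Surjective π) : IsCoatom (M.comap π) := by
  constructor
  · intro h
    apply hM.1
    rw [← Subgroup.map_comap_eq_self_of_surjective hπ M, h, Subgroup.map_top_of_surjective π hπ]
  · intro K hK
    have hle : π.ker ≤ K := by
      refine le_trans ?_ hK.le
      intro x hx
      rw [Subgroup.mem_comap, MonoidHom.mem_ker.mp hx]
      exact M.one_mem
    have h1 : M < K.map π := by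
      refine lt_of_le_of_ne ?_ ?_
      · intro m hm
        obtain ⟨x, rfl⟩ := hπ m
        exact ⟨x, hK.le hm, rfl⟩
      · intro he
        apply hK.not_ge
        intro k hk
        show π k ∈ M
        rw [he]
        exact ⟨k, hk, rfl⟩
    have h2 := hM.2 _ h1
    have h3 := Subgroup.comap_map_eq K (f := π)
    rw [h2, Subgroup.comap_top, sup_eq_left.mpr hle] at h3
    exact h3.symm

theorem mem_normalCore_iff {H : Subgroup L} {x : L} : x ∈ H.normalCore ↔ ∀ g : L, g * x * g⁻¹ ∈ H := Iff.rfl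

theorem cj_isCoatom {M : Subgroup L} (hM : IsCoatom M) (g : L) : IsCoatom (cj g M) := by
  refine isCoatom_map hM (MulAut.conj g).toMonoidHom (MulEquiv.surjective _) ?_
  intro x hx
  have : x = 1 := by
    have h1 : (MulAut.conj g) x = 1 := hx
    exact (map_eq_one_iff _ (MulEquiv.injective _)).mp h1
  rw [this]
  exact M.one_mem

/-- `S2836`. -/
theorem core_package (L₀ : Subgroup L) (hL₀ : IsCoatom L₀) (T : Sylow p ↥L₀) (Y : Subgroup L)
    (hYT : Y ≤ (T : Subgroup ↥L₀).map L₀.subtype) (hmin : IsMinimalOver Y) :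
    (pCore p L ≤ L₀.normalCore ∧
      (L₀.normalCore).map (QuotientGroup.mk' (pCore p L)) = frattini (L ⧸ pCore p L) ∧
      IsPClosed p ↥(L₀.normalCore)) ∧
    ∀ (N : Subgroup L) [N.Normal], N ≤ L₀ → IsPClosed p ↥N ∧ Group.IsNilpotent (↥N ⧸ pCore p ↥N) ∧
      (Nat.card (↥N ⧸ pCore p ↥N)).Coprime p := by
  classical
  set T₀ := (T : Subgroup ↥L₀).map L₀.subtype with hT₀
  have hT₀s : IsSylowIn p T₀ L₀ := isSylowIn_of_sylow T
  have hYL₀ : Y ≤ L₀ := hYT.trans hT₀s.1
  have hYp : IsPGroup p Y := hT₀s.2.1.to_le hYT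
  obtain ⟨hncl, M₀, ⟨hM₀, hYM₀⟩, huniq₀⟩ := hmin
  have huniq : ∀ M, IsCoatom M → Y ≤ M → M = L₀ := fun M hM hYM =>
    (huniq₀ M ⟨hM, hYM⟩).trans (huniq₀ L₀ ⟨hL₀, hYL₀⟩).symm
  have hprop : ∀ K : Subgroup L, K ≠ ⊤ → Y ≤ K → K ≤ L₀ := by
    intro K hK hYK
    obtain ⟨M, hM, hKM⟩ := (eq_top_or_exists_le_coatom K).resolve_left hK
    rw [← huniq M hM (hYK.trans hKM)]
    exact hKM
  have hnorm : ∀ K : Subgroup L, K.Normal → Y ≤ K → K = ⊤ := by
    intro K hK hYK
    haveI := hK
    rw [eq_top_iff, ← hncl]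
    exact Subgroup.normalClosure_le_normal hYK
  set D := L₀.normalCore with hD
  haveI hDn : D.Normal := Subgroup.normalCore_normal L₀
  have hDL₀ : D ≤ L₀ := Subgroup.normalCore_le L₀
  set P := pCore p L with hP
  have hPp : IsPGroup p P := CfsgLib.PLocal.pCore_isPGroup
  have hPn : P.Normal := inferInstance
  have htopn : ∀ {K : Subgroup L}, K.Normal → normalizer (K : Set L) = ⊤ := fun h =>
    Subgroup.normalizer_eq_top_iff.mpr h
  -- step 1
  have hPL₀ : P ≤ L₀ := by
    have hS : IsPGroup p (P ⊔ Y : Subgroup L) :=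
      IsPGroup.to_sup_of_normal_left' hPp hYp (by rw [htopn hPn]; exact le_top)
    by_cases htop : P ⊔ Y = ⊤
    · exfalso
      have hLp : IsPGroup p L := by
        intro x
        obtain ⟨k, hk⟩ := hS ⟨x, by rw [htop]; trivial⟩
        exact ⟨k, congrArg Subtype.val hk⟩
      obtain ⟨hn, -⟩ := coatom_of_pgroup hLp hL₀
      exact hL₀.1 (hnorm L₀ hn hYL₀)
    · exact le_sup_left.trans (hprop _ htop le_sup_right)
  have hPD : P ≤ D := Subgroup.normal_le_normalCore.mpr hPL₀
  -- step 2
  have hQ₀s : IsSylowIn p (T₀ ⊓ D) D :=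
    CfsgLib.AlpGold.isSylowIn_inf_normal hT₀s hDL₀ (by rw [htopn hDn]; exact le_top)
  have hT₀N : T₀ ≤ normalizer ((T₀ ⊓ D : Subgroup L) : Set L) := by
    intro t ht
    refine mem_normalizer_of_conj_mem fun y hy => ⟨T₀.mul_mem (T₀.mul_mem ht hy.1) (T₀.inv_mem ht), ?_⟩
    exact hDn.conj_mem _ hy.2 t
  have hQ₀N : normalizer ((T₀ ⊓ D : Subgroup L) : Set L) = ⊤ := by
    by_contra hne
    have hle := hprop _ hne (hYT.trans hT₀N)
    apply hL₀.1
    rw [eq_top_iff]
    intro g _
    obtain ⟨y, hy, hyg⟩ := CfsgLib.AlpGold.frattini hQ₀s (m := g) (by rw [htopn hDn]; trivial)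
    have : g = y * (y⁻¹ * g) := by group
    rw [this]
    exact L₀.mul_mem (hDL₀ hy) (hle hyg)
  have hQ₀P : T₀ ⊓ D ≤ P :=
    CfsgLib.PLocal.le_pCore_of_normal _ (Subgroup.normalizer_eq_top_iff.mp hQ₀N) hQ₀s.2.1
  have hPT₀ : P ≤ T₀ := by
    have hn : (P.subgroupOf L₀).Normal := hPn.subgroupOf L₀
    have h1 := CfsgLib.PLocal.normal_le_sylow hn (hPp.comap_subtype : IsPGroup p (P.subgroupOf L₀)) T
    intro x hx
    exact ⟨⟨x, hPL₀ hx⟩, h1 (Subgroup.mem_subgroupOf.mpr hx), rfl⟩
  have hQ₀eq : T₀ ⊓ D = P := le_antisymm hQ₀P (le_inf hPT₀ hPD)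
  have hPs : IsSylowIn p P D := by
    rw [← hQ₀eq]; exact hQ₀s
  -- step 3: Frattini
  set π := QuotientGroup.mk' P with hπ
  have hπs : Function.Surjective π := QuotientGroup.mk'_surjective P
  have hker : π.ker = P := QuotientGroup.ker_mk' P
  have hfrat : D.map π = frattini (L ⧸ P) := by
    apply le_antisymm
    · rintro _ ⟨x, hx, rfl⟩
      rw [CfsgLib.Solv.mem_frattini_iff]
      intro Mb hMb
      set M := Mb.comap π with hM
      have hMc : IsCoatom M := isCoatom_comap hMb π hπs
      have hPM : P ≤ M := by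
        intro y hy
        have : π y = 1 := by rw [← MonoidHom.mem_ker, hker]; exact hy
        rw [hM, Subgroup.mem_comap, this]
        exact Mb.one_mem
      by_contra hxM
      have hsup : D ⊔ M = ⊤ := by
        refine hMc.2 _ (lt_of_le_of_ne le_sup_right ?_)
        intro he
        apply hxM
        show x ∈ M
        rw [he]
        exact Subgroup.mem_sup_left hx
      have hidx := not_dvd_index_of_sup hDn hsup hPD hPM hPs.2.2
      obtain ⟨T', hT'⟩ := CfsgLib.CT1.exists_sylowIn (p := p) M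
      have hT's : IsSylowIn p T' ⊤ := by
        refine ⟨le_top, hT'.2.1, ?_⟩
        have h1 := Subgroup.relIndex_mul_relIndex T' M ⊤ hT'.1 le_top
        rw [Subgroup.relIndex_top_right] at h1 ⊢
        rw [Subgroup.relIndex_top_right] at h1
        rw [← h1]
        intro hd
        rcases (Nat.Prime.dvd_mul Fact.out).mp hd with h2 | h2
        · exact hT'.2.2 h2
        · exact hidx h2
      obtain ⟨y, -, hy⟩ := CfsgLib.CT1.IsSylowIn_exists_conj_into hT's le_top hYp
      have hYM : Y ≤ cj y⁻¹ M := by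
        intro v hv
        rw [mem_cj, inv_inv]
        exact hT'.1 (hy ⟨v, hv, rfl⟩)
      have hcoat := huniq _ (cj_isCoatom hMc y⁻¹) hYM
      have h3 : y⁻¹ * x * y⁻¹⁻¹ ∈ D := hDn.conj_mem x hx y⁻¹
      have h4 : y⁻¹ * x * y⁻¹⁻¹ ∈ cj y⁻¹ M := by
        rw [hcoat]
        exact hDL₀ h3
      rw [mem_cj, inv_inv] at h4
      apply hxM
      have e : y * (y⁻¹ * x * y) * y⁻¹ = x := by group
      rwa [e] at h4
    · intro z hz
      obtain ⟨x, rfl⟩ := hπs z
      refine ⟨x, (mem_normalCore_iff.mpr ?_ : x ∈ L₀.normalCore), rfl⟩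
      intro g
      have hK := cj_isCoatom hL₀ g⁻¹
      have hPK : π.ker ≤ cj g⁻¹ L₀ := by
        rw [hker]
        intro y hy
        rw [mem_cj, inv_inv]
        exact hPL₀ (hPn.conj_mem y hy g)
      have hco := isCoatom_map hK π hπs hPK
      have h2 := (CfsgLib.Solv.mem_frattini_iff.mp hz) _ hco
      obtain ⟨k, hk, hke⟩ := h2
      have h3 : k⁻¹ * x ∈ cj g⁻¹ L₀ := by
        apply hPK
        rw [MonoidHom.mem_ker, map_mul, map_inv, hke, inv_mul_cancel]
      have h4 : x ∈ cj g⁻¹ L₀ := by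
        have e : x = k * (k⁻¹ * x) := by group
        rw [e]
        exact (cj g⁻¹ L₀).mul_mem hk h3
      rw [mem_cj, inv_inv] at h4
      exact h4
  refine ⟨⟨hPD, hfrat, isPClosed_of_sylowIn hPs (by rw [htopn hPn]; exact le_top)⟩, ?_⟩
  intro N hNn hNL₀
  have hND : N ≤ D := Subgroup.normal_le_normalCore.mpr hNL₀
  have hNs : IsSylowIn p (P ⊓ N) N :=
    CfsgLib.AlpGold.isSylowIn_inf_normal hPs hND (by rw [htopn hNn]; exact le_top)
  have hPNn : (P ⊓ N).Normal := inferInstance
  have hcore : pCore p ↥N = (P ⊓ N).subgroupOf N := by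
    apply le_antisymm
    · intro x hx
      have hA : pCoreOf p N ≤ P := by
        refine CfsgLib.PLocal.le_pCore_of_normal _ ?_ (isPGroup_pCoreOf N)
        rw [← Subgroup.normalizer_eq_top_iff, eq_top_iff]
        have := normalizer_le_normalizer_pCoreOf (p := p) N
        rw [htopn hNn] at this
        exact this
      exact Subgroup.mem_subgroupOf.mpr ⟨hA ⟨x, hx, rfl⟩, x.2⟩
    · exact CfsgLib.PLocal.le_pCore_of_normal _ (hPNn.subgroupOf N) hNs.2.1.comap_subtype
  refine ⟨isPClosed_of_sylowIn hNs (by rw [htopn hPNn]; exact le_top), ?_, ?_⟩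
  · -- nilpotent
    have hmem : ∀ x : ↥N, π (x : L) ∈ frattini (L ⧸ P) := fun x => by
      rw [← hfrat]
      exact ⟨x, hND x.2, rfl⟩
    let g : ↥N →* ↥(frattini (L ⧸ P)) := (π.comp N.subtype).codRestrict _ hmem
    have hg : ∀ x ∈ pCore p ↥N, g x = 1 := by
      intro x hx
      rw [hcore, Subgroup.mem_subgroupOf] at hx
      apply Subtype.ext
      show π (x : L) = 1
      rw [← MonoidHom.mem_ker, hker]
      exact hx.1
    let f : ↥N ⧸ pCore p ↥N →* ↥(frattini (L ⧸ P)) := QuotientGroup.lift _ g hg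
    have hf : f.ker ≤ center _ := by
      intro z hz
      obtain ⟨x, rfl⟩ := QuotientGroup.mk'_surjective _ z
      have h1 : g x = 1 := hz
      have h2 : π (x : L) = 1 := congrArg Subtype.val h1
      have h3 : (x : L) ∈ P := by
        rw [← hker, MonoidHom.mem_ker]; exact h2
      have h4 : x ∈ pCore p ↥N := by
        rw [hcore, Subgroup.mem_subgroupOf]
        exact ⟨h3, x.2⟩
      have h5 : QuotientGroup.mk' (pCore p ↥N) x = 1 := (QuotientGroup.eq_one_iff _).mpr h4
      rw [h5]
      exact Subgroup.one_mem _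
    haveI : Group.IsNilpotent ↥(frattini (L ⧸ P)) := frattini_nilpotent
    exact Subgroup.isNilpotent_of_ker_le_center f hf
  · have hc : Nat.card (↥N ⧸ pCore p ↥N) = (P ⊓ N).relIndex N := by
      rw [hcore]
      rfl
    rw [hc]
    exact ((Nat.Prime.coprime_iff_not_dvd Fact.out).mpr hNs.2.2).symm

end CfsgLib.Local.MinOver
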