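import Cfsg.Agent.Lib.Local.MinOver
import Cfsg.Agent.Lib.Local.DStar
import Cfsg.Agent.Lib.SS.Misc

/-! `Y`-minimal groups of characteristic `p` with `O_p(L) ≤ N(Y)`. -/

set_option autoImplicit false

namespace CfsgLib.Local.MinOver

open Cfsg Subgroup CfsgLib.Solv CfsgLib.Fusion
open scoped Pointwise commutatorElement

variable {L : Type*} [Group L] [Finite L] {p : ℕ} [Fact p.Prime]

/-- Powers of a product modulo a central commutator. -/
theorem mul_pow_mod {W V K : Subgroup L} (hK : K ≤ center L) (hc : ⁅V, W⁆ ≤ K) {w v : L} (hw : w ∈ W) (hv : v ∈ V)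
    (n : ℕ) : ∃ c ∈ K, (w * v) ^ n = w ^ n * v ^ n * c := by
  induction n with
  | zero => exact ⟨1, K.one_mem, by simp⟩
  | succ n ih =>
    obtain ⟨c, hcK, he⟩ := ih
    set d := ⁅(v ^ n)⁻¹, w⁻¹⁆ with hd
    have hdK : d ∈ K := hc (Subgroup.commutator_mem_commutator (V.inv_mem (V.pow_mem hv n)) (W.inv_mem hw))
    refine ⟨d * c, K.mul_mem hdK hcK, ?_⟩
    have h1 : v ^ n * w = w * v ^ n * d := by
      rw [hd, commutatorElement_def]
      group
    have hcc : ∀ y : L, c * y = y * c := fun y => (Subgroup.mem_center_iff.mp (hK hcK) y).symm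
    have hdc : ∀ y : L, d * y = y * d := fun y => (Subgroup.mem_center_iff.mp (hK hdK) y).symm
    calc (w * v) ^ (n + 1) = (w * v) ^ n * (w * v) := pow_succ _ _
      _ = w ^ n * v ^ n * c * (w * v) := by rw [he]
      _ = w ^ n * (v ^ n * w) * v * c := by
        rw [mul_assoc (w ^ n * v ^ n) c, hcc]; group
      _ = w ^ n * (w * v ^ n * d) * v * c := by rw [h1]
      _ = w ^ n * w * v ^ n * (d * v) * c := by group
      _ = w ^ n * w * v ^ n * (v * d) * c := by rw [hdc]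
      _ = w ^ (n + 1) * v ^ (n + 1) * (d * c) := by
        rw [pow_succ w, pow_succ v]; group

/-- `S2837`. -/
theorem minimal_package (hchar : centralizer (pCore p L : Set L) ≤ pCore p L) (L₀ : Subgroup L) (hL₀ : IsCoatom L₀)
    (Y : Subgroup L) (hYL₀ : Y ≤ L₀) (hYel : IsElementaryAbelian p Y) (hmin : IsMinimalOver Y)
    (hOY : pCore p L ≤ normalizer (Y : Set L)) (A : Subgroup L)
    (hA : A = normalClosure ((pCore p L ⊓ Y : Subgroup L) : Set L)) (g : L) (hg : g ∉ L₀) :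
    (frattini ↥A).map A.subtype = ⁅A, A⁆ ∧ ⁅A, A⁆ = ⁅A ⊓ Y, A⁆ ∧
    ⁅A ⊓ Y, A⁆ = ⁅A ⊓ Y, A ⊓ Y.map (MulAut.conj g).toMonoidHom⁆ ∧
    ⁅A ⊓ Y, A⁆ ≤ Y ⊓ center L ∧ Y ⊓ Y.map (MulAut.conj g).toMonoidHom = Y ⊓ center L ∧
    (A ⊓ Y) ⊓ (A ⊓ Y.map (MulAut.conj g).toMonoidHom) = Y ⊓ center L ∧ A ⊓ center L = Y ⊓ center L := by
  classical
  obtain ⟨hYc, hYe⟩ := hYel
  obtain ⟨hncl, M₀, ⟨hM₀, hYM₀⟩, huniq₀⟩ := hmin
  have huniq : ∀ M, IsCoatom M → Y ≤ M → M = L₀ := fun M hM hYM =>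
    (huniq₀ M ⟨hM, hYM⟩).trans (huniq₀ L₀ ⟨hL₀, hYL₀⟩).symm
  have hprop : ∀ K : Subgroup L, K ≠ ⊤ → Y ≤ K → K ≤ L₀ := by
    intro K hK hYK
    obtain ⟨M, hM, hKM⟩ := (eq_top_or_exists_le_coatom K).resolve_left hK
    rw [← huniq M hM (hYK.trans hKM)]
    exact hKM
  have hnorm : ∀ K : Subgroup L, K.Normal → Y ≤ K → K = ⊤ := by
    intro K hK hYK
    haveI := hK
    rw [eq_top_iff, ← hncl]
    exact Subgroup.normalClosure_le_normal hYK
  set Yg : Subgroup L := Y.map (MulAut.conj g).toMonoidHom with hYg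
  -- conjugates outside `L₀`
  have hgN : g ∉ normalizer (L₀ : Set L) := by
    intro hn
    have hN : normalizer (L₀ : Set L) = ⊤ := by
      refine hL₀.2 _ (lt_of_le_of_ne Subgroup.le_normalizer ?_)
      intro he
      rw [← he] at hn
      exact hg hn
    exact hL₀.1 (hnorm L₀ (Subgroup.normalizer_eq_top_iff.mp hN) hYL₀)
  have hYgL₀ : ¬ Yg ≤ L₀ := by
    intro hle
    have h1 : Y ≤ cj g⁻¹ L₀ := by
      intro y hy
      rw [mem_cj, inv_inv]
      exact hle ⟨y, hy, rfl⟩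
    have h2 := huniq _ (cj_isCoatom hL₀ g⁻¹) h1
    have h3 : g⁻¹ ∈ normalizer (L₀ : Set L) := mem_normalizer_iff_cj.mpr h2
    apply hgN
    simpa using inv_mem h3
  have hgen : ∀ X : Subgroup L, Y ≤ X → Yg ≤ X → X = ⊤ := by
    intro X h1 h2
    by_contra hne
    exact hYgL₀ (h2.trans (hprop X hne h1))
  set Q := pCore p L with hQdef
  have hQn : Q.Normal := inferInstance
  have hQp : IsPGroup p Q := CfsgLib.PLocal.pCore_isPGroup
  have htop : normalizer (Q : Set L) = ⊤ := Subgroup.normalizer_eq_top_iff.mpr hQn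
  set W : Subgroup L := Q ⊓ Y with hW
  set Wg : Subgroup L := Q ⊓ Yg with hWg
  have hWgmem : ∀ w, w ∈ W → g * w * g⁻¹ ∈ Wg := fun w hw =>
    ⟨hQn.conj_mem w hw.1 g, ⟨w, hw.2, rfl⟩⟩
  have hQYg : Q ≤ normalizer (Yg : Set L) := by
    intro q hq
    rw [hYg, ← cj, normalizer_cj]
    rw [mem_cj]
    exact hOY (hQn.conj_mem q hq g⁻¹ |> fun h => by simpa using h)
  have hYgc : ∀ a ∈ Yg, ∀ b ∈ Yg, a * b = b * a := by
    rintro _ ⟨a, ha, rfl⟩ _ ⟨b, hb, rfl⟩
    haveI := hYc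
    have : (⟨a, ha⟩ : Y) * ⟨b, hb⟩ = ⟨b, hb⟩ * ⟨a, ha⟩ := mul_comm' _ _
    have h2 : a * b = b * a := congrArg Subtype.val this
    simp only [MulEquiv.coe_toMonoidHom, MulAut.conj_apply]
    calc g * a * g⁻¹ * (g * b * g⁻¹) = g * (a * b) * g⁻¹ := by group
      _ = g * (b * a) * g⁻¹ := by rw [h2]
      _ = _ := by group
  have hYcc : ∀ a ∈ Y, ∀ b ∈ Y, a * b = b * a := by
    intro a ha b hb
    haveI := hYc
    have : (⟨a, ha⟩ : Y) * ⟨b, hb⟩ = ⟨b, hb⟩ * ⟨a, ha⟩ := mul_comm' _ _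
    exact congrArg Subtype.val this
  have hcQY : ⁅Q, Y⁆ ≤ W := commutator_le_of_normalizing hOY (by rw [htop]; exact le_top)
  have hcQYg : ⁅Q, Yg⁆ ≤ Wg := commutator_le_of_normalizing hQYg (by rw [htop]; exact le_top)
  have hWQ : W ≤ Q := inf_le_left
  have hWgQ : Wg ≤ Q := inf_le_left
  have hsupn : ∀ y : L, (∀ a ∈ W, y * a * y⁻¹ ∈ W ⊔ Wg) → (∀ b ∈ Wg, y * b * y⁻¹ ∈ W ⊔ Wg) →
      y ∈ normalizer ((W ⊔ Wg : Subgroup L) : Set L) := by
    intro y h1 h2
    have hle : W ⊔ Wg ≤ (W ⊔ Wg).comap (MulAut.conj y).toMonoidHom := sup_le h1 h2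
    exact mem_normalizer_of_conj_mem fun x hx => hle hx
  have hBn : (W ⊔ Wg).Normal := by
    rw [← Subgroup.normalizer_eq_top_iff]
    refine hgen _ ?_ ?_
    · intro y hy
      refine hsupn y ?_ ?_
      · intro a ha
        have : y * a * y⁻¹ = a := by rw [hYcc y hy a ha.2, mul_inv_cancel_right]
        rw [this]
        exact Subgroup.mem_sup_left ha
      · intro b hb
        have h1 : ⁅b, y⁆ ∈ W := hcQY (Subgroup.commutator_mem_commutator hb.1 hy)
        have e : y * b * y⁻¹ = ⁅b, y⁆⁻¹ * b := by rw [commutatorElement_def]; group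
        rw [e]
        exact mul_mem (Subgroup.mem_sup_left (W.inv_mem h1)) (Subgroup.mem_sup_right hb)
    · intro y hy
      refine hsupn y ?_ ?_
      · intro a ha
        have h1 : ⁅a, y⁆ ∈ Wg := hcQYg (Subgroup.commutator_mem_commutator ha.1 hy)
        have e : y * a * y⁻¹ = ⁅a, y⁆⁻¹ * a := by rw [commutatorElement_def]; group
        rw [e]
        exact mul_mem (Subgroup.mem_sup_right (Wg.inv_mem h1)) (Subgroup.mem_sup_left ha)
      · intro b hb
        have : y * b * y⁻¹ = b := by rw [hYgc y hy b hb.2, mul_inv_cancel_right]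
        rw [this]
        exact Subgroup.mem_sup_right hb
  have hAB : A = W ⊔ Wg := by
    apply le_antisymm
    · rw [hA]
      haveI := hBn
      exact Subgroup.normalClosure_le_normal (fun x hx => Subgroup.mem_sup_left hx)
    · refine sup_le ?_ ?_
      · rw [hA]
        exact Subgroup.subset_normalClosure
      · rintro v ⟨hvQ, y, hy, rfl⟩
        have hyQ : y ∈ Q := by
          have := hQn.conj_mem _ hvQ g⁻¹
          have e : g⁻¹ * ((MulAut.conj g).toMonoidHom y) * g⁻¹⁻¹ = y := by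
            simp only [MulEquiv.coe_toMonoidHom, MulAut.conj_apply]
            group
          rwa [e] at this
        rw [hA]
        have h1 : y ∈ normalClosure ((Q ⊓ Y : Subgroup L) : Set L) := Subgroup.subset_normalClosure ⟨hyQ, hy⟩
        exact (Subgroup.normalClosure_normal).conj_mem y h1 g
  clear hA
  subst hAB
  have hAQ : W ⊔ Wg ≤ Q := sup_le hWQ hWgQ
  have hAY : (W ⊔ Wg) ⊓ Y = W := le_antisymm (fun x hx => ⟨hAQ hx.1, hx.2⟩) (le_inf le_sup_left inf_le_right)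
  have hAYg : (W ⊔ Wg) ⊓ Yg = Wg := le_antisymm (fun x hx => ⟨hAQ hx.1, hx.2⟩) (le_inf le_sup_right inf_le_right)
  rw [hAY, hAYg]
  have hKW : ⁅W, Wg⁆ ≤ W := by
    rw [Subgroup.commutator_comm]
    exact (Subgroup.commutator_mono hWgQ inf_le_right).trans hcQY |>.trans (le_refl W)
  have hKWg : ⁅W, Wg⁆ ≤ Wg := (Subgroup.commutator_mono hWQ inf_le_right).trans hcQYg
  have hcentral : ∀ z : L, (∀ y ∈ Y, y * z = z * y) → (∀ y ∈ Yg, y * z = z * y) → z ∈ center L := by
    intro z h1 h2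
    have h3 : centralizer ({z} : Set L) = ⊤ := by
      refine hgen _ ?_ ?_
      · intro y hy
        exact Subgroup.mem_centralizer_singleton_iff.mpr (h1 y hy)
      · intro y hy
        exact Subgroup.mem_centralizer_singleton_iff.mpr (h2 y hy)
    rw [Subgroup.mem_center_iff]
    intro x
    have : x ∈ centralizer ({z} : Set L) := by rw [h3]; trivial
    exact Subgroup.mem_centralizer_singleton_iff.mp this
  have hcenQ : center L ≤ Q := by
    intro z hz
    refine hchar (Subgroup.mem_centralizer_iff.mpr fun q _ => ?_)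
    exact Subgroup.mem_center_iff.mp hz q
  have hcenYg : ∀ z, z ∈ Y → z ∈ center L → z ∈ Yg := by
    intro z hz hc
    refine ⟨z, hz, ?_⟩
    simp only [MulEquiv.coe_toMonoidHom, MulAut.conj_apply]
    rw [Subgroup.mem_center_iff.mp hc g, mul_inv_cancel_right]
  have hYYg : Y ⊓ Yg = Y ⊓ center L := by
    apply le_antisymm
    · rintro z ⟨h1, h2⟩
      exact ⟨h1, hcentral z (fun y hy => hYcc y hy z h1) (fun y hy => hYgc y hy z h2)⟩
    · rintro z ⟨h1, h2⟩
      exact ⟨h1, hcenYg z h1 h2⟩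
  have hWWg : W ⊓ Wg = Y ⊓ center L := by
    apply le_antisymm
    · intro z hz
      rw [← hYYg]
      exact ⟨hz.1.2, hz.2.2⟩
    · rintro z ⟨h1, h2⟩
      exact ⟨⟨hcenQ h2, h1⟩, hcenQ h2, hcenYg z h1 h2⟩
  have hKc : ⁅W, Wg⁆ ≤ center L := by
    have : ⁅W, Wg⁆ ≤ W ⊓ Wg := le_inf hKW hKWg
    rw [hWWg] at this
    exact this.trans inf_le_right
  have hKY : ⁅W, Wg⁆ ≤ Y ⊓ center L := by
    rw [← hWWg]
    exact le_inf hKW hKWg
  have hKn : normalizer ((⁅W, Wg⁆ : Subgroup L) : Set L) = ⊤ := by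
    rw [eq_top_iff]
    intro x _
    refine mem_normalizer_of_conj_mem fun y hy => ?_
    have : x * y * x⁻¹ = y := by
      rw [Subgroup.mem_center_iff.mp (hKc hy) x, mul_inv_cancel_right]
    rw [this]
    exact hy
  have hWab : ⁅W, W⁆ = ⊥ := by
    rw [Subgroup.commutator_eq_bot_iff_le_centralizer]
    intro a ha
    exact Subgroup.mem_centralizer_iff.mpr fun b hb => hYcc b hb.2 a ha.2
  have hWgab : ⁅Wg, Wg⁆ = ⊥ := by
    rw [Subgroup.commutator_eq_bot_iff_le_centralizer]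
    intro a ha
    exact Subgroup.mem_centralizer_iff.mpr fun b hb => hYgc b hb.2 a ha.2
  have hAA : ⁅W ⊔ Wg, W ⊔ Wg⁆ ≤ ⁅W, Wg⁆ := by
    refine CfsgLib.Local.commutator_sup_le (X := ⊤) (by rw [hKn]) le_top le_top ?_ le_rfl ?_ ?_
    · rw [hWab]; exact bot_le
    · rw [Subgroup.commutator_comm]
    · rw [hWgab]; exact bot_le
  have hAA1 : ⁅W, Wg⁆ ≤ ⁅W ⊔ Wg, W ⊔ Wg⁆ := Subgroup.commutator_mono le_sup_left le_sup_right
  have hWA : ⁅W, W ⊔ Wg⁆ = ⁅W, Wg⁆ := le_antisymm
    ((Subgroup.commutator_mono le_sup_left le_rfl).trans hAA) (Subgroup.commutator_mono le_rfl le_sup_right)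
  have hAAe : ⁅W ⊔ Wg, W ⊔ Wg⁆ = ⁅W, Wg⁆ := le_antisymm hAA hAA1
  rw [hWA, hAAe]
  refine ⟨?_, rfl, rfl, hKY, hYYg, hWWg, ?_⟩
  · -- the Frattini subgroup
    have hYge : ∀ v ∈ Yg, v ^ p = 1 := by
      rintro _ ⟨y, hy, rfl⟩
      rw [← map_pow, hYe y hy, map_one]
    have hWNWg : W ≤ normalizer ((Wg : Subgroup L) : Set L) := by
      intro w hw
      have h1 := hQYg (hWQ hw)
      have h2 : w ∈ normalizer ((Q : Subgroup L) : Set L) := by rw [htop]; trivial
      rw [Subgroup.mem_normalizer_iff] at h1 h2 ⊢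
      intro h
      exact ⟨fun hh => ⟨(h2 h).mp hh.1, (h1 h).mp hh.2⟩, fun hh => ⟨(h2 h).mpr hh.1, (h1 h).mpr hh.2⟩⟩
    set B := W ⊔ Wg with hB
    have hBp : IsPGroup p B := hQp.to_le hAQ
    haveI : Group.IsNilpotent B := hBp.isNilpotent
    apply le_antisymm
    · have hNn : ((⁅W, Wg⁆ : Subgroup L).subgroupOf B).Normal := by
        constructor
        intro n hn g'
        rw [Subgroup.mem_subgroupOf] at hn ⊢
        have := (Subgroup.mem_normalizer_iff.mp (by rw [hKn]; trivial : (g' : L) ∈ normalizer ((⁅W, Wg⁆ : Subgroup L) : Set L)) n).mp hn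
        exact this
      have hle := frattini_le_of_commutator_pow hBp ((⁅W, Wg⁆ : Subgroup L).subgroupOf B) (by
        rw [_root_.commutator_def]
        intro x hx
        rw [Subgroup.mem_subgroupOf, ← hAAe, ← Subgroup.map_subtype_commutator]
        exact ⟨x, hx, rfl⟩) (by
        rintro ⟨x, hx⟩
        rw [Subgroup.mem_subgroupOf]
        show x ^ p ∈ _
        have hset : ((W ⊔ Wg : Subgroup L) : Set L) = W * Wg :=
          Subgroup.coe_mul_of_left_le_normalizer_right W Wg hWNWg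
        have hx' : x ∈ ((W ⊔ Wg : Subgroup L) : Set L) := hx
        rw [hset] at hx'
        obtain ⟨w, hw, v, hv, rfl⟩ := hx'
        obtain ⟨c, hc, he⟩ := mul_pow_mod (K := ⁅W, Wg⁆) hKc (by rw [Subgroup.commutator_comm]) hw hv p
        rw [he, hYe w hw.2, hYge v hv.2, one_mul, one_mul]
        exact hc)
      rintro _ ⟨x, hx, rfl⟩
      exact Subgroup.mem_subgroupOf.mp (hle hx)
    · rw [← hAAe, ← Subgroup.map_subtype_commutator]
      exact Subgroup.map_mono CfsgLib.SS.commutator_le_frattini_of_nilpotent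
  · -- `A ⊓ Z = Y ⊓ Z`
    have hWNWg : W ≤ normalizer ((Wg : Subgroup L) : Set L) := by
      intro w hw
      have h1 := hQYg (hWQ hw)
      have h2 : w ∈ normalizer ((Q : Subgroup L) : Set L) := by rw [htop]; trivial
      rw [Subgroup.mem_normalizer_iff] at h1 h2 ⊢
      intro h
      exact ⟨fun hh => ⟨(h2 h).mp hh.1, (h1 h).mp hh.2⟩, fun hh => ⟨(h2 h).mpr hh.1, (h1 h).mpr hh.2⟩⟩
    apply le_antisymm
    · rintro z ⟨hzA, hzc⟩
      have hset : ((W ⊔ Wg : Subgroup L) : Set L) = W * Wg :=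
        Subgroup.coe_mul_of_left_le_normalizer_right W Wg hWNWg
      have hx' : z ∈ ((W ⊔ Wg : Subgroup L) : Set L) := hzA
      rw [hset] at hx'
      obtain ⟨w, hw, v, hv, rfl⟩ := hx'
      -- `v` is central
      have hvc : v ∈ center L := by
        refine hcentral v ?_ (fun y hy => hYgc y hy v hv.2)
        intro y hy
        have h1 := Subgroup.mem_center_iff.mp hzc y
        have h2 : y * w = w * y := hYcc y hy w hw.2
        have h3 : y * (w * v) = w * (y * v) := by rw [← mul_assoc, h2, mul_assoc]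
        have h4 : w * v * y = w * (v * y) := mul_assoc _ _ _
        rw [h3, h4] at h1
        exact mul_left_cancel h1
      have hvY : v ∈ Y := by
        obtain ⟨y, hy, hye⟩ := hv.2
        have : y = v := by
          have hc2 : g * y * g⁻¹ = v := hye
          have h3 := Subgroup.mem_center_iff.mp hvc g
          have h4 : g * y = g * v := by
            rw [h3, ← hc2]
            group
          exact mul_left_cancel h4
        rwa [this] at hy
      exact ⟨mul_mem hw.2 hvY, hzc⟩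
    · rintro z ⟨h1, h2⟩
      exact ⟨Subgroup.mem_sup_left ⟨hcenQ h2, h1⟩, h2⟩

end CfsgLib.Local.MinOver
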