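import Cfsg.Agent.Lib.Local.Embedded3
import Cfsg.Agent.Lib.Lead.CardMul
import Cfsg.Prelude.Def_SubgroupEmbedding

/-! Sidki pairs, the `ψ`-function argument and a fixed point count. -/

namespace CfsgLib.Local

open Subgroup Cfsg
open scoped Pointwise

variable {G : Type*} [Group G] [Finite G]

theorem commute_of_commute_sq {w a : G} (h : Commute w (a ^ 2)) (ha : Odd (orderOf a)) : Commute w a := by
  obtain ⟨k, hk⟩ := ha
  have h1 : a = (a ^ 2) ^ (k + 1) := by
    rw [← pow_mul]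
    have : 2 * (k + 1) = orderOf a + 1 := by omega
    rw [this, pow_succ, pow_orderOf_eq_one, one_mul]
  rw [h1]
  exact h.pow_right _

theorem odd_orderOf_mul {a b : G} (hc : Commute a b) (ha : Odd (orderOf a)) (hb : Odd (orderOf b)) :
    Odd (orderOf (a * b)) := by
  have h1 : (a * b) ^ (orderOf a * orderOf b) = 1 := by
    rw [hc.mul_pow, pow_mul, pow_orderOf_eq_one, one_pow, one_mul, mul_comm, pow_mul, pow_orderOf_eq_one,
      one_pow]
  exact Odd.of_dvd_nat (ha.mul hb) (orderOf_dvd_of_pow_eq_one h1)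

/-- `S3013`. -/
theorem sidki_centralizer {V : Subgroup G} (hV : IsElementaryAbelian 2 V) (hS : IsSidkiPair V) {v x : G}
    (hv : v ∈ V) (hx : Odd (orderOf x)) (hinv : v * x * v⁻¹ = x⁻¹) (C : Subgroup G)
    (hC : C = centralizer ({v} : Set G) ⊓ centralizer ({x} : Set G)) :
    C ⊓ V ≠ ⊥ ∧ IsSidkiPair ((C ⊓ V).subgroupOf C) := by
  have hcomm : ∀ a ∈ V, ∀ b ∈ V, a * b = b * a := by
    intro a ha b hb
    have := hV.1.is_comm.comm ⟨a, ha⟩ ⟨b, hb⟩
    exact congrArg Subtype.val this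
  have hmemC : ∀ w : G, w * v = v * w → w * x = x * w → w ∈ C := by
    intro w h1 h2
    rw [hC]
    exact Subgroup.mem_inf.mpr ⟨Subgroup.mem_centralizer_singleton_iff.mpr h1,
      Subgroup.mem_centralizer_singleton_iff.mpr h2⟩
  constructor
  · obtain ⟨w, hw, hw1, hwx⟩ := hS x v hv hx hinv
    intro hb
    have : w ∈ C ⊓ V := Subgroup.mem_inf.mpr ⟨hmemC w (hcomm w hw v hv) hwx, hw⟩
    rw [hb, Subgroup.mem_bot] at this
    exact hw1 this
  · intro h u hu hodd huinv
    have hu' := Subgroup.mem_inf.mp (Subgroup.mem_subgroupOf.mp hu)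
    have hCv : ∀ c ∈ C, c * v = v * c := fun c hc => by
      rw [hC] at hc
      exact Subgroup.mem_centralizer_singleton_iff.mp (Subgroup.mem_inf.mp hc).1
    have hCx : ∀ c ∈ C, c * x = x * c := fun c hc => by
      rw [hC] at hc
      exact Subgroup.mem_centralizer_singleton_iff.mp (Subgroup.mem_inf.mp hc).2
    set h₀ : G := (h : G) with hh₀
    set u₀ : G := (u : G) with hu₀
    have hodd₀ : Odd (orderOf h₀) := by rw [hh₀, Subgroup.orderOf_coe]; exact hodd
    have hinv₀ : u₀ * h₀ * u₀⁻¹ = h₀⁻¹ := by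
      have := congrArg Subtype.val huinv
      simpa using this
    have hhv := hCv h₀ h.2
    have hhx := hCx h₀ h.2
    have huv := hCv u₀ u.2
    have hux := hCx u₀ u.2
    have hc : Commute h₀ x := hhx
    have hy : Odd (orderOf (h₀ * x)) := odd_orderOf_mul hc hodd₀ hx
    have hvh : v * h₀ * v⁻¹ = h₀ := by rw [← hhv]; group
    have huvinv : (u₀ * v) * (h₀ * x) * (u₀ * v)⁻¹ = (h₀ * x)⁻¹ := by
      have h1 : (u₀ * v) * (h₀ * x) * (u₀ * v)⁻¹ = u₀ * ((v * h₀ * v⁻¹) * (v * x * v⁻¹)) * u₀⁻¹ := by group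
      rw [h1, hvh, hinv]
      have h2 : u₀ * (h₀ * x⁻¹) * u₀⁻¹ = (u₀ * h₀ * u₀⁻¹) * (u₀ * x⁻¹ * u₀⁻¹) := by group
      have h3 : u₀ * x⁻¹ * u₀⁻¹ = x⁻¹ := by
        have h4 : u₀ * x⁻¹ = x⁻¹ * u₀ := by
          have := (Commute.inv_right (show Commute u₀ x from hux))
          exact this
        rw [h4]; group
      rw [h2, hinv₀, h3, mul_inv_rev]
      have : h₀⁻¹ * x⁻¹ = x⁻¹ * h₀⁻¹ := by
        have := (Commute.inv_inv hc)
        exact this
      exact this
    obtain ⟨w, hw, hw1, hwy⟩ := hS (h₀ * x) (u₀ * v) (V.mul_mem hu'.2 hv) hy huvinv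
    have hwv : Commute w v := hcomm w hw v hv
    have hwy' : Commute w (h₀ * x) := hwy
    -- conjugating by `v`
    have hwz : Commute w (h₀ * x⁻¹) := by
      have h1 : h₀ * x⁻¹ = v * (h₀ * x) * v⁻¹ := by
        have : v * (h₀ * x) * v⁻¹ = (v * h₀ * v⁻¹) * (v * x * v⁻¹) := by group
        rw [this, hvh, hinv]
      rw [h1]
      exact (hwv.mul_right hwy').mul_right hwv.inv_right
    have hsq1 : Commute w (h₀ ^ 2) := by
      have h1 : h₀ ^ 2 = (h₀ * x) * (h₀ * x⁻¹) := by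
        have : (h₀ * x) * (h₀ * x⁻¹) = h₀ * (x * h₀) * x⁻¹ := by group
        rw [this, ← hhx, pow_two]; group
      rw [h1]
      exact hwy'.mul_right hwz
    have hsq2 : Commute w (x ^ 2) := by
      have h1 : x ^ 2 = (h₀ * x) * (h₀ * x⁻¹)⁻¹ := by
        have : (h₀ * x) * (h₀ * x⁻¹)⁻¹ = h₀ * (x * x) * h₀⁻¹ := by group
        rw [this]
        have h5 : h₀ * (x * x) = (x * x) * h₀ := by
          have := (hc.mul_right hc)
          exact this
        rw [h5, pow_two]; group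
      rw [h1]
      exact hwy'.mul_right hwz.inv_right
    have hwh := commute_of_commute_sq hsq1 hodd₀
    have hwx := commute_of_commute_sq hsq2 hx
    have hwC : w ∈ C := hmemC w hwv hwx
    refine ⟨⟨w, hwC⟩, Subgroup.mem_subgroupOf.mpr (Subgroup.mem_inf.mpr ⟨hwC, hw⟩), ?_, ?_⟩
    · intro he
      exact hw1 (congrArg Subtype.val he)
    · exact Subtype.ext hwh

/-- `S3012`. -/
theorem sidki_quotient (V K : Subgroup G) [K.Normal] (hV : IsElementaryAbelian 2 V) (hV1 : V ≠ ⊥)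
    (hS : IsSidkiPair V) (hVK : V ⊓ K = ⊥) : IsSidkiPair (V.map (QuotientGroup.mk' K)) := by
  set π := QuotientGroup.mk' K with hπ
  have hsurj : Function.Surjective π := QuotientGroup.mk'_surjective K
  have hinj : ∀ w ∈ V, w ≠ 1 → π w ≠ 1 := by
    intro w hw hw1 h1
    have : w ∈ K := by
      rw [hπ, QuotientGroup.mk'_apply, QuotientGroup.eq_one_iff] at h1
      exact h1
    have h2 : w ∈ V ⊓ K := Subgroup.mem_inf.mpr ⟨hw, this⟩
    rw [hVK, Subgroup.mem_bot] at h2
    exact hw1 h2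
  intro hb vb hvb hodd hinv
  obtain ⟨v, hv, rfl⟩ := hvb
  by_cases hv1 : v = 1
  · rw [hv1, map_one, one_mul, inv_one, mul_one] at hinv
    have h1 : hb ^ 2 = 1 := by
      rw [pow_two]
      nth_rewrite 1 [hinv]
      exact inv_mul_cancel hb
    have h2 : orderOf hb ∣ 2 := orderOf_dvd_of_pow_eq_one h1
    have h3 : orderOf hb = 1 := by
      rcases (Nat.dvd_prime Nat.prime_two).mp h2 with h | h
      · exact h
      · rw [h] at hodd; exact absurd hodd (by decide)
    have hb1 : hb = 1 := orderOf_eq_one_iff.mp h3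
    obtain ⟨⟨w, hw⟩, hw1⟩ := (Subgroup.ne_bot_iff_exists_ne_one.mp hV1)
    have hw1' : w ≠ 1 := fun e => hw1 (Subtype.ext e)
    refine ⟨π w, ⟨w, hw, rfl⟩, hinj w hw hw1', ?_⟩
    rw [hb1, mul_one, one_mul]
  · have hv2 : v * v = 1 := by
      have := hV.2 v hv
      rwa [pow_two] at this
    have hvinv : v⁻¹ = v := inv_eq_of_mul_eq_one_left hv2
    obtain ⟨k, hk⟩ := hodd
    set kb := hb ^ (k + 1) with hkb
    have hkb2 : kb * kb = hb := by
      rw [hkb, ← pow_add]
      have : k + 1 + (k + 1) = orderOf hb + 1 := by omega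
      rw [this, pow_succ, pow_orderOf_eq_one, one_mul]
    have hkinv : π v * kb * (π v)⁻¹ = kb⁻¹ := by
      rw [hkb, ← conj_pow, hinv, inv_pow]
    obtain ⟨k₁, hk₁⟩ := hsurj kb
    set v' := k₁ * v * k₁⁻¹ with hv'
    have hv'2 : v'⁻¹ = v' := by
      rw [hv']
      simp only [mul_inv_rev, inv_inv, hvinv, mul_assoc]
    have hπv2 : π v * π v = 1 := by rw [← map_mul, hv2, map_one]
    have hπvinv : (π v)⁻¹ = π v := inv_eq_of_mul_eq_one_left hπv2
    have hπv' : π v' = hb * π v := by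
      rw [hv', map_mul, map_mul, map_inv, hk₁]
      have h1 : π v * kb⁻¹ = kb * π v := by
        have h2 : π v * kb = kb⁻¹ * π v := by
          rw [← hkinv]
          group
        have h3 : kb * (π v * kb) = π v := by rw [h2]; group
        calc π v * kb⁻¹ = (kb * (π v * kb)) * kb⁻¹ := by rw [h3]
          _ = kb * π v := by group
      rw [mul_assoc, h1, ← mul_assoc, hkb2]
    set x := v' * v with hx
    have hπx : π x = hb := by
      rw [hx, map_mul, hπv', mul_assoc, hπv2, mul_one]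
    have hxinv : v * x * v⁻¹ = x⁻¹ := by
      rw [hx, hvinv, mul_inv_rev, hvinv, hv'2, mul_assoc, mul_assoc, hv2, mul_one]
    obtain ⟨u, w', huw, hc, ⟨e, he⟩, hw'odd, hu', hw''⟩ := CfsgLib.Tr.exists_pow_decomp 2 x
    have hπu : π u = 1 := by
      obtain ⟨m, hm⟩ := hu'
      have h1 : (π u) ^ 2 ^ e = 1 := by rw [← map_pow, he, map_one]
      have h2 : (π u) ^ orderOf hb = 1 := by
        rw [← hm]
        simp only [map_zpow, hπx]
        rw [← zpow_natCast, ← zpow_mul, mul_comm, zpow_mul, zpow_natCast, pow_orderOf_eq_one, one_zpow]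
      have h3 := orderOf_dvd_of_pow_eq_one h1
      have h4 := orderOf_dvd_of_pow_eq_one h2
      have h5 : Nat.Coprime (2 ^ e) (orderOf hb) := by
        apply Nat.Coprime.pow_left
        rw [Nat.coprime_two_left]
        exact ⟨k, hk⟩
      exact orderOf_eq_one_iff.mp (Nat.eq_one_of_dvd_coprimes h5 h3 h4)
    have hπw' : π w' = hb := by
      rw [← hπx, ← huw, map_mul, hπu, one_mul]
    have hw'inv : v * w' * v⁻¹ = w'⁻¹ := by
      obtain ⟨m, hm⟩ := hw''
      rw [← hm]
      show v * x ^ m * v⁻¹ = (x ^ m)⁻¹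
      rw [← conj_zpow, hxinv, inv_zpow]
    obtain ⟨w, hw, hw1, hww⟩ := hS w' v hv (Nat.coprime_two_right.mp hw'odd) hw'inv
    refine ⟨π w, ⟨w, hw, rfl⟩, hinj w hw hw1, ?_⟩
    rw [← hπw', ← map_mul, hww, map_mul]

section fixedPoints

variable {H V : Type*} [Group H] [AddCommGroup V] [Finite V] (p : ℕ) [Fact p.Prime] [Module (ZMod p) V]

/-- The fixed points of a subgroup, as a subspace. -/
def fixedSub (ρ : Representation (ZMod p) H V) (B : Subgroup H) : Submodule (ZMod p) V where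
  carrier := {v | ∀ b ∈ B, ρ b v = v}
  add_mem' := by
    intro x y hx hy b hb
    rw [map_add, hx b hb, hy b hb]
  zero_mem' := by
    intro b _
    exact map_zero _
  smul_mem' := by
    intro c x hx b hb
    rw [map_smul, hx b hb]

theorem fixed_count (ρ : Representation (ZMod p) H V) (W : Submodule (ZMod p) V)
    (A B : Subgroup H) [Finite A] [Finite B]
    (hP : Nat.card ↥B * Nat.card {v : V // ∀ b ∈ B, ρ b v = v} ≤ Nat.card ↥A * Nat.card {v : V // ∀ a ∈ A, ρ a v = v})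
    (hBA : B ≤ A) :
    Nat.card ↥B * Nat.card {w : W // ∀ b ∈ B, ρ b w = w} ≤ Nat.card ↥A * Nat.card {w : W // ∀ a ∈ A, ρ a w = w} := by
  classical
  haveI : Module.Finite (ZMod p) V := Module.Finite.of_finite
  have hcard : ∀ S : Submodule (ZMod p) V, Nat.card S = p ^ Module.finrank (ZMod p) S := by
    intro S
    rw [Module.natCard_eq_pow_finrank (K := ZMod p), Nat.card_zmod]
  have h1 : ∀ C : Subgroup H, Nat.card {v : V // ∀ b ∈ C, ρ b v = v} = Nat.card (fixedSub p ρ C) := fun C => rfl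
  have h2 : ∀ C : Subgroup H, Nat.card {w : W // ∀ b ∈ C, ρ b w = w} = Nat.card ↥(fixedSub p ρ C ⊓ W) := by
    intro C
    refine Nat.card_congr ⟨fun w => ⟨w.1.1, w.2, w.1.2⟩, fun v => ⟨⟨v.1, v.2.2⟩, v.2.1⟩, ?_, ?_⟩
    · intro w; rfl
    · intro v; rfl
  rw [h1, h1] at hP
  rw [h2, h2]
  rw [hcard, hcard] at hP
  rw [hcard, hcard]
  set a := Module.finrank (ZMod p) ↥(fixedSub p ρ B ⊓ W) with ha
  set b := Module.finrank (ZMod p) (fixedSub p ρ A) with hb
  set c := Module.finrank (ZMod p) (fixedSub p ρ B) with hc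
  set d := Module.finrank (ZMod p) ↥(fixedSub p ρ A ⊓ W) with hd
  have hle : fixedSub p ρ A ≤ fixedSub p ρ B := fun v hv b hb => hv b (hBA hb)
  have hrank : a + b ≤ c + d := by
    have h3 := Submodule.finrank_sup_add_finrank_inf_eq (fixedSub p ρ B ⊓ W) (fixedSub p ρ A)
    have h4 : (fixedSub p ρ B ⊓ W) ⊓ fixedSub p ρ A = fixedSub p ρ A ⊓ W := by
      apply le_antisymm
      · exact le_inf inf_le_right (inf_le_left.trans inf_le_right)
      · exact le_inf (le_inf (inf_le_left.trans hle) inf_le_right) inf_le_left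
    have h5 : (fixedSub p ρ B ⊓ W) ⊔ fixedSub p ρ A ≤ fixedSub p ρ B := sup_le inf_le_left hle
    have h6 := Submodule.finrank_mono h5
    rw [h4] at h3
    omega
  have hppos : 0 < p := (Fact.out : p.Prime).pos
  have h7 : p ^ (a + b) ≤ p ^ (c + d) := Nat.pow_le_pow_right hppos hrank
  have hb_pos : 0 < p ^ b := Nat.pow_pos hppos
  refine Nat.le_of_mul_le_mul_right ?_ hb_pos
  calc Nat.card ↥B * p ^ a * p ^ b = Nat.card ↥B * p ^ (a + b) := by rw [pow_add]; ring
    _ ≤ Nat.card ↥B * p ^ (c + d) := Nat.mul_le_mul_left _ h7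
    _ = (Nat.card ↥B * p ^ c) * p ^ d := by rw [pow_add]; ring
    _ ≤ (Nat.card ↥A * p ^ b) * p ^ d := Nat.mul_le_mul_right _ hP
    _ = Nat.card ↥A * p ^ d * p ^ b := by ring

end fixedPoints

end CfsgLib.Local
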