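import Cfsg.Agent.Lib.Local.Irred3
import Cfsg.Agent.Lib.Solv.PGroup
import Cfsg.Prelude.Def_AlmostLie

/-! Characteristic `p`, Frattini subgroups and trace maps. -/

namespace CfsgLib.Local

open Subgroup Cfsg
open scoped Pointwise commutatorElement

section charp

variable {G : Type*} [Group G] [Finite G] {p : ℕ} [Fact p.Prime]

/-- `S2760`. -/
theorem charP_of_normal_or_residual (hchar : centralizer (pCore p G : Set G) ≤ pCore p G) (H : Subgroup G)
    (hH : H.Normal ∨ ((pResidual p ↥H).map H.subtype).Normal) :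
    centralizer (pCore p ↥H : Set ↥H) ≤ pCore p ↥H := by
  rcases hH with hH | hH
  · refine charP_of_normalized hchar H ?_
    rw [Subgroup.normalizer_eq_top_iff.mpr hH]
    exact le_top
  · set R := (pResidual p ↥H).map H.subtype with hR
    have hRH : R ≤ H := Subgroup.map_subtype_le _
    have hRchar : centralizer (pCore p ↥R : Set ↥R) ≤ pCore p ↥R := by
      refine charP_of_normalized hchar R ?_
      rw [Subgroup.normalizer_eq_top_iff.mpr hH]
      exact le_top
    have hOO : pCoreOf p R ≤ pCoreOf p H := by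
      refine le_pCoreOf_of_normalized ((Subgroup.map_subtype_le _).trans hRH)
        ((CfsgLib.PLocal.pCore_isPGroup (p := p) (G := R)).map _) ?_
      intro h _
      refine normalizer_le_normalizer_pCoreOf R ?_
      rw [Subgroup.normalizer_eq_top_iff.mpr hH]
      exact Subgroup.mem_top h
    haveI hcn : (pCore p ↥H).Normal := CfsgLib.PLocal.pCore_normal'
    have hCn : (centralizer (pCore p ↥H : Set ↥H)).Normal := inferInstance
    refine (le_trans (le_of_eq rfl) (CfsgLib.PLocal.le_pCore_of_normal _ hCn ?_))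
    intro y
    obtain ⟨u, v, huv, hc, ⟨k, hk⟩, hv, hu', hv'⟩ := CfsgLib.Tr.exists_pow_decomp p (y : ↥H)
    have hvC : v ∈ centralizer (pCore p ↥H : Set ↥H) := (Subgroup.zpowers_le.mpr y.2) hv'
    have hvres : (v : G) ∈ R := ⟨v, Subgroup.subset_closure hv, rfl⟩
    have hv'C : (⟨(v : G), hvres⟩ : R) ∈ centralizer (pCore p ↥R : Set ↥R) := by
      rw [Subgroup.mem_centralizer_iff]
      intro w hw
      have h1 : (w : G) ∈ pCoreOf p H := hOO ⟨w, hw, rfl⟩
      obtain ⟨a, ha, hae⟩ := h1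
      have h2 := (Subgroup.mem_centralizer_iff.mp hvC) a ha
      apply Subtype.ext
      have h3 := congrArg Subtype.val h2
      have hae' : (a : G) = (w : G) := hae
      simp only [MulMemClass.coe_mul] at h3 ⊢
      rwa [hae'] at h3
    obtain ⟨j, hj⟩ := (CfsgLib.PLocal.pCore_isPGroup (p := p) (G := R)) ⟨_, hRchar hv'C⟩
    have hj' : v ^ p ^ j = 1 := by
      apply Subtype.ext
      have := congrArg Subtype.val (congrArg Subtype.val hj)
      simpa using this
    have h4 : orderOf v = 1 := by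
      have h5 := orderOf_dvd_of_pow_eq_one hj'
      exact Nat.eq_one_of_dvd_coprimes (hv.pow_right j) dvd_rfl h5
    have h6 : v = 1 := orderOf_eq_one_iff.mp h4
    rw [h6, mul_one] at huv
    refine ⟨k, Subtype.ext ?_⟩
    show (y : ↥H) ^ p ^ k = 1
    rw [← huv]
    exact hk

/-- `S2818`. -/
theorem centralizes_frattini (P : Subgroup G) (hP : IsPGroup p P) (H : Subgroup G)
    (hH : H ≤ normalizer (P : Set G)) (h : ⁅P, H⁆ ≤ omegaOne p (P ⊓ centralizer (P : Set G))) :
    ⁅(frattini ↥P).map P.subtype, H⁆ = ⊥ := by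
  set Ω := omegaOne p (P ⊓ centralizer (P : Set G)) with hΩ
  have hΩA : Ω ≤ P ⊓ centralizer (P : Set G) := (Subgroup.closure_le _).mpr fun _ hx => hx.1
  have hΩc : ∀ a ∈ Ω, ∀ b ∈ P, a * b = b * a := by
    intro a ha b hb
    exact ((Subgroup.mem_centralizer_iff.mp (Subgroup.mem_inf.mp (hΩA ha)).2) b hb).symm
  have hΩp : ∀ a ∈ Ω, a ^ p = 1 := by
    intro a ha
    induction ha using Subgroup.closure_induction with
    | mem x hx => exact hx.2
    | one => exact one_pow p
    | mul x y hx hy ihx ihy =>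
      have hcomm : Commute x y := hΩc x hx y (Subgroup.mem_inf.mp (hΩA hy)).1
      rw [hcomm.mul_pow, ihx, ihy, one_mul]
    | inv x hx ihx => rw [inv_pow, ihx, inv_one]
  rw [eq_bot_iff, Subgroup.commutator_le]
  rintro _ ⟨x, hx, rfl⟩ g hg
  rw [Subgroup.mem_bot]
  let φ : ↥P →* G :=
    { toFun := fun a => ⁅(a : G), g⁆
      map_one' := by simp
      map_mul' := by
        intro a b
        have h1 : ⁅(a : G), g⁆ ∈ Ω := h (Subgroup.commutator_mem_commutator a.2 hg)
        have h2 : ⁅(b : G), g⁆ ∈ Ω := h (Subgroup.commutator_mem_commutator b.2 hg)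
        have e : ⁅((a * b : ↥P) : G), g⁆ = (a : G) * ⁅(b : G), g⁆ * (a : G)⁻¹ * ⁅(a : G), g⁆ := by
          simp only [commutatorElement_def, MulMemClass.coe_mul]; group
        have e2 : (a : G) * ⁅(b : G), g⁆ * (a : G)⁻¹ = ⁅(b : G), g⁆ := by
          rw [← hΩc _ h2 a a.2]; group
        rw [e, e2]
        exact hΩc _ h2 _ (Subgroup.mem_inf.mp (hΩA h1)).1 }
  have hφ : ∀ a : ↥P, φ a ∈ Ω := fun a => h (Subgroup.commutator_mem_commutator a.2 hg)
  have hfr : frattini ↥P ≤ φ.ker := by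
    refine CfsgLib.Solv.frattini_le_of_commutator_pow hP φ.ker ?_ ?_
    · rw [_root_.commutator_def, Subgroup.commutator_le]
      intro a _ b _
      rw [MonoidHom.mem_ker, map_commutatorElement, commutatorElement_eq_one_iff_mul_comm]
      exact hΩc _ (hφ a) _ (Subgroup.mem_inf.mp (hΩA (hφ b))).1
    · intro a
      rw [MonoidHom.mem_ker, map_pow]
      exact hΩp _ (hφ a)
  exact hfr hx

/-- `S2781`. -/
theorem commutator_sup_fixed (V H : Subgroup G) (hV : IsElementaryAbelian p V)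
    (hHV : H ≤ normalizer (V : Set G)) (R : Subgroup G) (hR : R = (pResidual p ↥H).map H.subtype)
    (S : Sylow p ↥R) (T : Subgroup G) (hT : T = ((S : Subgroup ↥R).map R.subtype))
    (hgen : ∀ W : Subgroup G, H ≤ normalizer (W : Set G) → (V ⊓ centralizer ((T : Subgroup G) : Set G)) ≤ W → V ≤ W) :
    ⁅V, R⁆ ⊔ (V ⊓ centralizer ((R : Subgroup G) : Set G)) = V := by
  classical
  have hRH : R ≤ H := by rw [hR]; exact Subgroup.map_subtype_le _
  have hRV : R ≤ normalizer (V : Set G) := hRH.trans hHV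
  have hcommV : ∀ a ∈ V, ∀ b ∈ V, a * b = b * a := by
    intro a ha b hb
    have := hV.1.is_comm.comm ⟨a, ha⟩ ⟨b, hb⟩
    exact congrArg Subtype.val this
  set A := ⁅V, R⁆ with hA
  set B := V ⊓ centralizer ((R : Subgroup G) : Set G) with hB
  have hAV : A ≤ V := commutator_le_of_normalizer hRV
  have hABV : A ⊔ B ≤ V := sup_le hAV inf_le_left
  refine le_antisymm hABV (hgen _ ?_ ?_)
  · intro h hh
    have hRn : h ∈ normalizer (R : Set G) := by
      rw [hR, mem_normalizer_iff_cj]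
      refine cj_eq_of_le ?_ le_rfl
      rintro _ ⟨r, ⟨r₀, hr₀, rfl⟩, rfl⟩
      refine ⟨(⟨h, hh⟩ : H) * r₀ * (⟨h, hh⟩ : H)⁻¹, ?_, ?_⟩
      · exact (CfsgLib.Tr.pResidual_normal p ↥H).conj_mem _ hr₀ _
      · simp
    have hVn := hHV hh
    rw [mem_normalizer_iff_cj, show cj h (A ⊔ B) = cj h A ⊔ cj h B from Subgroup.map_sup _ _ _]
    have h1 : cj h A = A := by
      rw [hA, cj_commutator, mem_normalizer_iff_cj.mp hVn, mem_normalizer_iff_cj.mp hRn]
    have h2 : cj h B = B := by
      refine cj_eq_of_le ?_ le_rfl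
      rintro _ ⟨x, hx, rfl⟩
      obtain ⟨hx1, hx2⟩ := Subgroup.mem_inf.mp hx
      refine Subgroup.mem_inf.mpr ⟨(Subgroup.mem_normalizer_iff.mp hVn x).mp hx1, ?_⟩
      rw [Subgroup.mem_centralizer_iff]
      intro r hr
      have hr' : h⁻¹ * r * h ∈ R := by
        have := (Subgroup.mem_normalizer_iff.mp (Subgroup.inv_mem _ hRn) r).mp hr
        simpa using this
      have h3 := (Subgroup.mem_centralizer_iff.mp hx2) _ hr'
      show r * (h * x * h⁻¹) = h * x * h⁻¹ * r
      have h4 : r * (h * x * h⁻¹) = h * ((h⁻¹ * r * h) * x) * h⁻¹ := by group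
      have h5 : h * x * h⁻¹ * r = h * (x * (h⁻¹ * r * h)) * h⁻¹ := by group
      rw [h4, h5, h3]
    rw [h1, h2]
  · -- the trace
    intro v hv
    obtain ⟨hvV, hvC⟩ := Subgroup.mem_inf.mp hv
    letI : CommGroup V := { (inferInstance : Group V) with
      mul_comm := fun a b => Subtype.ext (hcommV a a.2 b b.2) }
    have hvfix : ∀ s ∈ (S : Subgroup ↥R), (s : G) * v * (s : G)⁻¹ = v := by
      intro s hs
      have hsT : (s : G) ∈ T := by rw [hT]; exact ⟨s, hs, rfl⟩
      have := (Subgroup.mem_centralizer_iff.mp hvC) _ hsT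
      rw [this]; group
    let q := ↥R ⧸ (S : Subgroup ↥R)
    haveI : Fintype q := Fintype.ofFinite q
    let conjV : ↥R → V := fun r => ⟨(r : G) * v * (r : G)⁻¹, (Subgroup.mem_normalizer_iff.mp (hRV r.2) v).mp hvV⟩
    have hconj : ∀ r r' : ↥R, r⁻¹ * r' ∈ (S : Subgroup ↥R) → conjV r = conjV r' := by
      intro r r' hrr
      apply Subtype.ext
      show (r : G) * v * (r : G)⁻¹ = (r' : G) * v * (r' : G)⁻¹
      have h1 := hvfix _ hrr
      have h2 : (((r⁻¹ * r' : ↥R)) : G) = (r : G)⁻¹ * (r' : G) := by simp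
      rw [h2] at h1
      have h3 : (r' : G) * v * (r' : G)⁻¹ = (r : G) * ((r : G)⁻¹ * (r' : G) * v * ((r : G)⁻¹ * (r' : G))⁻¹) * (r : G)⁻¹ := by
        group
      rw [h3, h1]
    let f : q → V := fun c => conjV c.out
    let τ : V := ∏ c : q, f c
    have hfprop : ∀ (r₀ : ↥R) (c : q), f (r₀ • c) = ⟨(r₀ : G) * (f c : G) * (r₀ : G)⁻¹,
        (Subgroup.mem_normalizer_iff.mp (hRV r₀.2) _).mp (f c).2⟩ := by
      intro r₀ c
      have h1 : (r₀ • c).out⁻¹ * (r₀ * c.out) ∈ (S : Subgroup ↥R) := by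
        have h2 : ((r₀ * c.out : ↥R) : ↥R ⧸ (S : Subgroup ↥R)) = r₀ • c := by
          calc ((r₀ * c.out : ↥R) : ↥R ⧸ (S : Subgroup ↥R)) = r₀ • ((c.out : ↥R) : ↥R ⧸ (S : Subgroup ↥R)) := rfl
            _ = r₀ • c := by rw [QuotientGroup.out_eq']
        rw [← QuotientGroup.eq, h2, QuotientGroup.out_eq']
      have h3 := hconj _ _ h1
      apply Subtype.ext
      have h4 := congrArg Subtype.val h3
      have h5 : (conjV (r₀ * c.out) : G) = (r₀ : G) * (f c : G) * (r₀ : G)⁻¹ := by
        show ((r₀ * c.out : ↥R) : G) * v * ((r₀ * c.out : ↥R) : G)⁻¹ = (r₀ : G) * (((c.out : ↥R) : G) * v * ((c.out : ↥R) : G)⁻¹) * (r₀ : G)⁻¹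
        simp only [MulMemClass.coe_mul]; group
      exact h4.trans h5
    have hτC : (τ : G) ∈ B := by
      refine Subgroup.mem_inf.mpr ⟨τ.2, ?_⟩
      rw [Subgroup.mem_centralizer_iff]
      intro r hr
      -- conjugation by `r` permutes the factors
      let cr : V →* V :=
        { toFun := fun x => ⟨r * x * r⁻¹, (Subgroup.mem_normalizer_iff.mp (hRV hr) _).mp x.2⟩
          map_one' := by ext; simp
          map_mul' := by intro a b; ext; simp [mul_assoc] }
      have h1 : cr τ = τ := by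
        show cr (∏ c : q, f c) = ∏ c : q, f c
        rw [map_prod]
        refine Fintype.prod_equiv (MulAction.toPerm (⟨r, hr⟩ : ↥R)) _ _ ?_
        intro c
        have := hfprop ⟨r, hr⟩ c
        exact this.symm
      have h2 : r * (τ : G) * r⁻¹ = τ := congrArg Subtype.val h1
      calc r * (τ : G) = (r * (τ : G) * r⁻¹) * r := by group
        _ = (τ : G) * r := by rw [h2]
    let w : V := ⟨v, hvV⟩
    have hτ2 : τ * (w ^ Fintype.card q)⁻¹ ∈ A.subgroupOf V := by
      have h1 : τ * (w ^ Fintype.card q)⁻¹ = ∏ c : q, (f c * w⁻¹) := by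
        rw [Finset.prod_mul_distrib, Finset.prod_const, Finset.card_univ, inv_pow]
      rw [h1]
      refine Subgroup.prod_mem _ fun c _ => ?_
      rw [Subgroup.mem_subgroupOf]
      have h2 : ((f c * w⁻¹ : V) : G) = (⁅v, ((c.out : ↥R) : G)⁆)⁻¹ := by
        show ((c.out : ↥R) : G) * v * ((c.out : ↥R) : G)⁻¹ * v⁻¹ = _
        rw [commutatorElement_def]; group
      rw [h2]
      exact Subgroup.inv_mem _ (Subgroup.commutator_mem_commutator hvV (c.out : ↥R).2)
    have hτ3 : v ^ Fintype.card q ∈ A ⊔ B := by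
      have h1 : (τ * (w ^ Fintype.card q)⁻¹ : V) = (τ : V) * (w ^ Fintype.card q)⁻¹ := rfl
      have h2 : v ^ Fintype.card q = (((τ * (w ^ Fintype.card q)⁻¹ : V) : G))⁻¹ * (τ : G) := by
        simp only [MulMemClass.coe_mul, InvMemClass.coe_inv, SubmonoidClass.coe_pow, mul_inv_rev, inv_inv, w]
        group
      rw [h2]
      exact Subgroup.mul_mem _ (Subgroup.inv_mem _ (Subgroup.mem_sup_left (Subgroup.mem_subgroupOf.mp hτ2)))
        (Subgroup.mem_sup_right hτC)
    have hindex : ¬ p ∣ Fintype.card q := by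
      have h1 := S.not_dvd_index
      rwa [Subgroup.index_eq_card, Nat.card_eq_fintype_card] at h1
    have hcop : (Fintype.card q).Coprime p := ((Nat.Prime.coprime_iff_not_dvd Fact.out).mpr hindex).symm
    have hvp : v ^ p ∈ A ⊔ B := by
      rw [hV.2 v hvV]; exact Subgroup.one_mem _
    exact mem_of_pow_coprime hcop hτ3 hvp

end charp

end CfsgLib.Local
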