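import Cfsg.Agent.Lib.Local.Misc2
import Cfsg.Prelude.Def_SylowControl
import Cfsg.Prelude.Def_JComponents
import Cfsg.Prelude.Def_Involutions

/-! Semi-extraspecial groups; factorizations; strongly embedded `2`-locals; `J`-components. -/

namespace CfsgLib.Local

open Subgroup Cfsg
open scoped Pointwise commutatorElement

section semi

variable {X : Type*} [Group X] [Finite X] {p : ℕ} [Fact p.Prime]

/-- `S2907`. -/
theorem semiExtraspecial_commutators (hX : IsSemiExtraspecial p X) (x : X) (hx : x ∉ center X) :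
    (centralizer ({x} : Set X)).index = Nat.card ↥(center X) ∧
      {z : X | ∃ y : X, z = x * y * x⁻¹ * y⁻¹} = (center X : Set X) := by
  obtain ⟨⟨hp, hΦ, hcomm⟩, hY⟩ := hX
  have hmem : ∀ y : X, ⁅x, y⁆ ∈ center X := fun y => by
    rw [← hcomm, _root_.commutator_def]
    exact Subgroup.commutator_mem_commutator (Subgroup.mem_top x) (Subgroup.mem_top y)
  let φ : X →* X :=
    { toFun := fun y => ⁅x, y⁆
      map_one' := by simp
      map_mul' := by
        intro y z
        have e : ⁅x, y * z⁆ = ⁅x, y⁆ * (y * ⁅x, z⁆ * y⁻¹) := by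
          simp only [commutatorElement_def]; group
        have h1 := (Subgroup.mem_center_iff.mp (hmem z)) y
        have e2 : y * ⁅x, z⁆ * y⁻¹ = ⁅x, z⁆ := by rw [h1]; group
        rw [e, e2] }
  have hφ : ∀ y, φ y = ⁅x, y⁆ := fun _ => rfl
  have hker : φ.ker = centralizer ({x} : Set X) := by
    ext y
    rw [MonoidHom.mem_ker, hφ, commutatorElement_eq_one_iff_mul_comm, Subgroup.mem_centralizer_singleton_iff]
    exact eq_comm
  have hle : φ.range ≤ center X := by
    rintro _ ⟨y, rfl⟩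
    exact hmem y
  have hrange : φ.range = center X := by
    by_contra hne
    have hne' : φ.range.subgroupOf (center X) ≠ ⊤ := by
      intro h
      apply hne
      exact le_antisymm hle (Subgroup.subgroupOf_eq_top.mp h)
    rcases eq_top_or_exists_le_coatom (φ.range.subgroupOf (center X)) with h | ⟨A, hA, hIA⟩
    · exact hne' h
    set Y := A.map (center X).subtype with hYdef
    have hYZ : Y ≤ center X := Subgroup.map_subtype_le _
    have hYA : Y.subgroupOf (center X) = A :=
      Subgroup.comap_map_eq_self_of_injective (center X).subtype_injective A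
    have hIY : φ.range ≤ Y := by
      intro z hz
      exact ⟨⟨z, hle hz⟩, hIA (Subgroup.mem_subgroupOf.mpr hz), rfl⟩
    obtain ⟨hYn, hext⟩ := hY Y hYZ (by rw [hYA]; exact hA)
    haveI := hYn
    obtain ⟨⟨_, _, _⟩, hcard⟩ := hext
    set π := QuotientGroup.mk' Y with hπ
    have hsurj : Function.Surjective π := QuotientGroup.mk'_surjective Y
    have hxc : π x ∈ center (X ⧸ Y) := by
      rw [Subgroup.mem_center_iff]
      intro yb
      obtain ⟨y, rfl⟩ := hsurj yb
      have h1 : ⁅x, y⁆ ∈ Y := hIY ⟨y, rfl⟩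
      have h2 : π ⁅x, y⁆ = 1 := by
        rw [hπ, QuotientGroup.mk'_apply, QuotientGroup.eq_one_iff]; exact h1
      rw [map_commutatorElement, commutatorElement_eq_one_iff_mul_comm] at h2
      exact h2.symm
    have hZc : (center X).map π ≤ center (X ⧸ Y) := by
      rintro _ ⟨z, hz, rfl⟩
      rw [Subgroup.mem_center_iff]
      intro yb
      obtain ⟨y, rfl⟩ := hsurj yb
      rw [← map_mul, ← map_mul, (Subgroup.mem_center_iff.mp hz) y]
    have hZne : (center X).map π ≠ ⊥ := by
      intro hb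
      apply hA.1
      rw [← hYA, Subgroup.subgroupOf_eq_top]
      have h1 := (Subgroup.map_eq_bot_iff _).mp hb
      rwa [hπ, QuotientGroup.ker_mk'] at h1
    have hZeq : (center X).map π = center (X ⧸ Y) := by
      have h1 := Subgroup.card_dvd_of_le hZc
      rw [hcard] at h1
      rcases (Nat.dvd_prime Fact.out).mp h1 with h2 | h2
      · exact absurd (Subgroup.card_eq_one.mp h2) hZne
      · exact Subgroup.eq_of_le_of_card_ge hZc (by rw [hcard, h2])
    rw [← hZeq] at hxc
    obtain ⟨z, hz, hzx⟩ := hxc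
    have h1 : z⁻¹ * x ∈ Y := by
      have h2 : π (z⁻¹ * x) = 1 := by rw [map_mul, map_inv, hzx]; group
      rw [hπ, QuotientGroup.mk'_apply, QuotientGroup.eq_one_iff] at h2
      exact h2
    have h3 := (center X).mul_mem hz (hYZ h1)
    apply hx
    simpa using h3
  constructor
  · rw [← hker, Subgroup.index_ker, hrange]
  · ext z
    constructor
    · rintro ⟨y, rfl⟩
      exact hmem y
    · intro hz
      have hz' : z ∈ φ.range := by rw [hrange]; exact hz
      obtain ⟨y, rfl⟩ := hz'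
      exact ⟨y, rfl⟩

end semi

section factor

variable {G : Type*} [Group G] [Finite G] {p : ℕ} [Fact p.Prime]

theorem mem_subgroupConjRight {g x : G} {X : Subgroup G} :
    x ∈ subgroupConjRight g X ↔ g * x * g⁻¹ ∈ X := by
  unfold subgroupConjRight
  constructor
  · rintro ⟨y, hy, rfl⟩
    have : g * ((MulAut.conj g⁻¹).toMonoidHom y) * g⁻¹ = y := by
      simp [MulAut.conj_apply, mul_assoc]
    rw [this]; exact hy
  · intro h
    refine ⟨_, h, ?_⟩
    simp [MulAut.conj_apply, mul_assoc]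

/-- `S2940`. -/
theorem exists_sylow_between (S : Sylow p G) (G₁ G₂ : Subgroup G) (h1 : (S : Subgroup G) ≤ G₁)
    (h2 : (S : Subgroup G) ≤ G₂) (hfact : ∀ g : G, ∃ g₁ ∈ G₁, ∃ g₂ ∈ G₂, g = g₁ * g₂) (g : G) :
    ∃ U : Sylow p G, (S : Subgroup G) ⊓ subgroupConjRight g (S : Subgroup G) ≤ (U : Subgroup G) ∧
      (U : Subgroup G) ≤ G₁ ⊓ subgroupConjRight g G₂ := by
  obtain ⟨a, ha, b, hb, hab⟩ := hfact g⁻¹
  have hg : g = b⁻¹ * a⁻¹ := by
    have : g = (g⁻¹)⁻¹ := by group
    rw [this, hab]; group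
  set K := G₁ ⊓ subgroupConjRight g G₂ with hK
  have hS₁K : ((a • S : Sylow p G) : Subgroup G) ≤ K := by
    intro x hx
    rw [CfsgLib.Trans.mem_sylow_smul] at hx
    refine Subgroup.mem_inf.mpr ⟨?_, ?_⟩
    · have := G₁.mul_mem (G₁.mul_mem ha (h1 hx)) (G₁.inv_mem ha)
      simpa [mul_assoc] using this
    · rw [mem_subgroupConjRight]
      have e : g * x * g⁻¹ = b⁻¹ * (a⁻¹ * x * a) * b := by rw [hg]; group
      rw [e]
      exact G₂.mul_mem (G₂.mul_mem (G₂.inv_mem hb) (h2 hx)) hb
  have hDK : (S : Subgroup G) ⊓ subgroupConjRight g (S : Subgroup G) ≤ K := by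
    intro x hx
    obtain ⟨hx1, hx2⟩ := Subgroup.mem_inf.mp hx
    refine Subgroup.mem_inf.mpr ⟨h1 hx1, ?_⟩
    rw [mem_subgroupConjRight] at hx2 ⊢
    exact h2 hx2
  obtain ⟨c, hc, hcD⟩ := CfsgLib.Lead.exists_conj_into_sylow (a • S) K hS₁K _ hDK (S.2.to_le inf_le_left)
  refine ⟨c • (a • S), ?_, ?_⟩
  · intro x hx
    rw [CfsgLib.Trans.mem_sylow_smul]
    exact hcD x hx
  · intro x hx
    rw [CfsgLib.Trans.mem_sylow_smul] at hx
    have := K.mul_mem (K.mul_mem hc (hS₁K hx)) (K.inv_mem hc)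
    simpa [mul_assoc] using this

/-- `S2947`. -/
theorem stronglyEmbedded_iff_straddling (hO : pCore 2 G = ⊥) (S : Sylow 2 G) (M : Subgroup G) (hM : IsTwoLocal M)
    (hMJ : normalizer (thompsonSubgroupOf 2 (S : Subgroup G) : Set G) ≤ M) :
    IsStronglyEmbedded M ↔ straddlingTwoSubgroups M = ∅ := by
  haveI : Fact (Nat.Prime 2) := ⟨Nat.prime_two⟩
  constructor
  · rintro ⟨hne, heven, hodd⟩
    have hcl : IsClassicallyEmbedded 2 M := ⟨hne, heven.two_dvd, fun g hg h =>
      (Nat.not_even_iff_odd.mpr (hodd g hg)) (even_iff_two_dvd.mpr h)⟩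
    have hs := strongly_of_classical hcl
    rw [Set.eq_empty_iff_forall_notMem]
    rintro T ⟨hTp, hTne, hTM, L, ⟨R, hRp, hRne, rfl⟩, hTL, hLM⟩
    apply hLM
    have hX : IsPGroup 2 ↥(T ⊔ R) := IsPGroup.to_sup_of_normal_right' hTp hRp hTL
    have hXM : T ⊔ R ≤ M := by
      by_contra hn
      have hlt : (T ⊔ R) ⊓ M < T ⊔ R := lt_of_le_of_ne inf_le_left fun e => hn (inf_eq_left.mp e)
      obtain ⟨t, ht1, ht2, ht3⟩ := exists_normalizing hX hlt
      have hne' : (T ⊔ R) ⊓ M ≠ ⊥ := by
        intro hb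
        apply hTne
        rw [eq_bot_iff, ← hb]
        exact le_inf le_sup_left hTM
      have := normalizer_le_of_strongly hs inf_le_right (hX.to_le inf_le_left) hne' ht3
      exact ht2 (Subgroup.mem_inf.mpr ⟨ht1, this⟩)
    exact normalizer_le_of_strongly hs (le_sup_right.trans hXM) hRp hRne
  · intro hs
    obtain ⟨Q, hQp, hQne, rfl⟩ := hM
    have hne : normalizer (Q : Set G) ≠ ⊤ := by
      intro htop
      have h1 := CfsgLib.PLocal.le_pCore_of_normal Q (Subgroup.normalizer_eq_top_iff.mp htop) hQp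
      rw [hO] at h1
      exact hQne (le_bot_iff.mp h1)
    have hSM : (S : Subgroup G) ≤ normalizer (Q : Set G) :=
      (Subgroup.le_normalizer.trans (CfsgLib.PLocal.normalizer_le_normalizer_thompsonOf (S : Subgroup G))).trans hMJ
    have hSne : (S : Subgroup G) ≠ ⊥ := by
      intro hb
      obtain ⟨x, hx, hxo⟩ := exists_order_p (dvd_card_of_ne_bot hQp hQne)
      obtain ⟨c, -, hcx⟩ := CfsgLib.Lead.exists_conj_into_sylow S ⊤ le_top (zpowers x) le_top
        (isPGroup_zpowers_of_order hxo)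
      have h2 := hcx x (Subgroup.mem_zpowers x)
      rw [hb, Subgroup.mem_bot] at h2
      have h3 : x = 1 := by
        have : x = c * (c⁻¹ * x * c) * c⁻¹ := by group
        rw [this, h2]; group
      rw [h3, orderOf_one] at hxo
      exact (Nat.prime_two).one_lt.ne hxo
    have hd : 2 ∣ Nat.card ↥(normalizer (Q : Set G)) :=
      (dvd_card_of_ne_bot S.2 hSne).trans (Subgroup.card_dvd_of_le hSM)
    have hN : ∀ A : Subgroup G, A ≤ normalizer (Q : Set G) → IsPGroup 2 A → A ≠ ⊥ →
        normalizer (A : Set G) ≤ normalizer (Q : Set G) := by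
      intro A hA hAp hAne
      by_contra hn
      have hmem : A ∈ straddlingTwoSubgroups (normalizer (Q : Set G)) :=
        ⟨hAp, hAne, hA, normalizer (A : Set G), ⟨A, hAp, hAne, rfl⟩, Subgroup.le_normalizer, hn⟩
      rw [hs] at hmem
      exact hmem
    have hcl := classical_of_strongly (isStronglyPEmbedded_of_normalizer hne hd hN)
    refine ⟨hne, even_iff_two_dvd.mpr hd, fun g hg => ?_⟩
    rw [← Nat.not_even_iff_odd, even_iff_two_dvd]
    exact hcl.2.2 g hg

/-- `S2941`. -/
theorem jComponent_normalized {T K : Subgroup G} (hT : IsPGroup 2 T) (hK : IsJComponent T K) (Q : Subgroup G)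
    (hQ1 : K ⊔ thompsonSubgroupOf 2 T ≤ normalizer (Q : Set G))
    (hQ2 : Q ≤ normalizer (thompsonSubgroupOf 2 T : Set G)) : Q ≤ normalizer (K : Set G) := by
  haveI : Fact (Nat.Prime 2) := ⟨Nat.prime_two⟩
  set J := thompsonSubgroupOf 2 T with hJ
  have hJp : IsPGroup 2 J := hT.to_le (CfsgLib.PLocal.thompsonOf_le T)
  obtain ⟨hgen, hcomm, -⟩ := hK
  have hres : resOf 2 K = K := by
    have e : {x | x ∈ K ∧ (orderOf x).Coprime 2} = {g : G | g ∈ K ∧ Odd (orderOf g)} := by
      ext x
      simp only [Set.mem_setOf_eq, Nat.coprime_two_right]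
    unfold resOf
    rw [e]
    exact hgen
  have hJK : J ≤ normalizer (K : Set G) := by
    have h1 := left_le_normalizer_commutator J K
    rwa [Subgroup.commutator_comm, hcomm] at h1
  have hres2 := resOf_sup_eq hres hJp hJK
  intro q hq
  have hQK : K ≤ normalizer (Q : Set G) := le_sup_left.trans hQ1
  have hQJ : J ≤ normalizer (Q : Set G) := le_sup_right.trans hQ1
  have h1 : cj q K = ⁅cj q K, J⁆ := by
    have h2 := cj_commutator q K J
    rw [hcomm, mem_normalizer_iff_cj.mp (hQ2 hq)] at h2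
    exact h2
  have h3 : cj q K ≤ J ⊔ K := by
    rw [h1, Subgroup.commutator_le]
    rintro _ ⟨k, hk, rfl⟩ j hj
    show ⁅q * k * q⁻¹, j⁆ ∈ J ⊔ K
    set c := k⁻¹ * q * k * q⁻¹ with hc
    have hcQ : c ∈ Q := by
      have h4 : k⁻¹ * q * k ∈ Q := by
        have := (Subgroup.mem_normalizer_iff.mp (Subgroup.inv_mem _ (hQK hk)) q).mp hq
        simpa using this
      exact Q.mul_mem h4 (Q.inv_mem hq)
    have e : q * k * q⁻¹ = k * c := by rw [hc]; group
    rw [e]
    have e2 : ⁅k * c, j⁆ = k * ⁅c, j⁆ * k⁻¹ * ⁅k, j⁆ := by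
      simp only [commutatorElement_def]; group
    rw [e2]
    have h5 : ⁅c, j⁆ ∈ J := by
      rw [commutatorElement_def]
      exact J.mul_mem ((Subgroup.mem_normalizer_iff.mp (hQ2 hcQ) j).mp hj) (J.inv_mem hj)
    have h6 : ⁅k, j⁆ ∈ K := by
      have := Subgroup.commutator_mem_commutator hk hj
      rwa [hcomm] at this
    exact Subgroup.mul_mem _ (Subgroup.mul_mem _ (Subgroup.mul_mem _ (Subgroup.mem_sup_right hk)
      (Subgroup.mem_sup_left h5)) (Subgroup.inv_mem _ (Subgroup.mem_sup_right hk)))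
      (Subgroup.mem_sup_right h6)
  have h7 : cj q K ≤ K := by
    have e3 : cj q K = (closure {g : G | g ∈ K ∧ Odd (orderOf g)}).map (MulAut.conj q).toMonoidHom := by
      rw [hgen]
    rw [e3, MonoidHom.map_closure, Subgroup.closure_le]
    rintro _ ⟨g, ⟨hg1, hg2⟩, rfl⟩
    have hmem : (MulAut.conj q).toMonoidHom g ∈ J ⊔ K := h3 ⟨g, hg1, rfl⟩
    have hord : (orderOf ((MulAut.conj q).toMonoidHom g)).Coprime 2 := by
      rw [Nat.coprime_two_right]
      have : orderOf ((MulAut.conj q).toMonoidHom g) = orderOf g := MulEquiv.orderOf_eq (MulAut.conj q) g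
      rw [this]; exact hg2
    have h8 : (MulAut.conj q).toMonoidHom g ∈ resOf 2 (J ⊔ K) := Subgroup.subset_closure ⟨hmem, hord⟩
    rwa [hres2] at h8
  rw [mem_normalizer_iff_cj]
  exact cj_eq_of_le h7 le_rfl

end factor

end CfsgLib.Local
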