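import Cfsg.Agent.Lib.Local.Reduced2
import Cfsg.Agent.Lib.Local.CoprimeGen
import Cfsg.Agent.Lib.H3.AlpFus
import Cfsg.Agent.Lib.Local.WeakDecomp
import Cfsg.Agent.Lib.Local.Isolated
import Cfsg.Agent.Lib.Local.Irred3

/-! `p`-reduced normal subgroups: normal closures and Sylow normalizers of centralizers. -/

set_option autoImplicit false
set_option linter.style.haveILetI false
set_option linter.unusedSectionVars false

namespace CfsgLib.Local
open Cfsg Subgroup CfsgLib.PLocal CfsgLib.Solv
open scoped commutatorElement Pointwise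

variable {L : Type*} [Group L] [Finite L] {p : ℕ} [Fact p.Prime]

theorem omegaOne_normal_of {Z : Subgroup L} (hZ : Z.Normal) : (omegaOne p Z).Normal := by
  refine ⟨fun x hx g => ?_⟩
  induction hx using Subgroup.closure_induction with
  | mem x hx =>
    refine Subgroup.subset_closure ⟨hZ.conj_mem x hx.1 g, ?_⟩
    rw [conj_pow, hx.2]; simp
  | one => simp
  | mul x y _ _ ihx ihy =>
    have e : g * (x * y) * g⁻¹ = g * x * g⁻¹ * (g * y * g⁻¹) := by group
    rw [e]
    exact mul_mem ihx ihy
  | inv x _ ih =>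
    have e : g * x⁻¹ * g⁻¹ = (g * x * g⁻¹)⁻¹ := by group
    rw [e]
    exact inv_mem ih

/-- `p`-reduced in an overgroup of a Sylow subgroup: a normal subgroup acting as a `p`-group on the normal closure. -/
theorem centralizes_closure_of_reduced (T : Sylow p L) (R : Subgroup L) (hTR : (T : Subgroup L) ≤ R)
    (X : Subgroup ↥R) (hX : IsPReducedNormal p X) (V : Subgroup L) [hV : V.Normal]
    (hXV : X.map R.subtype ≤ V) (D : Subgroup L) (hD : D.Normal)
    (hDp : ∀ d ∈ D, ∃ k : ℕ, d ^ p ^ k ∈ centralizer (V : Set L)) :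
    D ≤ centralizer ((X.map R.subtype : Subgroup L) : Set L) := by
  set C : Subgroup L := centralizer (V : Set L) with hC
  haveI hCn : C.Normal := CfsgLib.Local.centralizer_normal_of_normal V hV
  have hCX : C ≤ centralizer ((X.map R.subtype : Subgroup L) : Set L) := Subgroup.centralizer_le hXV
  set π := QuotientGroup.mk' C with hπ
  have hπs : Function.Surjective π := QuotientGroup.mk'_surjective C
  have hDn : (D.map π).Normal := hD.map _ hπs
  have hDpg : IsPGroup p (D.map π) := by
    rintro ⟨_, d, hd, rfl⟩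
    obtain ⟨k, hk⟩ := hDp d hd
    refine ⟨k, Subtype.ext ?_⟩
    show (π d) ^ p ^ k = 1
    rw [← map_pow]
    exact (QuotientGroup.eq_one_iff _).mpr hk
  have hle := normal_le_sylow hDn hDpg (T.mapSurjective hπs)
  -- the preimage
  set B : Subgroup L := (D.map π).comap π with hB
  have hBn : B.Normal := hDn.comap π
  have hBR : (B.subgroupOf R).Normal := inferInstance
  have hBp : ∀ b ∈ B.subgroupOf R, ∃ k : ℕ, b ^ p ^ k ∈ centralizer (X : Set ↥R) := by
    intro b hb
    have hb' : π (b : L) ∈ D.map π := Subgroup.mem_subgroupOf.mp hb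
    obtain ⟨k, hk⟩ := hDpg ⟨_, hb'⟩
    refine ⟨k, ?_⟩
    have h1 : (π (b : L)) ^ p ^ k = 1 := congrArg Subtype.val hk
    rw [← map_pow] at h1
    have h2 : (b : L) ^ p ^ k ∈ C := (QuotientGroup.eq_one_iff _).mp h1
    rw [Subgroup.mem_centralizer_iff]
    intro x hx
    apply Subtype.ext
    have h3 := (Subgroup.mem_centralizer_iff.mp (hCX h2)) (x : L) ⟨x, hx, rfl⟩
    simpa using h3
  have hBC := centralizes_of_reduced hX hBR hBp
  intro d hd
  have hπd : π d ∈ ((T.mapSurjective hπs : Sylow p _) : Subgroup _) := hle ⟨d, hd, rfl⟩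
  obtain ⟨t, ht, hte⟩ : ∃ t ∈ (T : Subgroup L), π t = π d := hπd
  have htR := hTR ht
  have htB : t ∈ B := by
    show π t ∈ D.map π
    rw [hte]
    exact ⟨d, hd, rfl⟩
  have h4 : t⁻¹ * d ∈ C := by
    rw [← QuotientGroup.eq_one_iff (N := C)]
    show π (t⁻¹ * d) = 1
    rw [map_mul, map_inv, hte, inv_mul_cancel]
  have h5 : t ∈ centralizer ((X.map R.subtype : Subgroup L) : Set L) := by
    rw [Subgroup.mem_centralizer_iff]
    rintro _ ⟨x, hx, rfl⟩
    have h6 := (Subgroup.mem_centralizer_iff.mp (hBC (Subgroup.mem_subgroupOf.mpr htB :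
      (⟨t, htR⟩ : ↥R) ∈ B.subgroupOf R))) x hx
    exact congrArg Subtype.val h6
  have e : d = t * (t⁻¹ * d) := by group
  rw [e]
  exact mul_mem h5 (hCX h4)

/-- `S2802`. -/
theorem closure_isPReduced (hchar : centralizer (pCore p L : Set L) ≤ pCore p L) (T : Sylow p L)
    (R : Subgroup L) (hTR : (T : Subgroup L) ≤ R) (X : Subgroup ↥R) (hX : IsPReducedNormal p X) :
    IsPReducedNormal p (normalClosure ((X.map R.subtype : Subgroup L) : Set L)) := by
  set X' : Subgroup L := X.map R.subtype with hX'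
  set Q := pCore p L with hQ
  have hQT : Q ≤ T := pCore_le_sylow T
  have hQR : Q ≤ R := hQT.trans hTR
  have hQn : Q.Normal := pCore_normal'
  have hQp : IsPGroup p Q := pCore_isPGroup
  have hQ' : Q.subgroupOf R ≤ pCore p ↥R :=
    le_pCore_of_normal _ inferInstance (IsPGroup.comap_subtype hQp)
  have hXC : X' ≤ centralizer (Q : Set L) := by
    rintro _ ⟨x, hx, rfl⟩
    rw [Subgroup.mem_centralizer_iff]
    intro q hq
    have h1 : (⟨q, hQR hq⟩ : ↥R) ∈ pCore p ↥R := hQ' (Subgroup.mem_subgroupOf.mpr hq)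
    have h2 := Subgroup.mem_centralizer_iff.mp (pCore_centralizes_reduced hX h1) x hx
    exact (congrArg Subtype.val h2).symm
  have hXQ : X' ≤ Q := hXC.trans hchar
  set Ω := omegaOne p (Q ⊓ centralizer (Q : Set L)) with hΩ
  have hZn : (Q ⊓ centralizer (Q : Set L)).Normal := by
    haveI := hQn
    haveI := CfsgLib.Local.centralizer_normal_of_normal Q hQn
    exact Subgroup.normal_inf_normal _ _
  have hΩn : Ω.Normal := omegaOne_normal_of hZn
  have hXΩ : X' ≤ Ω := by
    intro x hx
    refine Subgroup.subset_closure ⟨Subgroup.mem_inf.mpr ⟨hXQ hx, hXC hx⟩, ?_⟩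
    obtain ⟨y, hy, rfl⟩ := hx
    have := hX.2.1.2 y hy
    show ((y : L)) ^ p = 1
    exact_mod_cast congrArg Subtype.val this
  have hVΩ : normalClosure (X' : Set L) ≤ Ω := Subgroup.normalClosure_le_normal hXΩ
  have hVn : (normalClosure (X' : Set L)).Normal := Subgroup.normalClosure_normal
  refine isPReduced_of hVn (isElementaryAbelian_mono (isElementaryAbelian_omega_center _) hVΩ) ?_
  intro D hD hDp
  have h1 := centralizes_closure_of_reduced T R hTR X hX (normalClosure (X' : Set L))
    Subgroup.subset_normalClosure D hD hDp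
  have hCD : (centralizer (D : Set L)).Normal := CfsgLib.Local.centralizer_normal_of_normal D hD
  have h2 : X' ≤ centralizer (D : Set L) := by
    intro x hx
    rw [Subgroup.mem_centralizer_iff]
    intro d hd
    exact ((Subgroup.mem_centralizer_iff.mp (h1 hd)) x hx).symm
  have h3 : normalClosure (X' : Set L) ≤ centralizer (D : Set L) := Subgroup.normalClosure_le_normal h2
  intro d hd
  rw [Subgroup.mem_centralizer_iff]
  intro v hv
  exact (Subgroup.mem_centralizer_iff.mp (h3 hv) d hd).symm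

/-- A subgroup acting as a `p`-group modulo `C(Y)` and normalized by a factor of `L`. -/
theorem centralizes_of_factor {Y : Subgroup L} (hY : IsPReducedNormal p Y) (N : Subgroup L)
    (hfac : ∀ g : L, ∃ a ∈ N, ∃ c ∈ centralizer (Y : Set L), g = a * c) (D : Subgroup L)
    (hDN : N ≤ normalizer (D : Set L))
    (hDp : ∀ d ∈ D, ∃ k : ℕ, d ^ p ^ k ∈ centralizer (Y : Set L)) :
    D ≤ centralizer (Y : Set L) := by
  obtain ⟨-, -, hC, hO⟩ := hY
  set π := QuotientGroup.mk' (centralizer (Y : Set L)) with hπ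
  have hπs : Function.Surjective π := QuotientGroup.mk'_surjective _
  have hn : (D.map π).Normal := by
    refine ⟨?_⟩
    rintro _ ⟨d, hd, rfl⟩ x
    obtain ⟨g, rfl⟩ := hπs x
    obtain ⟨a, ha, c, hc, rfl⟩ := hfac g
    have hc1 : π c = 1 := (QuotientGroup.eq_one_iff _).mpr hc
    refine ⟨a * d * a⁻¹, (mem_normalizer_iff.mp (hDN ha) d).mp hd, ?_⟩
    simp only [map_mul, map_inv, hc1, mul_one]
  have hp : IsPGroup p (D.map π) := by
    rintro ⟨_, d, hd, rfl⟩
    obtain ⟨k, hk⟩ := hDp d hd
    refine ⟨k, Subtype.ext ?_⟩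
    show (π d) ^ p ^ k = 1
    rw [← map_pow]
    exact (QuotientGroup.eq_one_iff _).mpr hk
  have h1 := le_pCore_of_normal _ hn hp
  rw [hO, le_bot_iff] at h1
  intro d hd
  have : π d ∈ D.map π := ⟨d, hd, rfl⟩
  rw [h1, mem_bot] at this
  exact (QuotientGroup.eq_one_iff _).mp this

theorem isSylowIn_top (T : Sylow p L) : IsSylowIn p (T : Subgroup L) ⊤ :=
  ⟨le_top, T.2, by rw [Subgroup.relIndex_top_right]; exact T.not_dvd_index⟩

/-- `S2803`. -/
theorem largest_reduced_package (hchar : centralizer (pCore p L : Set L) ≤ pCore p L) (T : Sylow p L)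
    (Y : Subgroup L) (hY : IsPReducedNormal p Y ∧ ∀ V : Subgroup L, IsPReducedNormal p V → V ≤ Y)
    (TL : Subgroup L) (hTL : TL = (T : Subgroup L) ⊓ centralizer (Y : Set L)) :
    (∀ g : L, ∃ a ∈ normalizer (TL : Set L), ∃ c ∈ centralizer (Y : Set L), g = a * c) ∧
      (pCore p ↥(normalizer (TL : Set L))).map (normalizer (TL : Set L)).subtype = TL ∧
      Y = omegaOne p (TL ⊓ centralizer (TL : Set L)) := by
  obtain ⟨hYr, hYmax⟩ := hY
  have hYn := hYr.1
  set C := centralizer (Y : Set L) with hC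
  haveI hCn : C.Normal := centralizer_normal_of_normal Y hYn
  have hsyl : IsSylowIn p TL C := by
    rw [hTL]
    exact CfsgLib.AlpGold.isSylowIn_inf_normal (isSylowIn_top T) le_top
      (fun g _ => normal_le_normalizer C g)
  have hfac : ∀ g : L, ∃ a ∈ normalizer (TL : Set L), ∃ c ∈ C, g = a * c := by
    intro g
    obtain ⟨y, hy, hym⟩ := CfsgLib.AlpGold.frattini hsyl (normal_le_normalizer C g⁻¹)
    exact ⟨(y⁻¹ * g⁻¹)⁻¹, inv_mem hym, y⁻¹, inv_mem hy, by group⟩
  refine ⟨hfac, ?_⟩
  set N := normalizer (TL : Set L) with hN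
  have hTN : (T : Subgroup L) ≤ N := by
    intro t ht
    rw [hN, mem_normalizer_iff, hTL]
    intro y
    constructor
    · intro hy
      obtain ⟨h1, h2⟩ := Subgroup.mem_inf.mp hy
      exact Subgroup.mem_inf.mpr ⟨mul_mem (mul_mem ht h1) (inv_mem ht), hCn.conj_mem y h2 t⟩
    · intro hy
      obtain ⟨h1, h2⟩ := Subgroup.mem_inf.mp hy
      have e : y = t⁻¹ * (t * y * t⁻¹) * t := by group
      rw [e]
      refine Subgroup.mem_inf.mpr ⟨mul_mem (mul_mem (inv_mem ht) h1) ht, ?_⟩
      have := hCn.conj_mem _ h2 t⁻¹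
      simpa using this
  have hTLN : TL ≤ N := Subgroup.le_normalizer
  have hTLp : IsPGroup p TL := hsyl.2.1
  have hTLT : TL ≤ T := by rw [hTL]; exact inf_le_left
  have hTLC : TL ≤ C := hsyl.1
  have hOn : N ≤ normalizer ((pCoreOf p N : Subgroup L) : Set L) := by
    intro t ht
    rw [mem_normalizer_iff]
    have key : ∀ k ∈ N, ∀ y ∈ pCoreOf p N, k * y * k⁻¹ ∈ pCoreOf p N := by
      intro k hk y hy
      exact map_pCore_subgroup_normalized (Subgroup.le_normalizer hk) hy
    intro y
    refine ⟨key t ht y, fun hy => ?_⟩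
    have := key t⁻¹ (inv_mem ht) _ hy
    simpa [mul_assoc] using this
  have hOp : IsPGroup p (pCoreOf p N) := IsPGroup.map pCore_isPGroup _
  refine ⟨?_, ?_⟩
  · apply le_antisymm
    · rw [hTL]
      refine le_inf (pCoreOf_le_sylow T hTN) ?_
      refine centralizes_of_factor hYr N hfac (pCoreOf p N) hOn ?_
      intro d hd
      obtain ⟨k, hk⟩ := hOp ⟨d, hd⟩
      refine ⟨k, ?_⟩
      have : d ^ p ^ k = 1 := congrArg Subtype.val hk
      rw [this]
      exact one_mem _
    · exact le_pCoreOf_of_normalized hTLN hTLp le_rfl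
  · set Z : Subgroup L := TL ⊓ centralizer (TL : Set L) with hZ
    set W : Subgroup L := omegaOne p Z with hW
    have hYT : Y ≤ T := normal_le_sylow hYn (isPGroup_of_elementary hYr.2.1) T
    have hYcomm : ∀ a ∈ Y, ∀ b ∈ Y, a * b = b * a := by
      intro a ha b hb
      haveI := hYr.2.1.1
      exact congrArg Subtype.val (mul_comm' (⟨a, ha⟩ : Y) ⟨b, hb⟩)
    have hYC : Y ≤ C := fun y hy => Subgroup.mem_centralizer_iff.mpr fun b hb => hYcomm b hb y hy
    have hYTL : Y ≤ TL := by
      rw [hTL]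
      exact le_inf hYT hYC
    have hYW : Y ≤ W := by
      intro y hy
      refine Subgroup.subset_closure ⟨Subgroup.mem_inf.mpr ⟨hYTL hy, ?_⟩, hYr.2.1.2 y hy⟩
      rw [Subgroup.mem_centralizer_iff]
      intro t ht
      exact (Subgroup.mem_centralizer_iff.mp (hTLC ht) y hy).symm
    have hWZ : W ≤ Z := omegaOne_le' Z
    have hWTL : W ≤ TL := hWZ.trans inf_le_left
    have hWN : W ≤ N := hWTL.trans hTLN
    have hZN : N ≤ normalizer (Z : Set L) := by
      intro n hn
      refine CfsgLib.Fusion.mem_normalizer_of_conj_mem fun z hz => ?_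
      obtain ⟨hz1, hz2⟩ := Subgroup.mem_inf.mp hz
      refine Subgroup.mem_inf.mpr ⟨(mem_normalizer_iff.mp hn z).mp hz1, ?_⟩
      exact (mem_normalizer_iff.mp (normalizer_le_normalizer_centralizer TL hn) z).mp hz2
    have hWnorm : N ≤ normalizer (W : Set L) := by
      intro n hn
      refine CfsgLib.Fusion.mem_normalizer_of_conj_mem fun z hz => ?_
      induction hz using Subgroup.closure_induction with
      | mem x hx =>
        refine Subgroup.subset_closure ⟨(mem_normalizer_iff.mp (hZN hn) x).mp hx.1, ?_⟩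
        rw [conj_pow, hx.2]; simp
      | one => simp
      | mul x y _ _ ihx ihy =>
        have e : n * (x * y) * n⁻¹ = n * x * n⁻¹ * (n * y * n⁻¹) := by group
        rw [e]
        exact mul_mem ihx ihy
      | inv x _ ih =>
        have e : n * x⁻¹ * n⁻¹ = (n * x * n⁻¹)⁻¹ := by group
        rw [e]
        exact inv_mem ih
    set X : Subgroup ↥N := W.subgroupOf N with hX
    have hXn : X.Normal := (Subgroup.normal_subgroupOf_iff_le_normalizer hWN).2 hWnorm
    have hXe : IsElementaryAbelian p X :=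
      isElementary_subgroupOf (isElementaryAbelian_omega_center TL) N
    have hsyl2 : IsSylowIn p TL (N ⊓ C) :=
      CfsgLib.AlpFus.isSylowIn_mono hsyl (le_inf hTLN hTLC) inf_le_right
    have hXr : IsPReducedNormal p X := by
      refine isPReduced_of hXn hXe ?_
      intro D hD hDp
      set D' : Subgroup L := D.map N.subtype with hD'
      have hDN : N ≤ normalizer (D' : Set L) := by
        intro n hn
        refine CfsgLib.Fusion.mem_normalizer_of_conj_mem ?_
        rintro _ ⟨d, hd, rfl⟩
        exact ⟨(⟨n, hn⟩ : ↥N) * d * (⟨n, hn⟩ : ↥N)⁻¹, hD.conj_mem d hd _, rfl⟩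
      have hCXW : ∀ x : ↥N, x ∈ centralizer (X : Set ↥N) → ∀ w ∈ W, w * (x : L) = (x : L) * w := by
        intro x hx w hw
        have h1 := Subgroup.mem_centralizer_iff.mp hx ⟨w, hWN hw⟩ (Subgroup.mem_subgroupOf.mpr hw)
        exact congrArg Subtype.val h1
      have hDp' : ∀ d ∈ D', ∃ k : ℕ, d ^ p ^ k ∈ C := by
        rintro _ ⟨d, hd, rfl⟩
        obtain ⟨k, hk⟩ := hDp d hd
        refine ⟨k, ?_⟩
        rw [hC, Subgroup.mem_centralizer_iff]
        intro y hy
        have := hCXW _ hk y (hYW hy)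
        simpa using this
      have hD'C := centralizes_of_factor hYr N hfac D' hDN hDp'
      intro d hd
      obtain ⟨k, hk⟩ := hDp d hd
      have hdD' : (d : L) ∈ D' := ⟨d, hd, rfl⟩
      have hdNC : (d : L) ∈ N ⊓ C := Subgroup.mem_inf.mpr ⟨d.2, hD'C hdD'⟩
      obtain ⟨u, v, huv, hcomm, ⟨m, hm⟩, hvc, hu, hv⟩ := CfsgLib.Tr.exists_pow_decomp p (d : L)
      have hz : zpowers (d : L) ≤ N ⊓ C := (Subgroup.zpowers_le).mpr hdNC
      have huTL : u ∈ TL := by
        have hup : IsPGroup p (zpowers u) := by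
          obtain ⟨j, -, hj⟩ := (Nat.dvd_prime_pow (Fact.out : p.Prime)).mp (orderOf_dvd_of_pow_eq_one hm)
          exact isPGroup_zpowers ⟨j, hj⟩
        have huN : zpowers u ≤ N ⊓ C := (Subgroup.zpowers_le).mpr (hz hu)
        have hP : IsPGroup p ↥(TL ⊔ zpowers u) :=
          hTLp.to_sup_of_normal_left' hup (huN.trans inf_le_left)
        have h1 := hsyl2.eq_of_pgroup (le_sup_left : TL ≤ TL ⊔ zpowers u)
          (sup_le hsyl2.1 huN) hP
        rw [h1]
        exact (le_sup_right : zpowers u ≤ TL ⊔ zpowers u) (Subgroup.mem_zpowers u)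
      rw [Subgroup.mem_centralizer_iff]
      intro x hx
      apply Subtype.ext
      have hxW : (x : L) ∈ W := Subgroup.mem_subgroupOf.mp hx
      have hxZ := hWZ hxW
      have h1 : u * (x : L) = (x : L) * u :=
        Subgroup.mem_centralizer_iff.mp (Subgroup.mem_inf.mp hxZ).2 u huTL
      have hvx : v ∈ centralizer ({(x : L)} : Set L) := by
        have hv1 : v ^ orderOf v ∈ centralizer ({(x : L)} : Set L) := by
          rw [pow_orderOf_eq_one]; exact one_mem _
        have hv2 : v ^ p ^ k ∈ centralizer ({(x : L)} : Set L) := by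
          obtain ⟨n, hn⟩ := Subgroup.mem_zpowers_iff.mp hv
          rw [← hn, ← zpow_natCast, ← zpow_mul, mul_comm, zpow_mul, zpow_natCast]
          refine Subgroup.zpow_mem _ ?_ _
          rw [Subgroup.mem_centralizer_singleton_iff]
          have := hCXW _ hk _ hxW
          simpa using this.symm
        exact CfsgLib.Local.mem_of_pow_coprime
          (Nat.Coprime.pow_left k ((Nat.coprime_comm.mp hvc))) hv2 hv1
      have h2 : v * (x : L) = (x : L) * v := Subgroup.mem_centralizer_singleton_iff.mp hvx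
      show (x : L) * (d : L) = (d : L) * x
      rw [← huv]
      calc (x : L) * (u * v) = (x * u) * v := by group
        _ = u * (x * v) := by rw [← h1]; group
        _ = u * (v * x) := by rw [h2]
        _ = u * v * x := by group
    have hcl := closure_isPReduced hchar T N hTN X hXr
    have hXm : X.map N.subtype = W := Subgroup.map_subgroupOf_eq_of_le hWN
    rw [hXm] at hcl
    have h3 := hYmax _ hcl
    exact le_antisymm hYW (Subgroup.subset_normalClosure.trans h3)

end CfsgLib.Local
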