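import Cfsg.Agent.Lib.Local.Reduced3
import Cfsg.Agent.Lib.FGS.Subnormal

/-! Centralizers of `Ω₁(Z(T))` and commutators with `O^p(H)`. -/

set_option autoImplicit false
set_option linter.style.haveILetI false
set_option linter.unusedSectionVars false

namespace CfsgLib.Local
open Cfsg Subgroup CfsgLib.PLocal CfsgLib.Solv
open scoped commutatorElement Pointwise

variable {H : Type*} [Group H] [Finite H] {p : ℕ} [Fact p.Prime]

/-- `S2826`. -/
theorem centralizer_omega_eq (T : Sylow p H) (V : Subgroup H) [hVn : V.Normal]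
    (hV : IsElementaryAbelian p V)
    (hZV : omegaOne p ((T : Subgroup H) ⊓ centralizer ((T : Subgroup H) : Set H)) ≤ V) :
    centralizer (omegaOne p ((T : Subgroup H) ⊓ centralizer ((T : Subgroup H) : Set H)) : Set H) =
      centralizer ((⁅V, pResidual p H⁆ ⊓ omegaOne p ((T : Subgroup H) ⊓ centralizer ((T : Subgroup H) : Set H)) :
        Subgroup H) : Set H) := by
  set Z₀ : Subgroup H := omegaOne p ((T : Subgroup H) ⊓ centralizer ((T : Subgroup H) : Set H)) with hZ₀
  haveI hRn : (pResidual p H).Normal := CfsgLib.Tr.pResidual_normal p H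
  set U : Subgroup H := ⁅V, pResidual p H⁆ with hU
  haveI hUn : U.Normal := Subgroup.commutator_normal V (pResidual p H)
  apply le_antisymm (Subgroup.centralizer_le inf_le_right)
  set N : Subgroup H := centralizer ((U ⊓ Z₀ : Subgroup H) : Set H) with hN
  have hZC : Z₀ ≤ (T : Subgroup H) ⊓ centralizer ((T : Subgroup H) : Set H) := omegaOne_le' _
  have hTN : (T : Subgroup H) ≤ N := by
    intro t ht
    rw [hN, Subgroup.mem_centralizer_iff]
    intro x hx
    have h1 := hZC (Subgroup.mem_inf.mp hx).2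
    exact (Subgroup.mem_centralizer_iff.mp (Subgroup.mem_inf.mp h1).2 t ht).symm
  have hVT : V ≤ T := normal_le_sylow hVn (isPGroup_of_elementary hV) T
  have hUV : U ≤ V := Subgroup.commutator_le_left V (pResidual p H)
  have hVcomm : ∀ a ∈ V, ∀ b ∈ V, a * b = b * a := by
    intro a ha b hb
    haveI := hV.1
    exact congrArg Subtype.val (mul_comm' (⟨a, ha⟩ : V) ⟨b, hb⟩)
  -- the relevant subgroup of `V`
  let P : Subgroup H :=
    { carrier := {x | x ∈ V ∧ ∀ g : H, g * x * g⁻¹ * x⁻¹ ∈ U}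
      one_mem' := ⟨one_mem _, fun g => by simp⟩
      mul_mem' := by
        rintro a b ⟨ha, ha'⟩ ⟨hb, hb'⟩
        refine ⟨mul_mem ha hb, fun g => ?_⟩
        have e : g * (a * b) * g⁻¹ * (a * b)⁻¹ =
            (g * a * g⁻¹ * a⁻¹) * (a * (g * b * g⁻¹ * b⁻¹) * a⁻¹) := by group
        rw [e]
        exact mul_mem (ha' g) (hUn.conj_mem _ (hb' g) a)
      inv_mem' := by
        rintro a ⟨ha, ha'⟩
        refine ⟨inv_mem ha, fun g => ?_⟩
        have e : g * a⁻¹ * g⁻¹ * a⁻¹⁻¹ = (g * a⁻¹ * g⁻¹) * (g * a * g⁻¹ * a⁻¹)⁻¹ * (g * a⁻¹ * g⁻¹)⁻¹ := by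
          group
        rw [e]
        exact hUn.conj_mem _ (inv_mem (ha' g)) _ }
  have hPV : P ≤ V := fun x hx => hx.1
  have hPe : IsElementaryAbelian p P := isElementaryAbelian_mono hV hPV
  have hPN : P ≤ N := hPV.trans (hVT.trans hTN)
  have hPn : ∀ l ∈ N, ∀ z ∈ P, l * z * l⁻¹ ∈ P := by
    intro l _ z hz
    refine ⟨hVn.conj_mem z hz.1 l, fun g => ?_⟩
    have e : g * (l * z * l⁻¹) * g⁻¹ * (l * z * l⁻¹)⁻¹ =
        ((g * l) * z * (g * l)⁻¹ * z⁻¹) * (l * z * l⁻¹ * z⁻¹)⁻¹ := by group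
    rw [e]
    exact mul_mem (hz.2 _) (inv_mem (hz.2 _))
  have hUP : U ≤ P := by
    intro u hu
    refine ⟨hUV hu, fun g => mul_mem (hUn.conj_mem u hu g) (inv_mem hu)⟩
  have hW : ∀ l ∈ N, ∀ z ∈ P, l * z * l⁻¹ * z⁻¹ ∈ U := fun l _ z hz => hz.2 l
  have hZ₀P : Z₀ ≤ P := by
    intro z hz
    refine ⟨hZV hz, fun g => ?_⟩
    have hg : g ∈ ((pResidual p H ⊔ (T : Subgroup H) : Subgroup H) : Set H) := by
      rw [sup_comm, sylow_sup_residual T]; trivial
    rw [Subgroup.normal_mul] at hg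
    obtain ⟨r, hr, t, ht, rfl⟩ := Set.mem_mul.mp hg
    have hzT : t * z = z * t := by
      have h1 := hZC hz
      exact (Subgroup.mem_centralizer_iff.mp (Subgroup.mem_inf.mp h1).2 t ht)
    have e : r * t * z * (r * t)⁻¹ * z⁻¹ = ⁅r, z⁆ := by
      rw [commutatorElement_def]
      calc r * t * z * (r * t)⁻¹ * z⁻¹ = r * (t * z) * t⁻¹ * r⁻¹ * z⁻¹ := by group
        _ = r * (z * t) * t⁻¹ * r⁻¹ * z⁻¹ := by rw [hzT]
        _ = r * z * r⁻¹ * z⁻¹ := by group
    rw [e, hU, Subgroup.commutator_comm]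
    exact Subgroup.commutator_mem_commutator hr (hZV hz)
  intro x hx
  rw [Subgroup.mem_centralizer_iff]
  intro z hz
  have hzC := hZC hz
  have h1 := mem_sup_of_transfer T N hTN P U hPe hPN hPn hUP hW z (hZ₀P hz) (by
    intro t ht
    rw [Subgroup.mem_centralizer_singleton_iff]
    exact (Subgroup.mem_centralizer_iff.mp (Subgroup.mem_inf.mp hzC).2 t ht))
  set J : Subgroup H := omegaOne p (N ⊓ centralizer (N : Set H)) with hJ
  have h2 : z ∈ ((J ⊔ U : Subgroup H) : Set H) := h1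
  rw [Subgroup.mul_normal] at h2
  obtain ⟨c, hc, u, hu, rfl⟩ := Set.mem_mul.mp h2
  have hcC := omegaOne_le' (p := p) _ hc
  obtain ⟨hcN, hcC'⟩ := Subgroup.mem_inf.mp hcC
  have huT : u ∈ (T : Subgroup H) := hVT (hUV hu)
  have hu1 : u ∈ centralizer ((T : Subgroup H) : Set H) := by
    rw [Subgroup.mem_centralizer_iff]
    intro t ht
    have h3 := Subgroup.mem_centralizer_iff.mp (Subgroup.mem_inf.mp hzC).2 t ht
    have h4 := Subgroup.mem_centralizer_iff.mp hcC' t (hTN ht)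
    have h5 : t * (c * u) = c * t * u := by rw [← mul_assoc, h4]
    have h6 : c * (t * u) = c * (u * t) := by
      rw [← mul_assoc, ← h5, h3]; group
    exact mul_left_cancel h6
  have hup : u ^ p = 1 := hV.2 u (hUV hu)
  have hu2 : u ∈ U ⊓ Z₀ := Subgroup.mem_inf.mpr ⟨hu, Subgroup.subset_closure
    ⟨Subgroup.mem_inf.mpr ⟨huT, hu1⟩, hup⟩⟩
  have h7 : u * x = x * u := Subgroup.mem_centralizer_iff.mp hx u hu2
  have h8 : x * c = c * x := Subgroup.mem_centralizer_iff.mp hcC' x hx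
  calc c * u * x = c * (u * x) := by group
    _ = c * (x * u) := by rw [h7]
    _ = (c * x) * u := by group
    _ = (x * c) * u := by rw [h8]
    _ = x * (c * u) := by group

end CfsgLib.Local
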