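import Cfsg.Agent.Lib.Local.SubnPerf
import Cfsg.Agent.Lib.Local.CoprimeGen
import Cfsg.Agent.Lib.Local.Irred
import Cfsg.Agent.Lib.Solv.Nilp
import Cfsg.Prelude.Def_LocalStructure

/-! The subnormal closure of a subgroup. -/

set_option autoImplicit false
set_option linter.style.haveILetI false
set_option linter.unusedSectionVars false

namespace CfsgLib.Local
open Cfsg Subgroup CfsgLib.Solv
open scoped commutatorElement Pointwise

variable {G : Type*} [Group G] [Finite G] {p : ℕ} [Fact p.Prime]

theorem subnormalClosure_spec (A : Subgroup G) :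
    A ≤ subnormalClosure A ∧ (subnormalClosure A).IsSubnormal := by
  classical
  have hne : (A ≤ (⊤ : Subgroup G) ∧ (⊤ : Subgroup G).IsSubnormal) := ⟨le_top, Subgroup.IsSubnormal.top⟩
  obtain ⟨B, -, hB⟩ := (Set.toFinite {X : Subgroup G | A ≤ X ∧ X.IsSubnormal}).exists_le_minimal
    (a := ⊤) hne
  have hleast : ∀ X : Subgroup G, A ≤ X → X.IsSubnormal → B ≤ X := by
    intro X h1 h2
    have h3 : A ≤ B ⊓ X ∧ (B ⊓ X).IsSubnormal := ⟨le_inf hB.1.1 h1, isSubnormal_inf' hB.1.2 h2⟩
    exact (hB.2 h3 inf_le_left).trans inf_le_right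
  have hEq : subnormalClosure A = B := by
    apply le_antisymm
    · exact sInf_le hB.1
    · exact le_sInf fun X hX => hleast X hX.1 hX.2
  rw [hEq]
  exact hB.1

theorem subnormalClosure_le {A X : Subgroup G} (h1 : A ≤ X) (h2 : X.IsSubnormal) :
    subnormalClosure A ≤ X := sInf_le ⟨h1, h2⟩

theorem isSubnormal_of_normalized {M K : Subgroup G} (hK : K.IsSubnormal) (hMK : M ≤ K)
    (hn : K ≤ normalizer (M : Set G)) : M.IsSubnormal :=
  Subgroup.IsSubnormal.step M K hMK hK ((Subgroup.normal_subgroupOf_iff_le_normalizer hMK).2 hn)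

/-- `S2814`. -/
theorem subnormalClosure_package (A K : Subgroup G) (hK : K = subnormalClosure A) :
    (normalClosure ((A.subgroupOf K : Subgroup ↥K) : Set ↥K)).map K.subtype = K ∧
      normalizer (A : Set G) ≤ normalizer (K : Set G) ∧
      A ⊔ (pResidual p ↥K).map K.subtype = K ∧
      (IsPGroup p ↥A → ⁅(pResidual p ↥K).map K.subtype, A⁆ = (pResidual p ↥K).map K.subtype) := by
  obtain ⟨hAK, hKs⟩ := subnormalClosure_spec A
  rw [← hK] at hAK hKs
  have hleast : ∀ X : Subgroup G, A ≤ X → X.IsSubnormal → K ≤ X := by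
    intro X h1 h2
    rw [hK]
    exact subnormalClosure_le h1 h2
  have hsubK : ∀ X : Subgroup K, X.IsSubnormal → (X.map K.subtype).IsSubnormal :=
    fun X hX => Subgroup.IsSubnormal.trans' hX hKs
  refine ⟨?_, ?_, ?_, ?_⟩
  · apply le_antisymm (Subgroup.map_subtype_le _)
    refine hleast _ ?_ (hsubK _ (Subgroup.normalClosure_normal.isSubnormal))
    intro a ha
    exact ⟨⟨a, hAK ha⟩, Subgroup.subset_normalClosure (by exact ha), rfl⟩
  · intro g hg
    rw [mem_normalizer_iff_cj]
    have h1 : K ≤ cj g K := by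
      refine hleast _ ?_ (CfsgLib.FGS.isSubnormal_conj hKs g)
      have h2 := cj_mono (a := g) hAK
      rwa [mem_normalizer_iff_cj.mp hg] at h2
    exact (Subgroup.eq_of_le_of_card_ge h1 (by rw [card_cj])).symm
  · set R : Subgroup G := (pResidual p ↥K).map K.subtype with hR
    apply le_antisymm (sup_le hAK (Subgroup.map_subtype_le _))
    haveI : (pResidual p ↥K).Normal := CfsgLib.Tr.pResidual_normal p _
    have hq : IsPGroup p (↥K ⧸ pResidual p ↥K) := CfsgLib.Tr.isPGroup_quotient_pResidual p le_rfl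
    haveI : Group.IsNilpotent (↥K ⧸ pResidual p ↥K) := hq.isNilpotent
    have hnil := CfsgLib.Solv.nilpotent_iff_all_subnormal.mp this
    set T : Subgroup K := A.subgroupOf K with hT
    have h1 := ((hnil (T.map (QuotientGroup.mk' (pResidual p ↥K)))).comap
      (QuotientGroup.mk' (pResidual p ↥K)))
    rw [Subgroup.comap_map_eq, QuotientGroup.ker_mk'] at h1
    have h2 := hsubK _ h1
    rw [Subgroup.map_sup] at h2
    have hTm : T.map K.subtype = A := Subgroup.map_subgroupOf_eq_of_le hAK
    rw [hTm] at h2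
    exact hleast _ le_sup_left h2
  · intro hAp
    set R : Subgroup G := (pResidual p ↥K).map K.subtype with hR
    haveI hRn' : (pResidual p ↥K).Normal := CfsgLib.Tr.pResidual_normal p _
    have hRK : R ≤ K := Subgroup.map_subtype_le _
    have hKR : K ≤ normalizer (R : Set G) := by
      intro k hk
      rw [mem_normalizer_iff]
      have key : ∀ k ∈ K, ∀ y ∈ R, k * y * k⁻¹ ∈ R := by
        rintro k hk _ ⟨z, hz, rfl⟩
        have h2 : (⟨k, hk⟩ : K) * z * (⟨k, hk⟩ : K)⁻¹ ∈ pResidual p ↥K :=
          hRn'.conj_mem z hz _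
        exact ⟨_, h2, rfl⟩
      intro y
      refine ⟨key k hk y, fun hy => ?_⟩
      have := key k⁻¹ (inv_mem hk) _ hy
      simpa [mul_assoc] using this
    set N : Subgroup G := ⁅R, A⁆ with hN
    have hNR : N ≤ R := commutator_le_of_normalizes (hAK.trans hKR)
    have hAN : A ≤ normalizer (N : Set G) := le_normalizer_commutator_right (hAK.trans hKR)
    have hRN : R ≤ normalizer (N : Set G) := le_normalizer_commutator_left
    have hARK : A ⊔ R = K := by
      apply le_antisymm (sup_le hAK hRK)
      haveI : Group.IsNilpotent (↥K ⧸ pResidual p ↥K) :=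
        (CfsgLib.Tr.isPGroup_quotient_pResidual p le_rfl : IsPGroup p (↥K ⧸ pResidual p ↥K)).isNilpotent
      have hnil := CfsgLib.Solv.nilpotent_iff_all_subnormal.mp this
      set T : Subgroup K := A.subgroupOf K with hT
      have h1 := ((hnil (T.map (QuotientGroup.mk' (pResidual p ↥K)))).comap
        (QuotientGroup.mk' (pResidual p ↥K)))
      rw [Subgroup.comap_map_eq, QuotientGroup.ker_mk'] at h1
      have h2 := hsubK _ h1
      rw [Subgroup.map_sup] at h2
      have hTm : T.map K.subtype = A := Subgroup.map_subgroupOf_eq_of_le hAK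
      rw [hTm] at h2
      exact hleast _ le_sup_left h2
    have hKN : K ≤ normalizer (N : Set G) := by
      rw [← hARK]
      exact (sup_le hAN hRN)
    have hAM : A ≤ normalizer ((A ⊔ N : Subgroup G) : Set G) :=
      le_normalizer_sup_of Subgroup.le_normalizer hAN
    have hRM : R ≤ normalizer ((A ⊔ N : Subgroup G) : Set G) := by
      intro r hr
      rw [mem_normalizer_iff_cj]
      apply Subgroup.eq_of_le_of_card_ge
      · show (A ⊔ N).map _ ≤ _
        rw [Subgroup.map_sup]
        refine sup_le ?_ ?_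
        · rintro _ ⟨a, ha, rfl⟩
          show r * a * r⁻¹ ∈ A ⊔ N
          have e : r * a * r⁻¹ = ⁅r, a⁆ * a := by
            rw [commutatorElement_def]; group
          rw [e]
          exact mul_mem ((le_sup_right : N ≤ A ⊔ N) (Subgroup.commutator_mem_commutator hr ha))
            ((le_sup_left : A ≤ A ⊔ N) ha)
        · have h3 : cj r N = N := mem_normalizer_iff_cj.mp (hRN hr)
          show cj r N ≤ _
          rw [h3]
          exact le_sup_right
      · rw [card_cj]
    have hAKN : K ≤ A ⊔ N := by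
      refine hleast _ le_sup_left (isSubnormal_of_normalized hKs ?_ ?_)
      · exact sup_le hAK (hNR.trans hRK)
      · rw [← hARK]
        exact sup_le hAM hRM
    have hTp : IsPGroup p (A.subgroupOf K) := hAp.comap_subtype
    haveI hNn : (N.subgroupOf K).Normal :=
      (Subgroup.normal_subgroupOf_iff_le_normalizer (hNR.trans hRK)).2 hKN
    have hsup : A.subgroupOf K ⊔ N.subgroupOf K = ⊤ := by
      rw [eq_top_iff]
      rintro ⟨k, hk⟩ -
      have h1 : k ∈ ((A ⊔ N : Subgroup G) : Set G) := hAKN hk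
      rw [Subgroup.coe_mul_of_left_le_normalizer_right A N hAN] at h1
      obtain ⟨a, ha, n, hn, hane⟩ := Set.mem_mul.mp h1
      have hak : a ∈ K := hAK ha
      have hnk : n ∈ K := (hNR.trans hRK) hn
      have he : (⟨k, hk⟩ : K) = ⟨a, hak⟩ * ⟨n, hnk⟩ := Subtype.ext hane.symm
      rw [he]
      exact mul_mem ((le_sup_left : A.subgroupOf K ≤ _) (Subgroup.mem_subgroupOf.mpr ha))
        ((le_sup_right : N.subgroupOf K ≤ _) (Subgroup.mem_subgroupOf.mpr hn))
    have hle := pResidual_le_of_sup_eq_top hTp hsup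
    apply le_antisymm hNR
    rintro _ ⟨z, hz, rfl⟩
    exact Subgroup.mem_subgroupOf.mp (hle hz)

end CfsgLib.Local
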