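import Cfsg.Agent.Lib.Local.Reduced4
import Cfsg.Agent.Lib.Local.SubnClosure
import Cfsg.Agent.Lib.Local.Embedded4

/-! Relative `p`-reducedness, commutators with `O^p` of subnormal subgroups. -/

set_option autoImplicit false
set_option linter.style.haveILetI false
set_option linter.unusedSectionVars false

namespace CfsgLib.Local
open Cfsg Subgroup CfsgLib.PLocal CfsgLib.Solv
open scoped commutatorElement Pointwise

section typed

variable {L : Type*} [Group L] [Finite L] {p : ℕ} [Fact p.Prime]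

/-- Subnormal subgroups acting as `p`-groups centralize a `p`-reduced normal subgroup. -/
theorem subnormal_le_centralizer_of_reduced {V D : Subgroup L} (hV : IsPReducedNormal p V)
    (hD : D.IsSubnormal) (hDp : ∀ d ∈ D, ∃ k : ℕ, d ^ p ^ k ∈ centralizer (V : Set L)) :
    D ≤ centralizer (V : Set L) := by
  obtain ⟨-, -, hC, hO⟩ := hV
  set π := QuotientGroup.mk' (centralizer (V : Set L)) with hπ
  have hs : (D.map π).IsSubnormal := hD.map (QuotientGroup.mk'_surjective _)
  have hp : IsPGroup p (D.map π) := by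
    rintro ⟨_, d, hd, rfl⟩
    obtain ⟨k, hk⟩ := hDp d hd
    refine ⟨k, Subtype.ext ?_⟩
    show (π d) ^ p ^ k = 1
    rw [← map_pow]
    exact (QuotientGroup.eq_one_iff _).mpr hk
  have h1 := le_pCore_of_subnormal hs hp le_rfl Subgroup.le_normalizer
  rw [hO, le_bot_iff] at h1
  intro d hd
  have : π d ∈ D.map π := ⟨d, hd, rfl⟩
  rw [h1, mem_bot] at this
  exact (QuotientGroup.eq_one_iff _).mp this

/-- A `p'`-element of a subnormal subgroup: its commutators with a normal `p`-subgroup lie in that subgroup. -/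
theorem commutator_zpowers_le_of_subnormal {V : Subgroup L} (hVn : V.Normal) (hVp : IsPGroup p V)
    {x : L} (hx : Nat.Coprime (orderOf x) p) {K : Subgroup L} (hK : K.IsSubnormal) (hxK : x ∈ K) :
    ⁅V, zpowers x⁆ ≤ K := by
  induction hK with
  | top => exact le_top
  | step K K' hle hK' hn ih =>
    have h1 := ih (hle hxK)
    have hnor : zpowers x ≤ normalizer (V : Set L) := fun g _ => normal_le_normalizer V g
    have hcop : (Nat.card (zpowers x)).Coprime (Nat.card V) := by
      obtain ⟨n, hn⟩ := IsPGroup.iff_card.mp hVp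
      rw [Nat.card_zpowers, hn]
      exact Nat.Coprime.pow_right _ hx
    have h2 := coprime_commutator_commutator (zpowers x) V hnor hcop (Or.inl inferInstance)
    rw [← h2, Subgroup.commutator_le]
    intro w hw y hy
    have hyK : y ∈ K := (Subgroup.zpowers_le.mpr (hle.trans le_rfl |> fun _ => hxK)) hy
    have hK'N : K' ≤ normalizer (K : Set L) := (Subgroup.normal_subgroupOf_iff_le_normalizer hle).1 hn
    rw [commutatorElement_def]
    exact mul_mem ((mem_normalizer_iff.mp (hK'N (h1 hw)) y).mp hyK) (inv_mem hyK)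

/-- Elements of `K` are `p`-elements modulo `O^p(K)`. -/
theorem pow_mem_residual (K : Subgroup L) {k : L} (hk : k ∈ K) :
    ∃ a : ℕ, k ^ p ^ a ∈ (pResidual p ↥K).map K.subtype := by
  haveI : (pResidual p ↥K).Normal := CfsgLib.Tr.pResidual_normal p _
  have hq : IsPGroup p (↥K ⧸ pResidual p ↥K) := CfsgLib.Tr.isPGroup_quotient_pResidual p le_rfl
  obtain ⟨a, ha⟩ := hq (QuotientGroup.mk ⟨k, hk⟩)
  refine ⟨a, ⟨⟨k, hk⟩ ^ p ^ a, ?_, by simp⟩⟩
  have : ((⟨k, hk⟩ : ↥K) ^ p ^ a : ↥K) ∈ pResidual p ↥K := by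
    rw [← QuotientGroup.eq_one_iff]
    exact_mod_cast ha
  exact this

theorem normalizer_residual (K : Subgroup L) :
    K ≤ normalizer (((pResidual p ↥K).map K.subtype : Subgroup L) : Set L) := by
  haveI hRn : (pResidual p ↥K).Normal := CfsgLib.Tr.pResidual_normal p _
  have key : ∀ k ∈ K, ∀ y ∈ (pResidual p ↥K).map K.subtype, k * y * k⁻¹ ∈ (pResidual p ↥K).map K.subtype := by
    rintro k hk _ ⟨z, hz, rfl⟩
    have h2 : (⟨k, hk⟩ : K) * z * (⟨k, hk⟩ : K)⁻¹ ∈ pResidual p ↥K := hRn.conj_mem z hz _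
    exact ⟨_, h2, rfl⟩
  intro k hk
  rw [mem_normalizer_iff]
  intro y
  refine ⟨key k hk y, fun hy => ?_⟩
  have := key k⁻¹ (inv_mem hk) _ hy
  simpa [mul_assoc] using this

/-- `[V, O^p(K)] ≤ K` for a normal `p`-subgroup `V`. -/
theorem commutator_residual_le {V : Subgroup L} (hVn : V.Normal) (hVp : IsPGroup p V) {K : Subgroup L}
    (hK : K.IsSubnormal) : ⁅V, (pResidual p ↥K).map K.subtype⁆ ≤ K := by
  let T : Subgroup L :=
    { carrier := {y | y ∈ K ∧ ∀ v ∈ V, ⁅v, y⁆ ∈ K}
      one_mem' := ⟨one_mem _, fun v _ => by simp⟩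
      mul_mem' := by
        rintro a b ⟨ha, ha'⟩ ⟨hb, hb'⟩
        refine ⟨mul_mem ha hb, fun v hv => ?_⟩
        have e : ⁅v, a * b⁆ = ⁅v, a⁆ * (a * ⁅v, b⁆ * a⁻¹) := by
          simp only [commutatorElement_def]; group
        rw [e]
        exact mul_mem (ha' v hv) (mul_mem (mul_mem ha (hb' v hv)) (inv_mem ha))
      inv_mem' := by
        rintro a ⟨ha, ha'⟩
        refine ⟨inv_mem ha, fun v hv => ?_⟩
        have e : ⁅v, a⁻¹⁆ = a⁻¹ * (⁅v, a⁆)⁻¹ * a := by
          simp only [commutatorElement_def]; group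
        rw [e]
        exact mul_mem (mul_mem (inv_mem ha) (inv_mem (ha' v hv))) ha }
  have hRT : (pResidual p ↥K).map K.subtype ≤ T := by
    rw [Subgroup.map_le_iff_le_comap, pResidual, Subgroup.closure_le]
    intro x hx
    have hx' : Nat.Coprime (orderOf (x : L)) p := by
      rw [Subgroup.orderOf_coe]; exact hx
    refine ⟨x.2, fun v hv => ?_⟩
    exact commutator_zpowers_le_of_subnormal hVn hVp hx' hK x.2
      (Subgroup.commutator_mem_commutator hv (Subgroup.mem_zpowers _))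
  rw [Subgroup.commutator_le]
  intro v hv r hr
  exact (hRT hr).2 v hv

/-- Main computation: a subgroup between `[V, O^p(K)]` and `V`. -/
theorem acts_trivially_of_between {V : Subgroup L} (hV : IsPReducedNormal p V) {K : Subgroup L}
    (hK : K.IsSubnormal) {W : Subgroup L} (hWc : ⁅V, (pResidual p ↥K).map K.subtype⁆ ≤ W) (hWV : W ≤ V)
    {D : Subgroup L} (hDK : D ≤ K) (hDn : K ≤ normalizer (D : Set L))
    (hDp : ∀ d ∈ D, ∃ k : ℕ, d ^ p ^ k ∈ centralizer (W : Set L)) :
    D ≤ centralizer (V : Set L) := by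
  set R : Subgroup L := (pResidual p ↥K).map K.subtype with hR
  have hRK : R ≤ K := Subgroup.map_subtype_le _
  have hRn : K ≤ normalizer (R : Set L) := normalizer_residual K
  have hDs : D.IsSubnormal := isSubnormal_of_normalized hK hDK hDn
  have hRs : R.IsSubnormal := isSubnormal_of_normalized hK hRK hRn
  have hBs : (D ⊓ R).IsSubnormal := isSubnormal_inf' hDs hRs
  have hVn := hV.1
  have hB : D ⊓ R ≤ centralizer (V : Set L) := by
    refine subnormal_le_centralizer_of_reduced hV hBs ?_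
    intro b hb
    obtain ⟨hbD, hbR⟩ := Subgroup.mem_inf.mp hb
    obtain ⟨k, hk⟩ := hDp b hbD
    refine ⟨k + 1, ?_⟩
    rw [pow_succ, pow_mul]
    set s := b ^ p ^ k with hs
    have hsR : s ∈ R := pow_mem hbR _
    rw [Subgroup.mem_centralizer_iff]
    intro v hv
    have hc : ⁅v⁻¹, s⁆ ∈ W := hWc (Subgroup.commutator_mem_commutator (inv_mem hv) hsR)
    have hq : s * v * s⁻¹ = v * ⁅v⁻¹, s⁆ := by
      rw [commutatorElement_def]; group
    have hcomm : Commute s ⁅v⁻¹, s⁆ := (Subgroup.mem_centralizer_iff.mp hk _ hc).symm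
    have h2 := conj_pow_of_stab hq hcomm p
    have hcV : ⁅v⁻¹, s⁆ ∈ V := hWV hc
    rw [hV.2.1.2 _ hcV, mul_one] at h2
    rw [mul_inv_eq_iff_eq_mul] at h2
    exact h2.symm
  refine subnormal_le_centralizer_of_reduced hV hDs ?_
  intro d hd
  obtain ⟨a, ha⟩ := pow_mem_residual (p := p) K (hDK hd)
  exact ⟨a, hB (Subgroup.mem_inf.mpr ⟨pow_mem hd _, ha⟩)⟩

/-- `p`-reducedness of a subgroup between `[V, O^p(K)]` and `V ⊓ K`. -/
theorem isPReduced_between {V : Subgroup L} (hV : IsPReducedNormal p V) {K : Subgroup L}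
    (hK : K.IsSubnormal) {W : Subgroup L} (hWc : ⁅V, (pResidual p ↥K).map K.subtype⁆ ≤ W) (hWV : W ≤ V)
    (hWK : W ≤ K) (hWn : K ≤ normalizer (W : Set L)) : IsPReducedNormal p (W.subgroupOf K) := by
  have hn : (W.subgroupOf K).Normal := (Subgroup.normal_subgroupOf_iff_le_normalizer hWK).2 hWn
  refine isPReduced_of hn (isElementary_subgroupOf (isElementaryAbelian_mono hV.2.1 hWV) K) ?_
  intro D hD hDp
  set D' : Subgroup L := D.map K.subtype with hD'
  have hD'K : D' ≤ K := Subgroup.map_subtype_le _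
  have hDn : K ≤ normalizer (D' : Set L) := by
    intro k hk
    refine CfsgLib.Fusion.mem_normalizer_of_conj_mem ?_
    rintro _ ⟨d, hd, rfl⟩
    exact ⟨(⟨k, hk⟩ : ↥K) * d * (⟨k, hk⟩ : ↥K)⁻¹, hD.conj_mem d hd _, rfl⟩
  have h1 := acts_trivially_of_between hV hK hWc hWV hD'K hDn (by
    rintro _ ⟨d, hd, rfl⟩
    obtain ⟨k, hk⟩ := hDp d hd
    refine ⟨k, ?_⟩
    rw [Subgroup.mem_centralizer_iff]
    intro w hw
    have := Subgroup.mem_centralizer_iff.mp hk ⟨w, hWK hw⟩ (Subgroup.mem_subgroupOf.mpr hw)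
    have h2 := congrArg Subtype.val this
    simpa using h2)
  intro d hd
  rw [Subgroup.mem_centralizer_iff]
  intro w hw
  apply Subtype.ext
  have h3 := Subgroup.mem_centralizer_iff.mp (h1 ⟨d, hd, rfl⟩) (w : L) (hWV (Subgroup.mem_subgroupOf.mp hw))
  exact h3

/-- `S2804`. -/
theorem commutator_residual_reduced (V : Subgroup L) (hV : IsPReducedNormal p V) (K : Subgroup L)
    (hK : K.IsSubnormal) :
    ⁅V, (pResidual p ↥K).map K.subtype⁆ ≤ K ∧
      IsPReducedNormal p ((⁅V, (pResidual p ↥K).map K.subtype⁆).subgroupOf K) := by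
  have hVn := hV.1
  have hVp : IsPGroup p V := isPGroup_of_elementary hV.2.1
  have h1 := commutator_residual_le hVn hVp hK
  refine ⟨h1, isPReduced_between hV hK le_rfl (Subgroup.commutator_le_left V _) h1 ?_⟩
  intro k hk
  rw [mem_normalizer_iff_cj]
  show (⁅V, (pResidual p ↥K).map K.subtype⁆ : Subgroup L).map _ = _
  rw [Subgroup.map_commutator]
  have h2 : V.map (MulAut.conj k).toMonoidHom = V := mem_normalizer_iff_cj.mp (normal_le_normalizer V k)
  have h3 : ((pResidual p ↥K).map K.subtype).map (MulAut.conj k).toMonoidHom = (pResidual p ↥K).map K.subtype :=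
    mem_normalizer_iff_cj.mp (normalizer_residual K hk)
  rw [h2, h3]

end typed

section relative

variable {H : Type*} [Group H] [Finite H] {p : ℕ} [Fact p.Prime]

/-- Relative `p`-reducedness inside a subgroup. -/
def RedIn (p : ℕ) (V K : Subgroup H) : Prop :=
  V ≤ K ∧ K ≤ normalizer (V : Set H) ∧ IsElementaryAbelian p V ∧
    ∀ D : Subgroup H, D ≤ K → K ≤ normalizer (D : Set H) →
      (∀ d ∈ D, ∃ k : ℕ, d ^ p ^ k ∈ centralizer (V : Set H)) → D ≤ centralizer (V : Set H)

theorem redIn_of_reduced {V K : Subgroup H} (hVK : V ≤ K) (h : IsPReducedNormal p (V.subgroupOf K)) :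
    RedIn p V K := by
  have hn : K ≤ normalizer (V : Set H) := (Subgroup.normal_subgroupOf_iff_le_normalizer hVK).1 h.1
  have he : IsElementaryAbelian p V := by
    refine ⟨⟨⟨fun x y => Subtype.ext ?_⟩⟩, fun a ha => ?_⟩
    · haveI := h.2.1.1
      have := mul_comm' (⟨⟨x, hVK x.2⟩, Subgroup.mem_subgroupOf.mpr x.2⟩ : V.subgroupOf K)
        ⟨⟨y, hVK y.2⟩, Subgroup.mem_subgroupOf.mpr y.2⟩
      exact congrArg (fun z : V.subgroupOf K => ((z : K) : H)) this
    · have := h.2.1.2 ⟨a, hVK ha⟩ (Subgroup.mem_subgroupOf.mpr ha)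
      exact congrArg Subtype.val this
  refine ⟨hVK, hn, he, ?_⟩
  intro D hDK hDn hDp
  have hDn' : (D.subgroupOf K).Normal := (Subgroup.normal_subgroupOf_iff_le_normalizer hDK).2 hDn
  have h1 := centralizes_of_reduced h hDn' (by
    intro d hd
    obtain ⟨k, hk⟩ := hDp d (Subgroup.mem_subgroupOf.mp hd)
    refine ⟨k, ?_⟩
    rw [Subgroup.mem_centralizer_iff]
    intro v hv
    apply Subtype.ext
    have h2 := Subgroup.mem_centralizer_iff.mp hk (v : H) (Subgroup.mem_subgroupOf.mp hv)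
    simpa using h2)
  intro d hd
  rw [Subgroup.mem_centralizer_iff]
  intro v hv
  have h3 := Subgroup.mem_centralizer_iff.mp
    (h1 (Subgroup.mem_subgroupOf.mpr hd : (⟨d, hDK hd⟩ : K) ∈ D.subgroupOf K)) ⟨v, hVK hv⟩
    (Subgroup.mem_subgroupOf.mpr hv)
  exact congrArg Subtype.val h3

theorem reduced_of_redIn {V K : Subgroup H} (h : RedIn p V K) : IsPReducedNormal p (V.subgroupOf K) := by
  obtain ⟨hVK, hn, he, hD⟩ := h
  refine isPReduced_of ((Subgroup.normal_subgroupOf_iff_le_normalizer hVK).2 hn)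
    (isElementary_subgroupOf he K) ?_
  intro D hDn hDp
  set D' : Subgroup H := D.map K.subtype with hD'
  have hD'K : D' ≤ K := Subgroup.map_subtype_le _
  have hDN : K ≤ normalizer (D' : Set H) := by
    intro k hk
    refine CfsgLib.Fusion.mem_normalizer_of_conj_mem ?_
    rintro _ ⟨d, hd, rfl⟩
    exact ⟨(⟨k, hk⟩ : ↥K) * d * (⟨k, hk⟩ : ↥K)⁻¹, hDn.conj_mem d hd _, rfl⟩
  have h1 := hD D' hD'K hDN (by
    rintro _ ⟨d, hd, rfl⟩
    obtain ⟨k, hk⟩ := hDp d hd
    refine ⟨k, ?_⟩
    rw [Subgroup.mem_centralizer_iff]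
    intro w hw
    have := Subgroup.mem_centralizer_iff.mp hk ⟨w, hVK hw⟩ (Subgroup.mem_subgroupOf.mpr hw)
    have h2 := congrArg Subtype.val this
    simpa using h2)
  intro d hd
  rw [Subgroup.mem_centralizer_iff]
  intro w hw
  apply Subtype.ext
  exact Subgroup.mem_centralizer_iff.mp (h1 ⟨d, hd, rfl⟩) (w : H) (Subgroup.mem_subgroupOf.mp hw)

theorem redIn_Y (K : Subgroup H) : RedIn p (largestPReducedOf p K) K := by
  refine redIn_of_reduced (Y_le K) ?_
  have h : (largestPReducedOf p K).subgroupOf K = largestPReduced p ↥K :=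
    Subgroup.comap_map_eq_self_of_injective K.subtype_injective _
  rw [h]
  exact largestPReduced_isPReduced

theorem le_Y_of_redIn {V K : Subgroup H} (h : RedIn p V K) : V ≤ largestPReducedOf p K := by
  have h1 := reduced_le_largest (reduced_of_redIn h)
  intro v hv
  exact ⟨⟨v, h.1 hv⟩, h1 (Subgroup.mem_subgroupOf.mpr hv), rfl⟩

theorem redIn_top_iff {V : Subgroup H} : RedIn p V ⊤ ↔ IsPReducedNormal p V := by
  constructor
  · rintro ⟨-, hn, he, hD⟩
    have hVn : V.Normal := Subgroup.normalizer_eq_top_iff.mp (top_le_iff.mp hn)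
    refine isPReduced_of hVn he fun D hDn hDp => hD D le_top ?_ hDp
    intro g _
    exact normal_le_normalizer D g
  · intro h
    have hVn := h.1
    refine ⟨le_top, fun g _ => normal_le_normalizer V g, h.2.1, ?_⟩
    intro D _ hDn hDp
    have hDn' : D.Normal := Subgroup.normalizer_eq_top_iff.mp (top_le_iff.mp hDn)
    exact centralizes_of_reduced h hDn' hDp

theorem Y_top : largestPReducedOf p (⊤ : Subgroup H) = largestPReduced p H := by
  apply le_antisymm
  · exact reduced_le_largest (redIn_top_iff.mp (redIn_Y _))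
  · exact le_Y_of_redIn (redIn_top_iff.mpr largestPReduced_isPReduced)

/-- Conjugates by elements normalizing `L`. -/
theorem redIn_conj {V L : Subgroup H} (h : RedIn p V L) {k : H} (hk : k ∈ normalizer (L : Set H)) :
    RedIn p (cj k V) L := by
  obtain ⟨hVL, hn, he, hD⟩ := h
  have hkL : cj k L = L := mem_normalizer_iff_cj.mp hk
  have hkL' : cj k⁻¹ L = L := by
    have := congrArg (cj k⁻¹) hkL
    rwa [cj_inv_cj, eq_comm] at this
  refine ⟨?_, ?_, ?_, ?_⟩
  · rw [← hkL]; exact cj_mono hVL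
  · rw [normalizer_cj, ← hkL]; exact cj_mono hn
  · refine ⟨⟨⟨?_⟩⟩, ?_⟩
    · rintro ⟨_, a, ha, rfl⟩ ⟨_, b, hb, rfl⟩
      apply Subtype.ext
      haveI := he.1
      have h1 := congrArg Subtype.val (mul_comm' (⟨a, ha⟩ : V) ⟨b, hb⟩)
      simp only [MulMemClass.mk_mul_mk] at h1
      show (MulAut.conj k).toMonoidHom a * (MulAut.conj k).toMonoidHom b = (MulAut.conj k).toMonoidHom b * (MulAut.conj k).toMonoidHom a
      rw [← map_mul, ← map_mul, h1]
    · rintro _ ⟨a, ha, rfl⟩
      rw [← map_pow, he.2 a ha, map_one]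
  · intro D hDL hDn hDp
    have hkD : cj k⁻¹ D ≤ centralizer (V : Set H) := by
      refine hD _ ?_ ?_ ?_
      · rw [← hkL']; exact cj_mono hDL
      · rw [normalizer_cj, ← hkL']; exact cj_mono hDn
      · rintro _ ⟨d, hd, rfl⟩
        obtain ⟨m, hm⟩ := hDp d hd
        refine ⟨m, ?_⟩
        rw [← map_pow, Subgroup.mem_centralizer_iff]
        intro v hv
        have h1 := Subgroup.mem_centralizer_iff.mp hm (k * v * k⁻¹) (conj_mem_cj hv)
        show v * (k⁻¹ * d ^ p ^ m * k⁻¹⁻¹) = k⁻¹ * d ^ p ^ m * k⁻¹⁻¹ * v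
        have e : v = k⁻¹ * (k * v * k⁻¹) * k := by group
        rw [e]
        calc k⁻¹ * (k * v * k⁻¹) * k * (k⁻¹ * d ^ p ^ m * k⁻¹⁻¹)
            = k⁻¹ * ((k * v * k⁻¹) * d ^ p ^ m) * k := by group
          _ = k⁻¹ * (d ^ p ^ m * (k * v * k⁻¹)) * k := by rw [h1]
          _ = _ := by group
    intro d hd
    rw [Subgroup.mem_centralizer_iff]
    rintro _ ⟨v, hv, rfl⟩
    have h1 : k⁻¹ * d * k⁻¹⁻¹ ∈ cj k⁻¹ D := conj_mem_cj hd
    have h2 := Subgroup.mem_centralizer_iff.mp (hkD h1) v hv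
    show k * v * k⁻¹ * d = d * (k * v * k⁻¹)
    calc k * v * k⁻¹ * d = k * (v * (k⁻¹ * d * k⁻¹⁻¹)) * k⁻¹ := by group
      _ = k * ((k⁻¹ * d * k⁻¹⁻¹) * v) * k⁻¹ := by rw [h2]
      _ = _ := by group

theorem normalizer_le_normalizer_Y (L : Subgroup H) :
    normalizer (L : Set H) ≤ normalizer ((largestPReducedOf p L : Subgroup H) : Set H) := by
  intro k hk
  rw [mem_normalizer_iff_cj]
  exact Subgroup.eq_of_le_of_card_ge (le_Y_of_redIn (redIn_conj (redIn_Y L) hk)) (by rw [card_cj])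

/-- Elements of `Q` are a Sylow element times an element of `C`. -/
theorem sylow_mul_of_action {Q C T₀ : Subgroup H} (hT₀ : IsSylowIn p T₀ Q)
    (hQC : Q ≤ normalizer (C : Set H)) (hp : ∀ q ∈ Q, ∃ k : ℕ, q ^ p ^ k ∈ C) :
    ∀ q ∈ Q, ∃ t ∈ T₀, ∃ c ∈ Q ⊓ C, q = t * c := by
  set C' : Subgroup ↥Q := C.subgroupOf Q with hC'
  haveI hC'n : C'.Normal := by
    refine ⟨fun n hn g => ?_⟩
    rw [hC', Subgroup.mem_subgroupOf] at hn ⊢
    exact (mem_normalizer_iff.mp (hQC g.2) _).mp hn
  have hq : IsPGroup p (↥Q ⧸ C') := by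
    intro x
    obtain ⟨q, rfl⟩ := QuotientGroup.mk_surjective x
    obtain ⟨k, hk⟩ := hp q q.2
    refine ⟨k, ?_⟩
    rw [← QuotientGroup.mk_pow, QuotientGroup.eq_one_iff]
    exact Subgroup.mem_subgroupOf.mpr (by simpa using hk)
  obtain ⟨S, hS⟩ := hT₀.exists_sylow
  have hπ : Function.Surjective (QuotientGroup.mk' C') := QuotientGroup.mk'_surjective C'
  have hall : ((S.mapSurjective hπ : Sylow p (↥Q ⧸ C')) : Subgroup (↥Q ⧸ C')) = ⊤ := by
    have := (S.mapSurjective hπ).is_maximal' (Q := ⊤) (IsPGroup.to_subgroup hq ⊤) le_top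
    exact this.symm
  intro q hq'
  have h1 : QuotientGroup.mk' C' ⟨q, hq'⟩ ∈ ((S.mapSurjective hπ : Sylow p (↥Q ⧸ C')) : Subgroup (↥Q ⧸ C')) := by
    rw [hall]; trivial
  obtain ⟨s, hs, hse⟩ : ∃ s ∈ (S : Subgroup ↥Q), QuotientGroup.mk' C' s = QuotientGroup.mk' C' ⟨q, hq'⟩ := h1
  have h2 : s⁻¹ * ⟨q, hq'⟩ ∈ C' := by
    rw [← QuotientGroup.eq_one_iff]
    show QuotientGroup.mk' C' (s⁻¹ * ⟨q, hq'⟩) = 1
    rw [map_mul, map_inv, hse, inv_mul_cancel]
  refine ⟨(s : H), ?_, ((s⁻¹ * ⟨q, hq'⟩ : ↥Q) : H), Subgroup.mem_inf.mpr ⟨(s⁻¹ * ⟨q, hq'⟩ : ↥Q).2,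
    Subgroup.mem_subgroupOf.mp h2⟩, ?_⟩
  · rw [← hS]
    exact ⟨s, hs, rfl⟩
  · simp

theorem exists_red_sub {L K : Subgroup H} (hLK : L ≤ K) (hKL : K ≤ normalizer (L : Set H)) :
    ∀ n : ℕ, ∀ J : Subgroup H, Nat.card J = n → J ≤ L → K ≤ normalizer (J : Set H) → RedIn p J L →
      ∃ J' : Subgroup H, J' ≤ J ∧ RedIn p J' K ∧ L ⊓ centralizer (J' : Set H) = L ⊓ centralizer (J : Set H) := by
  intro n
  induction n using Nat.strong_induction_on with
  | _ n ih =>
    intro J hJn hJL hKJ hred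
    by_cases hJK : RedIn p J K
    · exact ⟨J, le_rfl, hJK, rfl⟩
    have hQ : ∃ Q : Subgroup H, Q ≤ K ∧ K ≤ normalizer (Q : Set H) ∧
        (∀ d ∈ Q, ∃ k : ℕ, d ^ p ^ k ∈ centralizer (J : Set H)) ∧ ¬ Q ≤ centralizer (J : Set H) := by
      by_contra hcon
      push Not at hcon
      exact hJK ⟨hJL.trans hLK, hKJ, hred.2.2.1, fun D h1 h2 h3 => hcon D h1 h2 h3⟩
    obtain ⟨Q, hQK, hQn, hQp, hQJ⟩ := hQ
    have hel := hred.2.2.1
    haveI hJc : IsMulCommutative J := hel.1
    have hJp : IsPGroup p J := isPGroup_of_elementary hel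
    have hJcomm : ∀ a ∈ J, ∀ b ∈ J, a * b = b * a := by
      intro a ha b hb
      exact congrArg Subtype.val (mul_comm' (⟨a, ha⟩ : J) ⟨b, hb⟩)
    set J₁ : Subgroup H := J ⊓ centralizer (Q : Set H) with hJ₁
    have hJ₁le : J₁ ≤ J := inf_le_left
    have hJ₁ne : J₁ ≠ J := by
      intro h
      apply hQJ
      intro q hq
      rw [Subgroup.mem_centralizer_iff]
      intro j hj
      have hj' : j ∈ J₁ := by rw [h]; exact hj
      exact (Subgroup.mem_centralizer_iff.mp (Subgroup.mem_inf.mp hj').2 q hq).symm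
    have hKJ₁ : K ≤ normalizer (J₁ : Set H) := by
      intro k hk
      refine CfsgLib.Fusion.mem_normalizer_of_conj_mem fun z hz => ?_
      obtain ⟨hz1, hz2⟩ := Subgroup.mem_inf.mp hz
      refine Subgroup.mem_inf.mpr ⟨(mem_normalizer_iff.mp (hKJ hk) z).mp hz1, ?_⟩
      exact (mem_normalizer_iff.mp (normalizer_le_normalizer_centralizer Q (hQn hk)) z).mp hz2
    set B : Subgroup H := Q ⊓ L with hB
    have hBc : B ≤ centralizer (J : Set H) := by
      refine hred.2.2.2 B inf_le_right ?_ (fun d hd => hQp d (Subgroup.mem_inf.mp hd).1)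
      intro l hl
      refine CfsgLib.Fusion.mem_normalizer_of_conj_mem fun z hz => ?_
      obtain ⟨hz1, hz2⟩ := Subgroup.mem_inf.mp hz
      exact Subgroup.mem_inf.mpr ⟨(mem_normalizer_iff.mp (hQn (hLK hl)) z).mp hz1,
        mul_mem (mul_mem hl hz2) (inv_mem hl)⟩
    have hcomm : ∀ x ∈ L, ∀ q ∈ Q, x * q * x⁻¹ * q⁻¹ ∈ B := by
      intro x hx q hq
      refine Subgroup.mem_inf.mpr ⟨mul_mem ((mem_normalizer_iff.mp (hQn (hLK hx)) q).mp hq) (inv_mem hq), ?_⟩
      have e : x * q * x⁻¹ * q⁻¹ = x * (q * x⁻¹ * q⁻¹) := by group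
      rw [e]
      exact mul_mem hx ((mem_normalizer_iff.mp (hKL (hQK hq)) x⁻¹).mp (inv_mem hx))
    have hQCJ : Q ≤ normalizer ((centralizer (J : Set H) : Subgroup H) : Set H) :=
      (hQK.trans hKJ).trans (normalizer_le_normalizer_centralizer J)
    -- Claim A: `p'`-elements of `C_L(J₁)` centralize `J`
    have claimA : ∀ v ∈ L ⊓ centralizer (J₁ : Set H), Nat.Coprime (orderOf v) p →
        v ∈ centralizer (J : Set H) := by
      intro v hv hvc
      obtain ⟨hvL, hvC⟩ := Subgroup.mem_inf.mp hv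
      set A : Subgroup H := zpowers v with hA
      have hAL : A ≤ L := (Subgroup.zpowers_le).mpr hvL
      have hAJ : A ≤ normalizer (J : Set H) := hAL.trans (hLK.trans hKJ)
      set W : Subgroup H := ⁅J, A⁆ with hW
      have hWJ : W ≤ J := commutator_le_of_normalizes hAJ
      by_cases hWb : W = ⊥
      · have h1 : A ≤ centralizer (J : Set H) := by
          rw [hW, Subgroup.commutator_comm, Subgroup.commutator_eq_bot_iff_le_centralizer] at hWb
          exact hWb
        exact h1 (Subgroup.mem_zpowers v)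
      exfalso
      have hQW : Q ≤ normalizer (W : Set H) := by
        intro q hq
        rw [mem_normalizer_iff_cj]
        apply Subgroup.eq_of_le_of_card_ge _ (by rw [card_cj])
        show (⁅J, A⁆ : Subgroup H).map _ ≤ _
        rw [Subgroup.map_commutator]
        have h1 : J.map (MulAut.conj q).toMonoidHom = J := mem_normalizer_iff_cj.mp (hKJ (hQK hq))
        rw [h1, Subgroup.commutator_le]
        rintro j hj _ ⟨a, ha, rfl⟩
        have haL := hAL ha
        have hc : a⁻¹ * (q * a * q⁻¹) ∈ centralizer (J : Set H) := by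
          apply hBc
          have h2 := hcomm a⁻¹ (inv_mem haL) q hq
          have e : a⁻¹ * (q * a * q⁻¹) = a⁻¹ * q * a⁻¹⁻¹ * q⁻¹ := by group
          rw [e]
          exact h2
        have h3 := Subgroup.mem_centralizer_iff.mp hc j⁻¹ (inv_mem hj)
        have e2 : ⁅j, (MulAut.conj q).toMonoidHom a⁆ = ⁅j, a⁆ := by
          show ⁅j, q * a * q⁻¹⁆ = ⁅j, a⁆
          simp only [commutatorElement_def]
          set c := a⁻¹ * (q * a * q⁻¹) with hcdef
          have e3 : q * a * q⁻¹ = a * c := by rw [hcdef]; group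
          rw [e3]
          calc j * (a * c) * j⁻¹ * (a * c)⁻¹ = j * a * (c * j⁻¹) * c⁻¹ * a⁻¹ := by group
            _ = j * a * (j⁻¹ * c) * c⁻¹ * a⁻¹ := by rw [h3]
            _ = j * a * j⁻¹ * a⁻¹ := by group
        rw [e2]
        exact Subgroup.commutator_mem_commutator hj ha
      obtain ⟨T₀, hT₀⟩ := CfsgLib.CT1.exists_sylowIn (p := p) Q
      have hT₀W : T₀ ≤ normalizer (W : Set H) := hT₀.1.trans hQW
      have hWp : IsPGroup p W := hJp.to_le hWJ
      have hR : IsPGroup p ↥(W ⊔ T₀) := hWp.to_sup_of_normal_left' hT₀.2.1 hT₀W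
      obtain ⟨w, hwW, hwo, hRw⟩ := exists_order_p_central_of_normal hR le_sup_left
        (sup_le Subgroup.le_normalizer hT₀W) hWb
      have hwJ := hWJ hwW
      have hwQ : w ∈ centralizer (Q : Set H) := by
        rw [Subgroup.mem_centralizer_iff]
        intro q hq
        obtain ⟨t, ht, c, hc, rfl⟩ := sylow_mul_of_action hT₀ hQCJ hQp q hq
        have h1 := Subgroup.mem_centralizer_singleton_iff.mp (hRw ((le_sup_right : T₀ ≤ W ⊔ T₀) ht))
        have h2 := Subgroup.mem_centralizer_iff.mp (Subgroup.mem_inf.mp hc).2 w hwJ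
        calc t * c * w = t * (c * w) := by group
          _ = t * (w * c) := by rw [h2]
          _ = (t * w) * c := by group
          _ = (w * t) * c := by rw [h1]
          _ = w * (t * c) := by group
      have hwJ₁ : w ∈ J₁ := Subgroup.mem_inf.mpr ⟨hwJ, hwQ⟩
      have hvw : w * v = v * w := Subgroup.mem_centralizer_iff.mp hvC w hwJ₁
      have hcop : (Nat.card A).Coprime (Nat.card J) := by
        obtain ⟨m, hm⟩ := IsPGroup.iff_card.mp hJp
        rw [hA, Nat.card_zpowers, hm]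
        exact Nat.Coprime.pow_right _ hvc
      have h4 := inf_centralizer_commutator_eq_bot A J hAJ hcop
      have h5 : w ∈ (J ⊓ centralizer (A : Set H)) ⊓ ⁅J, A⁆ := by
        refine Subgroup.mem_inf.mpr ⟨Subgroup.mem_inf.mpr ⟨hwJ, ?_⟩, hwW⟩
        rw [Subgroup.mem_centralizer_iff]
        intro a ha
        obtain ⟨n, rfl⟩ := Subgroup.mem_zpowers_iff.mp ha
        have hc : Commute w v := hvw
        exact (hc.zpow_right n).eq.symm
      rw [h4, Subgroup.mem_bot] at h5
      rw [h5, orderOf_one] at hwo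
      exact (Fact.out : p.Prime).one_lt.ne hwo
    -- Step 3
    have hLD : L ≤ normalizer ((L ⊓ centralizer (J₁ : Set H) : Subgroup H) : Set H) := by
      intro l hl
      refine CfsgLib.Fusion.mem_normalizer_of_conj_mem fun z hz => ?_
      obtain ⟨hz1, hz2⟩ := Subgroup.mem_inf.mp hz
      exact Subgroup.mem_inf.mpr ⟨mul_mem (mul_mem hl hz1) (inv_mem hl),
        (mem_normalizer_iff.mp (normalizer_le_normalizer_centralizer J₁ (hKJ₁ (hLK hl))) z).mp hz2⟩
    have hpact : ∀ d ∈ L ⊓ centralizer (J₁ : Set H), ∃ k : ℕ, d ^ p ^ k ∈ centralizer (J : Set H) := by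
      intro d hd
      obtain ⟨u, v, huv, hc, ⟨m, hm⟩, hvc, hu, hv⟩ := CfsgLib.Tr.exists_pow_decomp p d
      have hvD : v ∈ L ⊓ centralizer (J₁ : Set H) := (Subgroup.zpowers_le.mpr hd) hv
      have h1 := claimA v hvD hvc
      refine ⟨m, ?_⟩
      rw [← huv, hc.mul_pow, hm, one_mul]
      exact pow_mem h1 _
    have hD3 : L ⊓ centralizer (J₁ : Set H) ≤ centralizer (J : Set H) :=
      hred.2.2.2 _ inf_le_left hLD hpact
    have hred1 : RedIn p J₁ L := by
      refine ⟨hJ₁le.trans hJL, hLK.trans hKJ₁, isElementaryAbelian_mono hel hJ₁le, ?_⟩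
      intro D hDL hDn hDp
      have h1 : D ≤ centralizer (J : Set H) := by
        refine hred.2.2.2 D hDL hDn ?_
        intro d hd
        obtain ⟨k, hk⟩ := hDp d hd
        exact ⟨k, hD3 (Subgroup.mem_inf.mpr ⟨pow_mem (hDL hd) _, hk⟩)⟩
      exact h1.trans (Subgroup.centralizer_le hJ₁le)
    have hlt : Nat.card J₁ < n := by
      rw [← hJn]
      exact lt_of_le_of_ne (Subgroup.card_le_of_le hJ₁le)
        (fun h => hJ₁ne (Subgroup.eq_of_le_of_card_ge hJ₁le h.ge))
    obtain ⟨J', hJ'le, hJ'red, hJ'C⟩ := ih _ hlt J₁ rfl (hJ₁le.trans hJL) hKJ₁ hred1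
    refine ⟨J', hJ'le.trans hJ₁le, hJ'red, ?_⟩
    rw [hJ'C]
    apply le_antisymm
    · exact le_inf inf_le_left hD3
    · exact inf_le_inf_left _ (Subgroup.centralizer_le hJ₁le)

/-- The normal step. -/
theorem centralizer_Y_step {L K : Subgroup H} (hLK : L ≤ K) (hKL : K ≤ normalizer (L : Set H)) :
    L ⊓ centralizer ((largestPReducedOf p K : Subgroup H) : Set H) ≤
      centralizer ((largestPReducedOf p L : Subgroup H) : Set H) := by
  obtain ⟨J', hJ'le, hJ'red, hJ'C⟩ := exists_red_sub (p := p) hLK hKL _ (largestPReducedOf p L) rfl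
    (Y_le L) (hKL.trans (normalizer_le_normalizer_Y L)) (redIn_Y L)
  have h1 : J' ≤ largestPReducedOf p K := le_Y_of_redIn hJ'red
  have h2 : L ⊓ centralizer ((largestPReducedOf p K : Subgroup H) : Set H) ≤ L ⊓ centralizer (J' : Set H) :=
    inf_le_inf_left _ (Subgroup.centralizer_le h1)
  rw [hJ'C] at h2
  exact h2.trans inf_le_right

theorem centralizer_Y_chain {L : Subgroup H} (hL : L.IsSubnormal) :
    L ⊓ centralizer (largestPReduced p H : Set H) ≤
      centralizer ((largestPReducedOf p L : Subgroup H) : Set H) := by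
  induction hL with
  | top =>
    rw [Y_top]
    exact inf_le_right
  | step L K hLK hK hn ih =>
    have hKL : K ≤ normalizer (L : Set H) := (Subgroup.normal_subgroupOf_iff_le_normalizer hLK).1 hn
    refine le_trans ?_ (centralizer_Y_step (p := p) hLK hKL)
    refine le_inf inf_le_left ?_
    exact (inf_le_inf_right _ hLK).trans ih

/-- `S2825`. -/
theorem Y_subnormal_package (L : Subgroup H) (hL : L.IsSubnormal) :
    largestPReduced p H ⊓ L = largestPReduced p H ⊓ largestPReducedOf p L ∧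
      IsPReducedNormal p ((largestPReduced p H ⊓ L).subgroupOf L) ∧
      L ⊓ centralizer ((largestPReducedOf p L : Subgroup H) : Set H) = L ⊓ centralizer (largestPReduced p H : Set H) ∧
      L ⊓ centralizer (largestPReduced p H : Set H) = L ⊓ centralizer ((largestPReduced p H ⊓ L : Subgroup H) : Set H) ∧
      (pResidual p H ≤ L → (⁅largestPReducedOf p L, L⁆ = ⊥ ↔ ⁅largestPReduced p H, (⊤ : Subgroup H)⁆ = ⊥)) := by
  set Y := largestPReduced p H with hY
  have hYr : IsPReducedNormal p Y := largestPReduced_isPReduced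
  have hYn := hYr.1
  have hYp : IsPGroup p Y := isPGroup_of_elementary hYr.2.1
  set Y₀ : Subgroup H := Y ⊓ L with hY₀
  have hc : ⁅Y, (pResidual p ↥L).map L.subtype⁆ ≤ Y₀ :=
    le_inf (Subgroup.commutator_le_left Y _) (commutator_residual_le hYn hYp hL)
  have hY₀n : L ≤ normalizer (Y₀ : Set H) := by
    intro l hl
    refine CfsgLib.Fusion.mem_normalizer_of_conj_mem fun z hz => ?_
    obtain ⟨hz1, hz2⟩ := Subgroup.mem_inf.mp hz
    exact Subgroup.mem_inf.mpr ⟨hYn.conj_mem z hz1 l, mul_mem (mul_mem hl hz2) (inv_mem hl)⟩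
  have hr : IsPReducedNormal p (Y₀.subgroupOf L) :=
    isPReduced_between hYr hL hc inf_le_left inf_le_right hY₀n
  have hY₀Y : Y₀ ≤ largestPReducedOf p L := le_Y_of_redIn (redIn_of_reduced inf_le_right hr)
  have hcent : L ⊓ centralizer (Y₀ : Set H) ≤ centralizer (Y : Set H) := by
    refine acts_trivially_of_between hYr hL hc inf_le_left inf_le_left ?_ ?_
    · intro l hl
      refine CfsgLib.Fusion.mem_normalizer_of_conj_mem fun z hz => ?_
      obtain ⟨hz1, hz2⟩ := Subgroup.mem_inf.mp hz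
      exact Subgroup.mem_inf.mpr ⟨mul_mem (mul_mem hl hz1) (inv_mem hl),
        (mem_normalizer_iff.mp (normalizer_le_normalizer_centralizer Y₀ (hY₀n hl)) z).mp hz2⟩
    · intro d hd
      exact ⟨0, by simpa using (Subgroup.mem_inf.mp hd).2⟩
  have hEq1 : L ⊓ centralizer ((largestPReducedOf p L : Subgroup H) : Set H) = L ⊓ centralizer (Y : Set H) := by
    apply le_antisymm
    · refine le_inf inf_le_left (le_trans ?_ hcent)
      exact inf_le_inf_left _ (Subgroup.centralizer_le hY₀Y)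
    · exact le_inf inf_le_left (centralizer_Y_chain hL)
  have hEq2 : L ⊓ centralizer (Y : Set H) = L ⊓ centralizer (Y₀ : Set H) := by
    apply le_antisymm
    · exact inf_le_inf_left _ (Subgroup.centralizer_le inf_le_left)
    · exact le_inf inf_le_left hcent
  refine ⟨?_, hr, hEq1, hEq2, ?_⟩
  · apply le_antisymm
    · exact le_inf inf_le_left hY₀Y
    · exact inf_le_inf_left _ (Y_le L)
  · intro hres
    constructor
    · intro h
      have h1 : L ≤ centralizer ((largestPReducedOf p L : Subgroup H) : Set H) := by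
        rw [← Subgroup.commutator_eq_bot_iff_le_centralizer, Subgroup.commutator_comm]
        exact h
      have h2 : L ≤ centralizer (Y : Set H) := by
        have h3 : L ⊓ centralizer ((largestPReducedOf p L : Subgroup H) : Set H) = L := inf_eq_left.mpr h1
        rw [hEq1] at h3
        exact inf_eq_left.mp h3
      have h4 : (⊤ : Subgroup H) ≤ centralizer (Y : Set H) := by
        refine centralizes_of_reduced hYr Subgroup.normal_top ?_
        intro d _
        haveI : (pResidual p H).Normal := CfsgLib.Tr.pResidual_normal p H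
        have hq : IsPGroup p (H ⧸ pResidual p H) := CfsgLib.Tr.isPGroup_quotient_pResidual p le_rfl
        obtain ⟨a, ha⟩ := hq (QuotientGroup.mk d)
        refine ⟨a, h2 (hres ?_)⟩
        rw [← QuotientGroup.eq_one_iff]
        exact_mod_cast ha
      rw [Subgroup.commutator_comm, Subgroup.commutator_eq_bot_iff_le_centralizer]
      exact h4
    · intro h
      have h1 : (⊤ : Subgroup H) ≤ centralizer (Y : Set H) := by
        rw [← Subgroup.commutator_eq_bot_iff_le_centralizer, Subgroup.commutator_comm]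
        exact h
      have h2 : L ⊓ centralizer (Y : Set H) = L := inf_eq_left.mpr (le_top.trans h1)
      rw [← hEq1] at h2
      have h3 : L ≤ centralizer ((largestPReducedOf p L : Subgroup H) : Set H) := inf_eq_left.mp h2
      rw [Subgroup.commutator_comm, Subgroup.commutator_eq_bot_iff_le_centralizer]
      exact h3

/-- `Ω₁(Z(C_T(Y_L))) ≤ Y_L`. -/
theorem omega_le_Y (T : Sylow p H) (L : Subgroup H) (hTL : (T : Subgroup H) ≤ L)
    (hL : centralizer (pCore p ↥L : Set ↥L) ≤ pCore p ↥L) (T₀ : Subgroup H)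
    (hT₀ : T₀ = (T : Subgroup H) ⊓ centralizer ((largestPReducedOf p L : Subgroup H) : Set H)) :
    omegaOne p (T₀ ⊓ centralizer (T₀ : Set H)) ≤ largestPReducedOf p L := by
  set T' : Sylow p ↥L := T.subtype hTL with hT'
  set Y' : Subgroup ↥L := largestPReduced p ↥L with hY'
  have hcoe : (T' : Subgroup ↥L) = (T : Subgroup H).subgroupOf L := Sylow.coe_subtype _ _
  set TL' : Subgroup ↥L := (T' : Subgroup ↥L) ⊓ centralizer (Y' : Set ↥L) with hTL'
  have h := (largest_reduced_package hL T' Y'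
    ⟨largestPReduced_isPReduced, fun V hV => reduced_le_largest hV⟩ TL' rfl).2.2
  refine (Subgroup.closure_le _).mpr ?_
  rintro x ⟨hx, hxp⟩
  obtain ⟨hx1, hx2⟩ := Subgroup.mem_inf.mp hx
  rw [hT₀] at hx1
  obtain ⟨hxT, hxC⟩ := Subgroup.mem_inf.mp hx1
  have hxL := hTL hxT
  have hmem : (⟨x, hxL⟩ : ↥L) ∈ Y' := by
    rw [h]
    refine Subgroup.subset_closure ⟨Subgroup.mem_inf.mpr ⟨Subgroup.mem_inf.mpr ⟨?_, ?_⟩, ?_⟩, ?_⟩
    · rw [hcoe]; exact Subgroup.mem_subgroupOf.mpr hxT
    · rw [Subgroup.mem_centralizer_iff]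
      intro y hy
      apply Subtype.ext
      exact Subgroup.mem_centralizer_iff.mp hxC (y : H) ⟨y, hy, rfl⟩
    · rw [Subgroup.mem_centralizer_iff]
      intro t ht
      apply Subtype.ext
      obtain ⟨ht1, ht2⟩ := Subgroup.mem_inf.mp ht
      have ht3 : (t : H) ∈ T₀ := by
        rw [hT₀]
        refine Subgroup.mem_inf.mpr ⟨?_, ?_⟩
        · rw [hcoe] at ht1
          exact Subgroup.mem_subgroupOf.mp ht1
        · rw [Subgroup.mem_centralizer_iff]
          rintro _ ⟨y, hy, rfl⟩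
          exact congrArg Subtype.val (Subgroup.mem_centralizer_iff.mp ht2 y hy)
      exact Subgroup.mem_centralizer_iff.mp hx2 _ ht3
    · apply Subtype.ext
      simpa using hxp
  exact ⟨_, hmem, rfl⟩

/-- `S2824`. -/
theorem Y_normalizer_package (T : Sylow p H) (L M : Subgroup H) (hTL : (T : Subgroup H) ≤ L)
    (hTM : (T : Subgroup H) ≤ M) (hL : centralizer (pCore p ↥L : Set ↥L) ≤ pCore p ↥L) (T₀ : Subgroup H)
    (hT₀ : T₀ = (T : Subgroup H) ⊓ centralizer ((largestPReducedOf p L : Subgroup H) : Set H))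
    (hfac : M ⊔ centralizer ((largestPReducedOf p L : Subgroup H) : Set H) =
      L ⊔ centralizer ((largestPReducedOf p L : Subgroup H) : Set H))
    (Ls : Subgroup H) (hLs : Ls = M ⊓ normalizer (T₀ : Set H)) :
    largestPReducedOf p Ls = largestPReducedOf p L ∧
      L ⊔ centralizer ((largestPReducedOf p L : Subgroup H) : Set H) =
        Ls ⊔ centralizer ((largestPReducedOf p L : Subgroup H) : Set H) := by
  set Y := largestPReducedOf p L with hY
  set C : Subgroup H := centralizer ((Y : Subgroup H) : Set H) with hC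
  have hLNC : L ≤ normalizer (C : Set H) :=
    (le_normalizer_Y L).trans (normalizer_le_normalizer_centralizer Y)
  have hCNC : C ≤ normalizer (C : Set H) := Subgroup.le_normalizer
  have hJN : L ⊔ C ≤ normalizer (C : Set H) := sup_le hLNC hCNC
  have hMNC : M ≤ normalizer (C : Set H) := (le_sup_left.trans hfac.le).trans hJN
  have hsylC : IsSylowIn p T₀ C := by
    rw [hT₀]
    exact CfsgLib.AlpGold.isSylowIn_inf_normal
      (CfsgLib.AlpFus.isSylowIn_mono (isSylowIn_top T) (hTL.trans le_sup_left) le_top)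
      le_sup_right hJN
  have hT₀T : T₀ ≤ T := by rw [hT₀]; exact inf_le_left
  have hT₀C : T₀ ≤ C := hsylC.1
  have hT₀MC : T₀ ≤ M ⊓ C := le_inf (hT₀T.trans hTM) hT₀C
  have hsyl : IsSylowIn p T₀ (M ⊓ C) := CfsgLib.AlpFus.isSylowIn_mono hsylC hT₀MC inf_le_right
  have hTN : (T : Subgroup H) ≤ normalizer (T₀ : Set H) := by
    intro t ht
    refine CfsgLib.Fusion.mem_normalizer_of_conj_mem fun z hz => ?_
    have hz' := hz
    rw [hT₀] at hz' ⊢
    obtain ⟨h1, h2⟩ := Subgroup.mem_inf.mp hz'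
    exact Subgroup.mem_inf.mpr ⟨mul_mem (mul_mem ht h1) (inv_mem ht),
      (mem_normalizer_iff.mp (hLNC (hTL ht)) z).mp h2⟩
  have hTLs : (T : Subgroup H) ≤ Ls := by
    rw [hLs]; exact le_inf hTM hTN
  have hLsM : Ls ≤ M := by rw [hLs]; exact inf_le_left
  have hLsN : Ls ≤ normalizer (T₀ : Set H) := by rw [hLs]; exact inf_le_right
  have hsup : Ls ⊔ C = M ⊔ C := by
    apply le_antisymm (sup_le_sup_right hLsM C)
    refine sup_le ?_ le_sup_right
    intro m hm
    have hmN : m ∈ normalizer ((M ⊓ C : Subgroup H) : Set H) := by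
      refine CfsgLib.Fusion.mem_normalizer_of_conj_mem fun z hz => ?_
      obtain ⟨h1, h2⟩ := Subgroup.mem_inf.mp hz
      exact Subgroup.mem_inf.mpr ⟨mul_mem (mul_mem hm h1) (inv_mem hm),
        (mem_normalizer_iff.mp (hMNC hm) z).mp h2⟩
    obtain ⟨y, hy, hym⟩ := CfsgLib.AlpGold.frattini hsyl hmN
    obtain ⟨hy1, hy2⟩ := Subgroup.mem_inf.mp hy
    have h1 : y⁻¹ * m ∈ Ls := by
      rw [hLs]
      exact Subgroup.mem_inf.mpr ⟨mul_mem (inv_mem hy1) hm, hym⟩
    have e : m = y * (y⁻¹ * m) := by group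
    rw [e]
    exact mul_mem ((le_sup_right : C ≤ Ls ⊔ C) hy2) ((le_sup_left : Ls ≤ Ls ⊔ C) h1)
  have hLsup : Ls ⊔ C = L ⊔ C := hsup.trans hfac
  refine ⟨?_, hLsup.symm⟩
  apply le_antisymm
  · -- `O_p(Ls) = T₀`
    set D : Subgroup H := pCoreOf p Ls with hD
    have hDp : IsPGroup p D := IsPGroup.map pCore_isPGroup _
    have hLsD : Ls ≤ normalizer (D : Set H) := by
      intro t ht
      rw [mem_normalizer_iff]
      have key : ∀ k ∈ Ls, ∀ y ∈ D, k * y * k⁻¹ ∈ D := by
        intro k hk y hy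
        exact map_pCore_subgroup_normalized (Subgroup.le_normalizer hk) hy
      intro y
      refine ⟨key t ht y, fun hy => ?_⟩
      have := key t⁻¹ (inv_mem ht) _ hy
      simpa [mul_assoc] using this
    have hLsNC : Ls ≤ normalizer (C : Set H) := hLsM.trans hMNC
    have hDNC : D ≤ normalizer (C : Set H) := (Subgroup.map_subtype_le _).trans hLsNC
    set J : Subgroup H := D ⊔ C with hJ
    have hJset : (J : Set H) = (D : Set H) * (C : Set H) :=
      Subgroup.coe_mul_of_left_le_normalizer_right D C hDNC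
    have hLJ : L ≤ normalizer (J : Set H) := by
      refine le_trans (le_sup_left : L ≤ L ⊔ C) ?_
      rw [← hLsup]
      refine sup_le ?_ ?_
      · exact le_normalizer_sup_of hLsD hLsNC
      · intro c hc
        rw [mem_normalizer_iff_cj]
        apply Subgroup.eq_of_le_of_card_ge _ (by rw [card_cj])
        show (D ⊔ C).map _ ≤ _
        rw [Subgroup.map_sup]
        refine sup_le ?_ ?_
        · rintro _ ⟨d, hd, rfl⟩
          show c * d * c⁻¹ ∈ D ⊔ C
          have e : c * d * c⁻¹ = d * (d⁻¹ * c * d * c⁻¹) := by group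
          rw [e]
          refine mul_mem ((le_sup_left : D ≤ D ⊔ C) hd) ((le_sup_right : C ≤ D ⊔ C) ?_)
          refine mul_mem ?_ (inv_mem hc)
          have := (mem_normalizer_iff.mp (inv_mem (hDNC hd)) c).mp hc
          simpa [mul_assoc] using this
        · have h3 : cj c C = C := mem_normalizer_iff_cj.mp (hCNC hc)
          show cj c C ≤ _
          rw [h3]
          exact le_sup_right
    have hE : J ⊓ L ≤ C := by
      refine (redIn_Y L).2.2.2 (J ⊓ L) inf_le_right ?_ ?_
      · intro l hl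
        refine CfsgLib.Fusion.mem_normalizer_of_conj_mem fun z hz => ?_
        obtain ⟨h1, h2⟩ := Subgroup.mem_inf.mp hz
        exact Subgroup.mem_inf.mpr ⟨(mem_normalizer_iff.mp (hLJ hl) z).mp h1,
          mul_mem (mul_mem hl h2) (inv_mem hl)⟩
      · intro e he
        obtain ⟨he1, -⟩ := Subgroup.mem_inf.mp he
        have he' : e ∈ (J : Set H) := he1
        rw [hJset] at he'
        obtain ⟨d, hd, c, hc, rfl⟩ := Set.mem_mul.mp he'
        obtain ⟨k, hk⟩ := hDp ⟨d, hd⟩
        have hk' : d ^ p ^ k = 1 := congrArg Subtype.val hk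
        refine ⟨k, ?_⟩
        obtain ⟨c', hc', hce⟩ := mul_pow_mem_of_normalized (hDNC hd) hc (p ^ k)
        rw [hce, hk', one_mul]
        exact hc'
    have hDC : D ≤ C := by
      intro d hd
      have hdLs : d ∈ Ls := Subgroup.map_subtype_le _ hd
      have hd2 : d ∈ L ⊔ C := by
        rw [← hLsup]
        exact (le_sup_left : Ls ≤ Ls ⊔ C) hdLs
      have hLC : L ≤ normalizer (C : Set H) := hLNC
      have hd3 : d ∈ ((L ⊔ C : Subgroup H) : Set H) := hd2
      rw [Subgroup.coe_mul_of_left_le_normalizer_right L C hLC] at hd3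
      obtain ⟨l, hl, c, hc, hlc⟩ := Set.mem_mul.mp hd3
      have hlJ : l ∈ J ⊓ L := by
        refine Subgroup.mem_inf.mpr ⟨?_, hl⟩
        have e : l = d * c⁻¹ := by rw [← hlc]; group
        rw [e]
        exact mul_mem ((le_sup_left : D ≤ J) hd) ((le_sup_right : C ≤ J) (inv_mem hc))
      rw [← hlc]
      exact mul_mem (hE hlJ) hc
    have hDT₀ : D ≤ T₀ := by
      rw [hT₀]
      exact le_inf (pCoreOf_le_sylow T hTLs) hDC
    have hT₀D : T₀ ≤ D := le_pCoreOf_of_normalized (hT₀T.trans hTLs) (T.2.to_le hT₀T) hLsN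
    have hDe : D = T₀ := le_antisymm hDT₀ hT₀D
    have h5 := Y_le_omega (p := p) Ls
    rw [← hD, hDe] at h5
    exact h5.trans (omega_le_Y T L hTL hL T₀ hT₀)
  · exact Y_le_of_sup_eq T Ls L hTLs hTL hLsup

end relative

end CfsgLib.Local
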