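import Cfsg.Agent.Lib.FGS.Subnormal
import Cfsg.Agent.Lib.Local.Irred2

/-! Least subnormal supplement of a normal subgroup with perfect quotient. -/

set_option autoImplicit false
set_option linter.style.haveILetI false
set_option linter.unusedSectionVars false

namespace CfsgLib.Local
open Subgroup

variable {G : Type*} [Group G] [Finite G]

theorem sup_eq_top_iff_map (D : Subgroup G) [D.Normal] (X : Subgroup G) :
    X ⊔ D = ⊤ ↔ X.map (QuotientGroup.mk' D) = ⊤ := by
  have hk : (QuotientGroup.mk' D).ker = D := QuotientGroup.ker_mk' D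
  constructor
  · intro h
    have h1 : (X ⊔ D).map (QuotientGroup.mk' D) = ⊤ := by
      rw [h, Subgroup.map_top_of_surjective _ (QuotientGroup.mk'_surjective D)]
    rw [Subgroup.map_sup] at h1
    have h2 : D.map (QuotientGroup.mk' D) = ⊥ := by
      rw [Subgroup.map_eq_bot_iff, hk]
    rwa [h2, sup_bot_eq] at h1
  · intro h
    have h1 := Subgroup.comap_map_eq (QuotientGroup.mk' D) X
    rw [h, hk, Subgroup.comap_top] at h1
    exact h1.symm

theorem commutator_sup_of_perfect (D : Subgroup G) [D.Normal]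
    (hperf : ⁅(⊤ : Subgroup G), (⊤ : Subgroup G)⁆ ⊔ D = ⊤) {X Y : Subgroup G}
    (hX : X ⊔ D = ⊤) (hY : Y ⊔ D = ⊤) : ⁅X, Y⁆ ⊔ D = ⊤ := by
  rw [sup_eq_top_iff_map] at hperf hX hY ⊢
  rw [Subgroup.map_commutator, hX, hY]
  rw [Subgroup.map_commutator, Subgroup.map_top_of_surjective _ (QuotientGroup.mk'_surjective D)] at hperf
  exact hperf

/-- The intersection of two subnormal supplements of `D` is a supplement. -/
theorem inf_sup_of_subnormal (D : Subgroup G) [D.Normal]
    (hperf : ⁅(⊤ : Subgroup G), (⊤ : Subgroup G)⁆ ⊔ D = ⊤) {A : Subgroup G} (hA : A.IsSubnormal) :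
    ∀ B : Subgroup G, B.IsSubnormal → A ⊔ D = ⊤ → B ⊔ D = ⊤ → (A ⊓ B) ⊔ D = ⊤ := by
  induction hA with
  | top => intro B _ _ hB; simpa using hB
  | step A K hAK hK hAn ihK =>
    intro B hB
    induction hB with
    | top => intro hA _; simpa using hA
    | step B L hBL hL hBn ihL =>
      intro hA hB
      have hKD : K ⊔ D = ⊤ := top_le_iff.mp (hA ▸ sup_le_sup_right hAK D)
      have hLD : L ⊔ D = ⊤ := top_le_iff.mp (hB ▸ sup_le_sup_right hBL D)
      have hX := ihL hA hLD
      have hY := ihK B (Subgroup.IsSubnormal.step B L hBL hL hBn) hKD hB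
      have hc := commutator_sup_of_perfect D hperf hX hY
      refine top_le_iff.mp (hc ▸ sup_le_sup_right ?_ D)
      have hKN : K ≤ normalizer (A : Set G) :=
        (Subgroup.normal_subgroupOf_iff_le_normalizer hAK).1 hAn
      have hLN : L ≤ normalizer (B : Set G) :=
        (Subgroup.normal_subgroupOf_iff_le_normalizer hBL).1 hBn
      refine le_inf ?_ ?_
      · refine le_trans (Subgroup.commutator_mono inf_le_left le_rfl) ?_
        exact commutator_le_of_normalizer (inf_le_left.trans hKN)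
      · rw [Subgroup.commutator_comm]
        refine le_trans (Subgroup.commutator_mono inf_le_right le_rfl) ?_
        exact commutator_le_of_normalizer (inf_le_right.trans hLN)

theorem isSubnormal_inf' {A : Subgroup G} (hA : A.IsSubnormal) {B : Subgroup G} (hB : B.IsSubnormal) :
    (A ⊓ B).IsSubnormal := by
  induction hB with
  | top => simpa using hA
  | step B L hBL hL hBn ih =>
    refine Subgroup.IsSubnormal.step _ (A ⊓ L) (inf_le_inf_left A hBL) ih ?_
    have hLN : L ≤ normalizer (B : Set G) :=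
      (Subgroup.normal_subgroupOf_iff_le_normalizer hBL).1 hBn
    refine (Subgroup.normal_subgroupOf_iff_le_normalizer (inf_le_inf_left A hBL)).2 ?_
    intro a ha
    obtain ⟨ha1, ha2⟩ := Subgroup.mem_inf.mp ha
    rw [mem_normalizer_iff]
    intro y
    have h1 := mem_normalizer_iff.mp (hLN ha2) y
    constructor
    · intro hy
      obtain ⟨hy1, hy2⟩ := Subgroup.mem_inf.mp hy
      exact Subgroup.mem_inf.mpr ⟨mul_mem (mul_mem ha1 hy1) (inv_mem ha1), h1.mp hy2⟩
    · intro hy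
      obtain ⟨hy1, hy2⟩ := Subgroup.mem_inf.mp hy
      refine Subgroup.mem_inf.mpr ⟨?_, h1.mpr hy2⟩
      have e : y = a⁻¹ * (a * y * a⁻¹) * a := by group
      rw [e]
      exact mul_mem (mul_mem (inv_mem ha1) hy1) ha1

/-- `S3027`. -/
theorem exists_least_subnormal_supplement (D : Subgroup G) [hDn : D.Normal]
    (hperf : ⁅(⊤ : Subgroup G), (⊤ : Subgroup G)⁆ ⊔ D = ⊤) :
    ∃ B : Subgroup G, B.Normal ∧ B ⊔ D = ⊤ ∧ ∀ B' : Subgroup G, B'.IsSubnormal → B' ⊔ D = ⊤ → B ≤ B' := by
  classical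
  have hne : ((⊤ : Subgroup G).IsSubnormal ∧ (⊤ : Subgroup G) ⊔ D = ⊤) := ⟨Subgroup.IsSubnormal.top, by simp⟩
  obtain ⟨B, hBle, hB⟩ := (Set.toFinite {B : Subgroup G | B.IsSubnormal ∧ B ⊔ D = ⊤}).exists_le_minimal
    (a := ⊤) hne
  have hleast : ∀ B' : Subgroup G, B'.IsSubnormal → B' ⊔ D = ⊤ → B ≤ B' := by
    intro B' h1 h2
    have h3 : (B ⊓ B').IsSubnormal ∧ (B ⊓ B') ⊔ D = ⊤ :=
      ⟨isSubnormal_inf' hB.1.1 h1, inf_sup_of_subnormal D hperf hB.1.1 B' h1 hB.1.2 h2⟩
    have h4 := hB.2 h3 inf_le_left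
    exact h4.trans inf_le_right
  refine ⟨B, ?_, hB.1.2, hleast⟩
  refine ⟨fun b hb g => ?_⟩
  have h1 : (B.map (MulAut.conj g⁻¹).toMonoidHom).IsSubnormal := CfsgLib.FGS.isSubnormal_conj hB.1.1 g⁻¹
  have h2 : B.map (MulAut.conj g⁻¹).toMonoidHom ⊔ D = ⊤ := by
    have h3 : (B ⊔ D).map (MulAut.conj g⁻¹).toMonoidHom = ⊤ := by
      rw [hB.1.2]
      exact Subgroup.map_top_of_surjective _ (MulAut.conj g⁻¹).surjective
    rw [Subgroup.map_sup] at h3
    have h4 : D.map (MulAut.conj g⁻¹).toMonoidHom = D := by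
      ext x
      constructor
      · rintro ⟨y, hy, rfl⟩
        exact hDn.conj_mem y hy g⁻¹
      · intro hx
        refine ⟨g * x * g⁻¹, hDn.conj_mem x hx g, ?_⟩
        show g⁻¹ * (g * x * g⁻¹) * g⁻¹⁻¹ = x
        group
    rwa [h4] at h3
  have h3 := hleast _ h1 h2 hb
  obtain ⟨c, hc, hce⟩ := h3
  have : g * b * g⁻¹ = c := by
    have h5 : g⁻¹ * c * g⁻¹⁻¹ = b := hce
    rw [← h5]; group
  rw [this]
  exact hc

end CfsgLib.Local
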