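import Mathlib
import Cfsg.Agent.Lib.H3.TransferTools

/-! Transfer in the presence of "no outside fusion". -/

set_option autoImplicit false
set_option linter.unusedSectionVars false
set_option linter.unusedVariables false

namespace CfsgLib.Local.TransOut

open Subgroup MulAction

variable {G : Type*} [Group G] [Finite G]

theorem transfer_eq_of_outside {A : Type*} [CommGroup A] (M : Subgroup G) (ϕ : M →* A) (m : G) (hm : m ∈ M)
    (h : ∀ g : G, g ∉ M → ∀ n : ℕ, n ∣ orderOf m → ∀ hz : g⁻¹ * m ^ n * g ∈ M, ϕ ⟨_, hz⟩ = 1) :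
    MonoidHom.transfer ϕ m = ϕ ⟨m, hm⟩ := by
  classical
  have : FiniteIndex M := inferInstance
  letI : Fintype (G ⧸ M) := M.fintypeQuotientOfFiniteIndex
  letI : Fintype (Quotient (orbitRel (zpowers m) (G ⧸ M))) := Fintype.ofFinite _
  rw [MonoidHom.transfer_eq_prod_quotient_orbitRel_zpowers_quot]
  set o : G ⧸ M := ((1 : G) : G ⧸ M) with ho
  let q₀ : Quotient (orbitRel (zpowers m) (G ⧸ M)) := Quotient.mk'' o
  have hzmem : ∀ z ∈ zpowers m, z ∈ M := by
    intro z hz
    exact (zpowers_le.mpr hm) hz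
  have hout : ∀ x : G ⧸ M, x.out ∈ M → x = o := by
    intro x hx
    have h1 : ((x.out : G) : G ⧸ M) = o := by
      rw [ho, QuotientGroup.eq]
      simpa using hx
    rwa [QuotientGroup.out_eq'] at h1
  have hper : ∀ x : G ⧸ M, Function.minimalPeriod (m • ·) x ∣ orderOf m := by
    intro x
    apply Function.IsPeriodicPt.minimalPeriod_dvd
    show (m • ·)^[orderOf m] x = x
    have : ((m • ·) : G ⧸ M → G ⧸ M)^[orderOf m] x = (m ^ orderOf m) • x := by
      rw [smul_iterate]
    rw [this, pow_orderOf_eq_one, one_smul]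
  rw [Finset.prod_eq_single q₀]
  · -- the trivial orbit
    have hq : q₀.out = o := by
      have h1 : orbitRel (zpowers m) (G ⧸ M) |>.r q₀.out o := by
        apply Quotient.exact'
        rw [Quotient.out_eq']
      have h2 := (orbitRel_apply).mp h1
      obtain ⟨z, hz⟩ := h2
      rw [← hz, ho]
      have hz' : (z : G) ∈ M := hzmem _ z.2
      show ((z : G) • ((1 : G) : G ⧸ M)) = _
      rw [MulAction.Quotient.smul_coe, smul_eq_mul, mul_one]
      rw [QuotientGroup.eq]
      simpa using hz'
    have hoM : o.out ∈ M := by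
      have h1 : ((o.out : G) : G ⧸ M) = ((1 : G) : G ⧸ M) := QuotientGroup.out_eq' o
      rw [QuotientGroup.eq] at h1
      simpa using h1
    have hfix : Function.IsFixedPt (m • · : G ⧸ M → G ⧸ M) o := by
      show m • o = o
      rw [ho, MulAction.Quotient.smul_coe, smul_eq_mul, mul_one, QuotientGroup.eq]
      simpa using hm
    have hmin : Function.minimalPeriod (m • ·) o = 1 := Function.minimalPeriod_eq_one_iff_isFixedPt.mpr hfix
    have hval : ∀ (x : G ⧸ M) (hx : x = o) (w : _), ϕ ⟨x.out⁻¹ * m ^ Function.minimalPeriod (m • ·) x * x.out, w⟩ = ϕ ⟨m, hm⟩ := by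
      intro x hx w
      subst hx
      have e : (⟨o.out⁻¹ * m ^ Function.minimalPeriod (m • ·) o * o.out, w⟩ : M) =
          (⟨o.out, hoM⟩ : M)⁻¹ * ⟨m, hm⟩ * ⟨o.out, hoM⟩ := by
        apply Subtype.ext
        simp [hmin]
      rw [e, map_mul, map_mul, map_inv, mul_comm (ϕ ⟨o.out, hoM⟩)⁻¹, inv_mul_cancel_right]
    exact hval _ hq _
  · intro b _ hb
    have hnot : b.out.out ∉ M := by
      intro hmem
      apply hb
      have h1 := hout _ hmem
      have h2 : b = Quotient.mk'' b.out := (Quotient.out_eq' b).symm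
      rw [h2, h1]
    exact h _ hnot _ (hper _) _
  · intro h'
    exact absurd (Finset.mem_univ _) h'

end CfsgLib.Local.TransOut
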