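import Mathlib
import Cfsg.Agent.Lib.Local.TransOut
import Cfsg.Agent.Lib.H3.TransferTools
import Cfsg.Agent.Lib.OOL.GT1

/-! Consequences of the outside transfer. -/

set_option autoImplicit false
set_option linter.unusedSectionVars false
set_option linter.unusedVariables false

namespace CfsgLib.Local.TransOut

open Subgroup MulAction

universe u

variable {G : Type u} [Group G] [Finite G]

/-- A conjugate of a subgroup. -/
abbrev Hg (H : Subgroup G) (g : G) : Subgroup G := H.map (MulAut.conj g).toMonoidHom

theorem mem_Hg {H : Subgroup G} {g x : G} : x ∈ Hg H g ↔ g⁻¹ * x * g ∈ H := by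
  constructor
  · rintro ⟨h, hh, rfl⟩
    have : g⁻¹ * ((MulAut.conj g).toMonoidHom h) * g = h := by
      simp [MulAut.conj_apply]
      group
    rw [this]; exact hh
  · intro hx
    refine ⟨_, hx, ?_⟩
    simp [MulAut.conj_apply]
    group

theorem card_Hg (H : Subgroup G) (g : G) : Nat.card (Hg H g) = Nat.card H :=
  Nat.card_congr (Subgroup.equivMapOfInjective H _ (MulAut.conj g).injective).symm.toEquiv

theorem mem_normalizer_of_Hg_le {H : Subgroup G} {g : G} (h : Hg H g ≤ H) : g ∈ normalizer (H : Set G) := by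
  have he : Hg H g = H := Subgroup.eq_of_le_of_card_ge h (by rw [card_Hg])
  rw [Subgroup.mem_normalizer_iff]
  intro x
  constructor
  · intro hx
    rw [← he]
    rw [mem_Hg]
    have : g⁻¹ * (g * x * g⁻¹) * g = x := by group
    rwa [this]
  · intro hx
    rw [← he, mem_Hg] at hx
    have : g⁻¹ * (g * x * g⁻¹) * g = x := by group
    rwa [this] at hx

theorem mem_normalizer_of_forall {L : Subgroup G} {y : G} (h : ∀ l ∈ L, y * l * y⁻¹ ∈ L) :
    y ∈ normalizer (L : Set G) := by
  apply mem_normalizer_of_Hg_le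
  rintro _ ⟨l, hl, rfl⟩
  exact h l hl

theorem exists_comm_quotient_of_coatom (H M : Subgroup G) (hn : (H.subgroupOf M).Normal)
    (hc : IsCoatom (H.subgroupOf M)) :
    ∃ (A : Type u) (_ : CommGroup A) (ϕ : M →* A), ∀ m : M, ϕ m = 1 ↔ (m : G) ∈ H := by
  classical
  set H' := H.subgroupOf M with hH'
  haveI := hn
  have hne : ∃ x : M ⧸ H', x ≠ 1 := by
    obtain ⟨m, hm⟩ : ∃ m : M, m ∉ H' := by
      by_contra hcon
      push Not at hcon
      apply hc.1
      rw [eq_top_iff]
      intro m _
      exact hcon m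
    refine ⟨(m : M ⧸ H'), ?_⟩
    intro h
    apply hm
    rwa [QuotientGroup.eq_one_iff] at h
  obtain ⟨x, hx⟩ := hne
  have hcyc : IsCyclic (M ⧸ H') := by
    rw [isCyclic_iff_exists_zpowers_eq_top]
    refine ⟨x, ?_⟩
    set f := QuotientGroup.mk' H' with hf
    have hfs : Function.Surjective f := QuotientGroup.mk'_surjective H'
    have h1 : H' ≤ (zpowers x).comap f := by
      intro h hh
      rw [Subgroup.mem_comap]
      have : f h = 1 := by
        rw [hf, ← MonoidHom.mem_ker, QuotientGroup.ker_mk']
        exact hh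
      rw [this]; exact one_mem _
    have h2 : (zpowers x).comap f = ⊤ := by
      rcases eq_or_lt_of_le h1 with h3 | h3
      · exfalso
        obtain ⟨m, rfl⟩ := hfs x
        apply hx
        have : m ∈ (zpowers (f m)).comap f := by
          rw [Subgroup.mem_comap]
          exact mem_zpowers _
        rw [← h3] at this
        rw [hf, QuotientGroup.mk'_apply, QuotientGroup.eq_one_iff]
        exact this
      · exact hc.2 _ h3
    rw [eq_top_iff]
    intro y _
    obtain ⟨m, rfl⟩ := hfs y
    have : m ∈ (zpowers x).comap f := by rw [h2]; exact mem_top m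
    exact this
  letI : CommGroup (M ⧸ H') := IsCyclic.commGroup
  refine ⟨M ⧸ H', inferInstance, QuotientGroup.mk' H', ?_⟩
  intro m
  rw [QuotientGroup.mk'_apply, QuotientGroup.eq_one_iff]
  rfl

/-- S3014. -/
theorem closure_inf (H M : Subgroup G) (hHM : H ≤ M)
    (hcl : ∀ g : G, (H ⊔ Hg H g) ⊓ M = H)
    (hmaxH : IsCoatom (H.subgroupOf M)) (hmaxM : IsCoatom M) :
    Subgroup.normalClosure (H : Set G) ⊓ M = H := by
  classical
  have hge : H ≤ Subgroup.normalClosure (H : Set G) ⊓ M := le_inf Subgroup.le_normalClosure hHM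
  apply le_antisymm _ hge
  have hHsup : ∀ g, H ⊔ Hg H g ≤ M → Hg H g ≤ H := by
    intro g hg
    have h1 := hcl g
    rw [inf_of_le_left hg] at h1
    exact le_sup_right.trans h1.le
  have hMN : M ≤ normalizer (H : Set G) := by
    intro g hg
    apply mem_normalizer_of_Hg_le
    apply hHsup
    apply sup_le hHM
    rintro _ ⟨h, hh, rfl⟩
    exact mul_mem (mul_mem hg (hHM hh)) (inv_mem hg)
  by_cases hNtop : normalizer (H : Set G) = ⊤
  · have hHn : H.Normal := Subgroup.normalizer_eq_top_iff.mp hNtop
    have : Subgroup.normalClosure (H : Set G) ≤ H := Subgroup.normalClosure_le_normal le_rfl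
    exact inf_le_left.trans this
  have hNM : normalizer (H : Set G) ≤ M := by
    rcases eq_or_lt_of_le hMN with h | h
    · rw [h]
    · exact absurd (hmaxM.2 _ h) hNtop
  by_cases hTI : ∃ y ∈ M, y ∉ H ∧ ∃ g : G, g ∉ M ∧ g⁻¹ * y * g ∈ M
  · obtain ⟨y, hyM, hyH, g, hgM, hyg⟩ := hTI
    set L := H ⊔ Hg H g with hL
    have hyL : y ∈ normalizer (L : Set G) := by
      apply mem_normalizer_of_forall
      have : L ≤ L.comap (MulAut.conj y).toMonoidHom := by
        apply sup_le
        · intro h hh
          change y * h * y⁻¹ ∈ L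
          exact le_sup_left (a := H) (((Subgroup.mem_normalizer_iff.mp (hMN hyM)) h).1 hh)
        · intro z hz
          change y * z * y⁻¹ ∈ L
          apply le_sup_right (a := H)
          rw [mem_Hg] at hz ⊢
          have e : g⁻¹ * (y * z * y⁻¹) * g = (g⁻¹ * y * g) * (g⁻¹ * z * g) * (g⁻¹ * y * g)⁻¹ := by group
          rw [e]
          exact ((Subgroup.mem_normalizer_iff.mp (hMN hyg)) _).1 hz
      intro l hl
      exact this hl
    have hHL : H ≤ L := le_sup_left
    have hML : M ≤ normalizer (L : Set G) := by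
      have h1 : (H.subgroupOf M) < (normalizer (L : Set G)).subgroupOf M := by
        rw [SetLike.lt_iff_le_and_exists]
        constructor
        · intro m hm
          rw [Subgroup.mem_subgroupOf] at hm ⊢
          exact Subgroup.le_normalizer (hHL hm)
        · refine ⟨⟨y, hyM⟩, ?_, ?_⟩
          · rw [Subgroup.mem_subgroupOf]; exact hyL
          · rw [Subgroup.mem_subgroupOf]; exact hyH
      have h2 := hmaxH.2 _ h1
      intro m hm
      have h3 : (⟨m, hm⟩ : M) ∈ (normalizer (L : Set G)).subgroupOf M := by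
        rw [h2]; exact mem_top _
      exact h3
    by_cases hLtop : normalizer (L : Set G) = ⊤
    · have hLn : L.Normal := Subgroup.normalizer_eq_top_iff.mp hLtop
      have h1 : Subgroup.normalClosure (H : Set G) ≤ L := Subgroup.normalClosure_le_normal hHL
      have h2 := hcl g
      rw [← hL] at h2
      exact (inf_le_inf_right M h1).trans h2.le
    · exfalso
      have hNLM : normalizer (L : Set G) ≤ M := by
        rcases eq_or_lt_of_le hML with h | h
        · rw [h]
        · exact absurd (hmaxM.2 _ h) hLtop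
      have hLM : L ≤ M := Subgroup.le_normalizer.trans hNLM
      have := hHsup g hLM
      exact hgM (hNM (mem_normalizer_of_Hg_le this))
  · push Not at hTI
    obtain ⟨A, hA, ϕ, hϕ⟩ := exists_comm_quotient_of_coatom H M
      (by
        constructor
        intro x hx g
        rw [Subgroup.mem_subgroupOf] at hx ⊢
        exact (Subgroup.mem_normalizer_iff.mp (hMN g.2) _).1 hx) hmaxH
    have hV : ∀ m (hm : m ∈ M), MonoidHom.transfer ϕ m = ϕ ⟨m, hm⟩ := by
      intro m hm
      apply transfer_eq_of_outside
      intro g hg n _ hz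
      rw [hϕ]
      by_contra hzH
      have hg' : g⁻¹ ∉ M := fun h => hg (by simpa using inv_mem h)
      have := hTI _ hz hzH g⁻¹ hg'
      apply this
      have e : g⁻¹⁻¹ * (g⁻¹ * m ^ n * g) * g⁻¹ = m ^ n := by group
      rw [e]
      exact pow_mem hm n
    set K := (MonoidHom.transfer ϕ).ker with hK
    haveI hKn : K.Normal := MonoidHom.normal_ker _
    have hHK : H ≤ K := by
      intro h hh
      rw [hK, MonoidHom.mem_ker, hV h (hHM hh), hϕ]
      exact hh
    have h1 : Subgroup.normalClosure (H : Set G) ≤ K := Subgroup.normalClosure_le_normal hHK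
    rintro x ⟨hx1, hx2⟩
    have h2 : x ∈ K := h1 hx1
    rw [hK, MonoidHom.mem_ker, hV x hx2, hϕ] at h2
    exact h2

/-- S3015. -/
theorem exists_generating_conj [IsSimpleGroup G] (hG : ¬ IsMulCommutative G) (M H : Subgroup G) (hmaxM : IsCoatom M)
    (hHM : H ≤ M) (hHn : (H.subgroupOf M).Normal) (hidx : (H.relIndex M).Prime) :
    ∃ g : G, H ⊔ Hg H g = ⊤ := by
  classical
  by_contra hcon
  push Not at hcon
  set p := H.relIndex M with hp
  haveI hpf : Fact p.Prime := ⟨hidx⟩
  have hpp : p.Prime := hidx
  have hsimple : ∀ N : Subgroup G, N.Normal → N = ⊥ ∨ N = ⊤ := by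
    intro N hN
    haveI := hN
    exact IsSimpleGroup.eq_bot_or_eq_top_of_normal N hN
  have hmax : ∀ K : Subgroup G, H ≤ K → K ≤ M → K ≠ H → M ≤ K := by
    intro K h1 h2 h3
    have h4 : H.relIndex K * K.relIndex M = p := Subgroup.relIndex_mul_relIndex H K M h1 h2
    rcases (Nat.prime_mul_iff.mp (by rw [h4]; exact hpp)) with ⟨_, h5⟩ | ⟨_, h5⟩
    · exact Subgroup.relIndex_eq_one.mp h5
    · exfalso
      apply h3
      exact le_antisymm (Subgroup.relIndex_eq_one.mp h5) h1
  have hcoat : IsCoatom (H.subgroupOf M) := by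
    constructor
    · intro h
      have h1 : H.relIndex M = 1 := by
        rw [Subgroup.relIndex, h, Subgroup.index_top]
      rw [← hp] at h1
      exact hpp.one_lt.ne' h1
    · intro K hK
      rw [eq_top_iff]
      have h1 : (H.subgroupOf M) ≤ K := hK.le
      obtain ⟨⟨m, hm⟩, hm1, hm2⟩ := SetLike.exists_of_lt hK
      have h2 := hmax (H ⊔ K.map M.subtype) le_sup_left
        (sup_le hHM (Subgroup.map_subtype_le _)) (by
          intro h
          apply hm2
          rw [Subgroup.mem_subgroupOf]
          have : m ∈ H ⊔ K.map M.subtype := mem_sup_right ⟨⟨m, hm⟩, hm1, rfl⟩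
          rw [h] at this
          exact this)
      have h3 : H ≤ K.map M.subtype := by
        intro h hh
        have : (⟨h, hHM hh⟩ : M) ∈ K := h1 (by rw [Subgroup.mem_subgroupOf]; exact hh)
        exact ⟨_, this, rfl⟩
      rw [sup_of_le_right h3] at h2
      intro x _
      obtain ⟨y, hy, hyx⟩ := h2 x.2
      have : y = x := Subtype.ext hyx
      rwa [← this]
  obtain ⟨A, hA, ϕ, hϕ⟩ := exists_comm_quotient_of_coatom H M hHn hcoat
  have hMN : M ≤ normalizer (H : Set G) := by
    intro g hg
    apply mem_normalizer_of_forall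
    intro h hh
    have := hHn.conj_mem ⟨h, hHM hh⟩ (by rw [Subgroup.mem_subgroupOf]; exact hh) ⟨g, hg⟩
    rw [Subgroup.mem_subgroupOf] at this
    exact this
  have hHne : H ≠ M := by
    intro h
    rw [← h, Subgroup.relIndex_self] at hp
    rw [hp] at hpp
    exact Nat.not_prime_one hpp
  have hMne : M ≠ ⊥ := by
    intro h
    apply hHne
    rw [h] at hHM ⊢
    exact le_bot_iff.mp hHM
  have hMNM : normalizer (M : Set G) ≤ M := by
    rcases eq_or_lt_of_le (Subgroup.le_normalizer (H := M)) with h | h
    · rw [← h]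
    · have h1 := hmaxM.2 _ h
      have h2 : M.Normal := Subgroup.normalizer_eq_top_iff.mp h1
      rcases hsimple M h2 with h3 | h3
      · exact absurd h3 hMne
      · exact absurd h3 hmaxM.1
  -- the normalizer of `H`
  have hHNM : H ≠ ⊥ → normalizer (H : Set G) ≤ M := by
    intro hH1
    rcases eq_or_lt_of_le hMN with h | h
    · rw [h]
    · have h1 := hmaxM.2 _ h
      have h2 : H.Normal := Subgroup.normalizer_eq_top_iff.mp h1
      rcases hsimple H h2 with h3 | h3
      · exact absurd h3 hH1
      · exfalso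
        apply hmaxM.1
        rw [eq_top_iff, ← h3]
        exact hHM
  -- the sublemma
  have hsub : H ≠ ⊥ → ∀ y ∈ M, y ∉ H → ∀ g : G, g⁻¹ * y * g ∈ M → g⁻¹ * y * g ∉ H → Hg H g ≤ M := by
    intro hH1 y hyM hyH g hyg hyg'
    set L := H ⊔ Hg H g with hL
    have hyL : y ∈ normalizer (L : Set G) := by
      apply mem_normalizer_of_forall
      have : L ≤ L.comap (MulAut.conj y).toMonoidHom := by
        apply sup_le
        · intro h hh
          change y * h * y⁻¹ ∈ L
          exact le_sup_left (a := H) (((Subgroup.mem_normalizer_iff.mp (hMN hyM)) h).1 hh)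
        · intro z hz
          change y * z * y⁻¹ ∈ L
          apply le_sup_right (a := H)
          rw [mem_Hg] at hz ⊢
          have e : g⁻¹ * (y * z * y⁻¹) * g = (g⁻¹ * y * g) * (g⁻¹ * z * g) * (g⁻¹ * y * g)⁻¹ := by group
          rw [e]
          exact ((Subgroup.mem_normalizer_iff.mp (hMN hyg)) _).1 hz
      intro l hl
      exact this hl
    have hHL : H ≤ L := le_sup_left
    have hML : M ≤ normalizer (L : Set G) := by
      have h1 := hmax (normalizer (L : Set G) ⊓ M) (le_inf (hHL.trans Subgroup.le_normalizer) hHM) inf_le_right (by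
        intro h
        apply hyH
        rw [← h]
        exact ⟨hyL, hyM⟩)
      exact h1.trans inf_le_left
    have hLtop : normalizer (L : Set G) ≠ ⊤ := by
      intro h1
      have hLn : L.Normal := Subgroup.normalizer_eq_top_iff.mp h1
      rcases hsimple L hLn with h3 | h3
      · apply hH1
        exact le_bot_iff.mp (h3 ▸ hHL)
      · exact hcon g h3
    have hNLM : normalizer (L : Set G) ≤ M := by
      rcases eq_or_lt_of_le hML with h | h
      · rw [h]
      · exact absurd (hmaxM.2 _ h) hLtop
    exact (le_sup_right.trans Subgroup.le_normalizer).trans hNLM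
  -- no outside fusion of elements outside `H`
  have hstar : ∀ y ∈ M, y ∉ H → ∀ g : G, g ∉ M → g⁻¹ * y * g ∈ M → g⁻¹ * y * g ∈ H := by
    intro y hyM hyH g hgM hyg
    by_contra hyg'
    by_cases hH1 : H = ⊥
    · -- `M` has prime order
      have hcardM : Nat.card M = p := by
        rw [hp, hH1, Subgroup.relIndex_bot_left]
      have hz : ∀ z ∈ M, z ∉ H → zpowers z = M := by
        intro z hz hzH
        have h1 : zpowers z ≤ M := zpowers_le.mpr hz
        have h2 := hmax (zpowers z) (by rw [hH1]; exact bot_le) h1 (by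
          intro h
          apply hzH
          rw [← h]
          exact mem_zpowers z)
        exact le_antisymm h1 h2
      apply hgM
      apply hMNM
      apply mem_normalizer_of_forall
      intro m hm
      have h1 := hz _ hyg hyg'
      have h2 := hz _ hyM hyH
      rw [← h1] at hm
      rcases Subgroup.mem_zpowers_iff.mp hm with ⟨k, rfl⟩
      have e : g * (g⁻¹ * y * g) ^ k * g⁻¹ = y ^ k := by
        have h3 := conj_zpow (a := g⁻¹) (b := y) (i := k)
        rw [inv_inv] at h3
        rw [h3]
        group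
      rw [e]
      exact zpow_mem hyM k
    · have h1 := hsub hH1 y hyM hyH g hyg hyg'
      have h2 := hsub hH1 (g⁻¹ * y * g) hyg hyg' g⁻¹ (by
        have e : g⁻¹⁻¹ * (g⁻¹ * y * g) * g⁻¹ = y := by group
        rw [e]; exact hyM) (by
        have e : g⁻¹⁻¹ * (g⁻¹ * y * g) * g⁻¹ = y := by group
        rw [e]; exact hyH)
      have h3 : H ⊔ Hg H g ≠ H := by
        intro h
        apply hgM
        apply hHNM hH1
        apply mem_normalizer_of_Hg_le
        exact le_sup_right.trans h.le
      have h4 := hmax _ le_sup_left (sup_le hHM h1) h3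
      -- `H ⊔ Hg H g ≤ Hg M g`
      have h5 : H ⊔ Hg H g ≤ Hg M g := by
        apply sup_le
        · intro h hh
          rw [mem_Hg]
          apply h2
          rw [mem_Hg]
          have e : g⁻¹⁻¹ * (g⁻¹ * h * g) * g⁻¹ = h := by group
          rw [e]; exact hh
        · exact Subgroup.map_mono hHM
      have h6 : M ≤ Hg M g := h4.trans h5
      have h7 : M = Hg M g := Subgroup.eq_of_le_of_card_ge h6 (by rw [card_Hg])
      apply hgM
      apply hMNM
      apply mem_normalizer_of_forall
      intro m hm
      rw [h7]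
      exact ⟨m, hm, rfl⟩
  -- a `p`-element of minimal order
  let E : Set G := {y | y ∈ M ∧ y ∉ H ∧ ∃ k : ℕ, y ^ p ^ k = 1}
  have hEne : E.Nonempty := by
    obtain ⟨m, hmM, hmH⟩ : ∃ m ∈ M, m ∉ H := by
      by_contra h
      push Not at h
      exact hHne (le_antisymm hHM h)
    obtain ⟨u, v, huv, -, hu, hv, huz, hvz⟩ := CfsgLib.Tr.exists_pow_decomp p m
    have huM : u ∈ M := (zpowers_le.mpr hmM) huz
    have hvM : v ∈ M := (zpowers_le.mpr hmM) hvz
    refine ⟨u, huM, ?_, hu⟩
    intro huH
    apply hmH
    rw [← huv]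
    refine mul_mem huH ?_
    -- `v` lies in `H`
    have h1 : (⟨v, hvM⟩ : M) ^ p ∈ H.subgroupOf M := by
      have h2 := Subgroup.pow_index_mem (H.subgroupOf M) (⟨v, hvM⟩ : M)
      exact h2
    have h2 : (⟨v, hvM⟩ : M) ^ orderOf v ∈ H.subgroupOf M := by
      have : (⟨v, hvM⟩ : M) ^ orderOf v = 1 := by
        apply Subtype.ext
        simp [pow_orderOf_eq_one]
      rw [this]
      exact one_mem _
    have h3 : (⟨v, hvM⟩ : M) ∈ H.subgroupOf M :=
      CfsgLib.OOL.mem_of_pow_mem_of_coprime _ hv.symm h1 h2
    exact h3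
  obtain ⟨y, ⟨hyM, hyH, k, hyk⟩, hymin⟩ := Set.exists_min_image E orderOf (Set.toFinite _) hEne
  have hV := transfer_eq_of_outside M ϕ y hyM (by
    intro g hg n hn hz
    rw [hϕ]
    change g⁻¹ * y ^ n * g ∈ H
    by_cases hn1 : n = 1
    · subst hn1
      rw [pow_one] at hz ⊢
      exact hstar y hyM hyH g hg hz
    · by_contra hzH
      have hord0 : 0 < orderOf y := orderOf_pos y
      have hzk : (g⁻¹ * y ^ n * g) ^ (orderOf y / n) = 1 := by
        have h1 := conj_pow (a := g⁻¹) (b := y ^ n) (i := orderOf y / n)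
        rw [inv_inv] at h1
        rw [h1, ← pow_mul, Nat.mul_div_cancel' hn, pow_orderOf_eq_one]
        group
      have hmem : g⁻¹ * y ^ n * g ∈ E := by
        refine ⟨hz, hzH, k, ?_⟩
        have h1 := conj_pow (a := g⁻¹) (b := y ^ n) (i := p ^ k)
        rw [inv_inv] at h1
        rw [h1, ← pow_mul, mul_comm, pow_mul, hyk]
        group
      have h2 := hymin _ hmem
      have hnpos : 0 < n := Nat.pos_of_dvd_of_pos hn hord0
      have hdivpos : 0 < orderOf y / n := Nat.div_pos (Nat.le_of_dvd hord0 hn) hnpos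
      have h3 : orderOf (g⁻¹ * y ^ n * g) ≤ orderOf y / n :=
        Nat.le_of_dvd hdivpos (orderOf_dvd_of_pow_eq_one hzk)
      have h4 : orderOf y / n < orderOf y := Nat.div_lt_self hord0 (by omega)
      omega)
  have hVne : MonoidHom.transfer ϕ y ≠ 1 := by
    rw [hV]
    intro h
    exact hyH ((hϕ _).1 h)
  have hker : (MonoidHom.transfer ϕ).ker = ⊥ ∨ (MonoidHom.transfer ϕ).ker = ⊤ :=
    hsimple _ (MonoidHom.normal_ker _)
  rcases hker with h | h
  · apply hG
    have hinj : Function.Injective (MonoidHom.transfer ϕ) := (MonoidHom.ker_eq_bot_iff _).mp h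
    refine ⟨⟨fun a b => hinj ?_⟩⟩
    rw [map_mul, map_mul, mul_comm]
  · apply hVne
    have : y ∈ (MonoidHom.transfer ϕ).ker := by rw [h]; exact mem_top y
    exact this

end CfsgLib.Local.TransOut
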