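import Cfsg.Agent.Lib.H3.TransferTools
import Cfsg.Agent.Lib.Local.Large2
import Cfsg.Agent.Lib.Solv.Core

/-! The transfer of a central involution that is not in the Frattini subgroup of a Sylow `2`-subgroup. -/

set_option autoImplicit false

namespace CfsgLib.Local

open Cfsg Subgroup CfsgLib.Fusion MulAction

variable {G : Type*} [Group G] [Finite G]

/-- The transfer of a central involution `z` of a Sylow `2`-subgroup fixed by its normalizer. -/
theorem transfer_central_involution {H : Subgroup G} (hHp : IsPGroup 2 H) (hodd : Odd H.index)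
    (z : G) (hz : z ∈ H) (hz2 : z ^ 2 = 1)
    (hcen : ∀ s ∈ H, s * z = z * s)
    (hN : ∀ g ∈ normalizer (H : Set G), g⁻¹ * z * g = z)
    (ϕ : ↥H →* ℤˣ) (hϕ : ϕ ⟨z, hz⟩ = -1) :
    MonoidHom.transfer ϕ z = -1 := by
  classical
  haveI hp2 : Fact (Nat.Prime 2) := ⟨Nat.prime_two⟩
  have : FiniteIndex H := inferInstance
  letI : Fintype (G ⧸ H) := H.fintypeQuotientOfFiniteIndex
  letI : Fintype (Quotient (orbitRel (zpowers z) (G ⧸ H))) := Fintype.ofFinite _
  rw [MonoidHom.transfer_eq_prod_quotient_orbitRel_zpowers_quot]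
  -- the predicate on cosets
  let P : G ⧸ H → Prop := fun x => ∃ h : x.out⁻¹ * z * x.out ∈ H, ϕ ⟨_, h⟩ = -1
  have hrep : ∀ (g : G) (x : G ⧸ H), (g : G ⧸ H) = x →
      (P x ↔ ∃ h : g⁻¹ * z * g ∈ H, ϕ ⟨_, h⟩ = -1) := by
    intro g x hgx
    have hmem : x.out⁻¹ * g ∈ H := by
      rw [← QuotientGroup.eq, QuotientGroup.out_eq', hgx]
    set u := x.out⁻¹ * g with hu
    have hgu : g = x.out * u := by rw [hu]; group
    have e : g⁻¹ * z * g = u⁻¹ * (x.out⁻¹ * z * x.out) * u := by rw [hgu]; group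
    constructor
    · rintro ⟨h, hv⟩
      have h' : g⁻¹ * z * g ∈ H := by
        rw [e]; exact mul_mem (mul_mem (inv_mem hmem) h) hmem
      refine ⟨h', ?_⟩
      have e2 : (⟨g⁻¹ * z * g, h'⟩ : H) = (⟨u, hmem⟩ : H)⁻¹ * ⟨_, h⟩ * ⟨u, hmem⟩ := Subtype.ext e
      rw [e2, map_mul, map_mul, map_inv, hv]
      simp [mul_comm]
    · rintro ⟨h, hv⟩
      have h' : x.out⁻¹ * z * x.out ∈ H := by
        have e3 : x.out⁻¹ * z * x.out = u * (g⁻¹ * z * g) * u⁻¹ := by rw [e]; group
        rw [e3]; exact mul_mem (mul_mem hmem h) (inv_mem hmem)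
      refine ⟨h', ?_⟩
      have e2 : (⟨g⁻¹ * z * g, h⟩ : H) = (⟨u, hmem⟩ : H)⁻¹ * ⟨_, h'⟩ * ⟨u, hmem⟩ := Subtype.ext e
      rw [e2, map_mul, map_mul, map_inv, mul_comm (ϕ _)⁻¹, inv_mul_cancel_right] at hv
      exact hv
  -- fixed cosets
  have hfix : ∀ (y : G) (x : G ⧸ H), y • x = x ↔ x.out⁻¹ * y * x.out ∈ H := by
    intro y x
    have h1 : ((y * x.out : G) : G ⧸ H) = y • x := MulAction.Quotient.mk_smul_out H y x
    rw [← h1]
    constructor
    · intro h
      have h2 : ((y * x.out : G) : G ⧸ H) = (x.out : G ⧸ H) := by rw [h, QuotientGroup.out_eq']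
      have := QuotientGroup.eq.mp h2.symm
      rwa [← mul_assoc] at this
    · intro h
      have h2 : ((x.out : G) : G ⧸ H) = ((y * x.out : G) : G ⧸ H) :=
        QuotientGroup.eq.mpr (by rwa [← mul_assoc])
      rw [← h2, QuotientGroup.out_eq']
  -- the terms of the product
  have hterm : ∀ q : Quotient (orbitRel (zpowers z) (G ⧸ H)),
      ϕ ⟨q.out.out⁻¹ * z ^ Function.minimalPeriod (z • ·) q.out * q.out.out,
        QuotientGroup.out_conj_pow_minimalPeriod_mem H z q.out⟩ = if P q.out then -1 else 1 := by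
    intro q
    set x := q.out with hx
    have hper : Function.IsPeriodicPt (z • · : G ⧸ H → G ⧸ H) 2 x := by
      show (z • ·)^[2] x = x
      simp only [Function.iterate_succ, Function.iterate_zero, Function.comp, id]
      rw [← mul_smul, ← pow_two, hz2, one_smul]
    have hd := hper.minimalPeriod_dvd
    rcases (Nat.dvd_prime Nat.prime_two).mp hd with h1 | h2
    · have hz1 : x.out⁻¹ * z * x.out ∈ H := by
        rw [← hfix]
        exact Function.minimalPeriod_eq_one_iff_isFixedPt.mp h1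
      have e0 : (⟨x.out⁻¹ * z ^ Function.minimalPeriod (z • ·) x * x.out,
          QuotientGroup.out_conj_pow_minimalPeriod_mem H z x⟩ : H) = ⟨x.out⁻¹ * z * x.out, hz1⟩ := by
        apply Subtype.ext
        show x.out⁻¹ * z ^ Function.minimalPeriod (z • ·) x * x.out = _
        rw [h1, pow_one]
      rw [e0]
      by_cases hP : P x
      · rw [if_pos hP]
        obtain ⟨h, hv⟩ := hP
        exact hv
      · rw [if_neg hP]
        rcases Int.units_eq_one_or (ϕ ⟨x.out⁻¹ * z * x.out, hz1⟩) with h | h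
        · exact h
        · exact absurd ⟨hz1, h⟩ hP
    · have hP : ¬ P x := by
        rintro ⟨h, -⟩
        have h3 : Function.IsFixedPt (z • · : G ⧸ H → G ⧸ H) x := (hfix z x).mpr h
        rw [Function.minimalPeriod_eq_one_iff_isFixedPt.mpr h3] at h2
        omega
      rw [if_neg hP]
      have e0 : (⟨x.out⁻¹ * z ^ Function.minimalPeriod (z • ·) x * x.out,
          QuotientGroup.out_conj_pow_minimalPeriod_mem H z x⟩ : H) = 1 := by
        apply Subtype.ext
        show x.out⁻¹ * z ^ Function.minimalPeriod (z • ·) x * x.out = 1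
        rw [h2, hz2]
        group
      rw [e0, map_one]
  refine (Finset.prod_congr rfl fun q _ => hterm q).trans ?_
  rw [Finset.prod_ite, Finset.prod_const, Finset.prod_const_one, mul_one]
  -- counting
  have hbij : (Finset.univ.filter fun q : Quotient (orbitRel (zpowers z) (G ⧸ H)) => P q.out).card =
      (Finset.univ.filter P).card := by
    refine Finset.card_bij (fun q _ => q.out) ?_ ?_ ?_
    · intro q hq
      simpa using hq
    · intro q _ q' _ h
      exact Quotient.out_injective h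
    · intro x hx
      have hPx : P x := by simpa using hx
      obtain ⟨h, -⟩ := id hPx
      have hfx : z • x = x := (hfix z x).mpr h
      have hq : (Quotient.mk (orbitRel (zpowers z) (G ⧸ H)) x).out = x := by
        have h1 := Quotient.mk_out (s := orbitRel (zpowers z) (G ⧸ H)) x
        obtain ⟨k, hk⟩ := h1
        have h2 : z ∈ stabilizer G x := hfx
        have h3 : (k : G) ∈ stabilizer G x := (Subgroup.zpowers_le.mpr h2) k.2
        have h4 : (k : G) • x = x := h3
        have h5 : k • x = x := h4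
        rw [← hk]
        exact h5
      refine ⟨Quotient.mk _ x, ?_, hq⟩
      simp only [Finset.mem_filter, Finset.mem_univ, true_and]
      rw [hq]
      exact hPx
  rw [hbij]
  -- parity
  have hPinv : ∀ (s : G), s ∈ H → ∀ x : G ⧸ H, (P (s • x) ↔ P x) := by
    intro s hs x
    have e1 : ((s * x.out : G) : G ⧸ H) = s • x := MulAction.Quotient.mk_smul_out H s x
    have e2 : ((x.out : G) : G ⧸ H) = x := QuotientGroup.out_eq' x
    rw [hrep (s * x.out) (s • x) e1, hrep x.out x e2]
    have e3 : (s * x.out)⁻¹ * z * (s * x.out) = x.out⁻¹ * z * x.out := by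
      have : s⁻¹ * z * s = z := by
        rw [mul_assoc, ← hcen s hs, ← mul_assoc, inv_mul_cancel, one_mul]
      calc (s * x.out)⁻¹ * z * (s * x.out) = x.out⁻¹ * (s⁻¹ * z * s) * x.out := by group
        _ = _ := by rw [this]
    simp only [e3]
  let C : SubMulAction ↥H (G ⧸ H) :=
    { carrier := {x | ¬ P x}
      smul_mem' := by
        intro s x hx
        have : ¬ P ((s : G) • x) := fun h => hx ((hPinv s s.2 x).mp h)
        exact this }
  have hcard := hHp.card_modEq_card_fixedPoints ↥C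
  have hfp : IsEmpty (fixedPoints ↥H ↥C) := by
    constructor
    rintro ⟨⟨x, hx⟩, hf⟩
    apply hx
    have hall : ∀ s ∈ H, s • x = x := fun s hs => congrArg Subtype.val (hf ⟨s, hs⟩)
    have hgN : x.out ∈ normalizer (H : Set G) := by
      have : x.out⁻¹ ∈ normalizer (H : Set G) := by
        refine mem_normalizer_of_conj_mem fun s hs => ?_
        rw [inv_inv]
        exact (hfix s x).mp (hall s hs)
      simpa using inv_mem this
    have e := hN x.out hgN
    have hm : x.out⁻¹ * z * x.out ∈ H := by rw [e]; exact hz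
    refine ⟨hm, ?_⟩
    have e2 : (⟨x.out⁻¹ * z * x.out, hm⟩ : H) = ⟨z, hz⟩ := Subtype.ext e
    rw [e2]
    exact hϕ
  have h0 : Nat.card (fixedPoints ↥H ↥C) = 0 := Nat.card_of_isEmpty
  rw [h0] at hcard
  have hCeven : 2 ∣ Nat.card ↥C := (Nat.modEq_zero_iff_dvd).mp hcard
  have hsum : (Finset.univ.filter P).card + Nat.card ↥C = H.index := by
    have h1 : Nat.card ↥C = (Finset.univ.filter fun x => ¬ P x).card := by
      have h2 : Nat.card ↥C = Nat.card {x // ¬ P x} := rfl
      rw [h2, Nat.card_eq_fintype_card, Fintype.card_subtype]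
    rw [h1, Finset.card_filter_add_card_filter_not]
    rw [Subgroup.index, Nat.card_eq_fintype_card, Finset.card_univ]
  have hPodd : Odd (Finset.univ.filter P).card := by
    by_contra hne
    rw [Nat.not_odd_iff_even] at hne
    have : Even H.index := by
      rw [← hsum]
      exact hne.add (even_iff_two_dvd.mpr hCeven)
    exact (Nat.not_even_iff_odd.mpr hodd) this
  exact hPodd.neg_one_pow

/-- `S2872`. -/
theorem residual_or_frattini_or_action (S : Sylow 2 G) :
    pResidual 2 G ≠ ⊤ ∨
    omegaOne 2 ((S : Subgroup G) ⊓ centralizer ((S : Subgroup G) : Set G)) ≤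
        (frattini ↥(S : Subgroup G)).map (S : Subgroup G).subtype ∨
    ∃ g ∈ normalizer ((S : Subgroup G) : Set G),
      ∃ z ∈ omegaOne 2 ((S : Subgroup G) ⊓ centralizer ((S : Subgroup G) : Set G)), g * z * g⁻¹ ≠ z := by
  classical
  by_contra hcon
  push Not at hcon
  obtain ⟨h1, h2, h3⟩ := hcon
  haveI hp2 : Fact (Nat.Prime 2) := ⟨Nat.prime_two⟩
  -- an involution of `Z(S)` outside the Frattini subgroup
  obtain ⟨z, hz, hzF⟩ : ∃ z : G, (z ∈ (S : Subgroup G) ⊓ centralizer ((S : Subgroup G) : Set G) ∧ z ^ 2 = 1) ∧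
      z ∉ (frattini ↥(S : Subgroup G)).map (S : Subgroup G).subtype := by
    by_contra hno
    push Not at hno
    apply h2
    refine (Subgroup.closure_le _).mpr ?_
    rintro x ⟨hx, hx2⟩
    exact hno x ⟨hx, hx2⟩
  obtain ⟨⟨hzS, hzC⟩, hz2⟩ := hz
  have hz' : (⟨z, hzS⟩ : ↥(S : Subgroup G)) ∉ frattini ↥(S : Subgroup G) := fun h => hzF ⟨_, h, rfl⟩
  rw [CfsgLib.Solv.mem_frattini_iff] at hz'
  push Not at hz'
  obtain ⟨M, hM, hzM⟩ := hz'
  have hSp : IsPGroup 2 ↥(S : Subgroup G) := S.2
  obtain ⟨hMn, hMi⟩ := CfsgLib.Solv.coatom_of_pgroup hSp hM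
  have hcardQ : Nat.card (↥(S : Subgroup G) ⧸ M) = 2 := hMi
  have hcardU : Nat.card ℤˣ = 2 := by
    rw [Nat.card_eq_fintype_card, Fintype.card_units_int]
  let e : (↥(S : Subgroup G) ⧸ M) ≃* ℤˣ := mulEquivOfPrimeCardEq hcardQ hcardU
  let ϕ : ↥(S : Subgroup G) →* ℤˣ := e.toMonoidHom.comp (QuotientGroup.mk' M)
  have hϕ : ϕ ⟨z, hzS⟩ = -1 := by
    rcases Int.units_eq_one_or (ϕ ⟨z, hzS⟩) with h | h
    · exfalso
      apply hzM
      have h4 : QuotientGroup.mk' M ⟨z, hzS⟩ = 1 := by
        have : e (QuotientGroup.mk' M ⟨z, hzS⟩) = 1 := h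
        simpa using this
      exact (QuotientGroup.eq_one_iff _).mp h4
    · exact h
  have hodd : Odd (S : Subgroup G).index := by
    have := S.not_dvd_index
    rw [Nat.odd_iff]
    omega
  have hV := transfer_central_involution hSp hodd z hzS hz2
    (fun s hs => (Subgroup.mem_centralizer_iff.mp hzC s hs))
    (fun g hg => by
      have h5 := h3 g⁻¹ (inv_mem hg) z (Subgroup.subset_closure ⟨⟨hzS, hzC⟩, hz2⟩)
      simpa using h5) ϕ hϕ
  have hle : pResidual 2 G ≤ (MonoidHom.transfer ϕ).ker := by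
    refine (Subgroup.closure_le _).mpr ?_
    intro y hy
    have hy' : (orderOf y).Coprime 2 := hy
    show MonoidHom.transfer ϕ y = 1
    have h6 : (MonoidHom.transfer ϕ y) ^ orderOf y = 1 := by
      rw [← map_pow, pow_orderOf_eq_one, map_one]
    have hoddy : Odd (orderOf y) := by
      rw [Nat.odd_iff]
      have := Nat.Coprime.symm hy'
      rcases Nat.even_or_odd (orderOf y) with he | ho
      · exfalso
        have h7 := Nat.Coprime.eq_one_of_dvd hy'.symm (even_iff_two_dvd.mp he)
        omega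
      · exact Nat.odd_iff.mp ho
    rcases Int.units_eq_one_or (MonoidHom.transfer ϕ y) with h | h
    · exact h
    · rw [h, hoddy.neg_one_pow] at h6
      exact absurd h6 (by decide)
  rw [h1] at hle
  have h8 : z ∈ (MonoidHom.transfer ϕ).ker := hle trivial
  rw [MonoidHom.mem_ker, hV] at h8
  exact absurd h8 (by decide)

end CfsgLib.Local
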